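import Cfsg.Agent.Lib.S5180.Defs
import Cfsg.Prelude.Def_FusionSystem
import Cfsg.Agent.Lib.PGroup.FrattiniBasis

/-! S5180 B0: basic facts on `Frat`, and a rank four section contradicts sectional rank three. -/

set_option autoImplicit false
open scoped commutatorElement
open Cfsg

namespace Cfsg.Agent.Lib.S5180
universe u

section Pure
variable {T : Type u} [Group T] [Finite T] {p : ℕ} [Fact p.Prime]

theorem frat_le (E : Subgroup T) : Frat E ≤ E := by
  unfold Frat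
  rintro _ ⟨x, -, rfl⟩
  exact x.2

theorem pow_mem_frat {E : Subgroup T} (hE : IsPGroup p E) {x : T} (hx : x ∈ E) : x ^ p ∈ Frat E :=
  ⟨(⟨x, hx⟩ : E) ^ p, Cfsg.Agent.Lib.PGroup.FrattiniBasis.pow_mem_frattini hE _, rfl⟩

theorem comm_mem_frat {E : Subgroup T} (hE : IsPGroup p E) {x y : T} (hx : x ∈ E) (hy : y ∈ E) :
    ⁅x, y⁆ ∈ Frat E :=
  ⟨⁅(⟨x, hx⟩ : E), (⟨y, hy⟩ : E)⁆, Cfsg.Agent.Lib.PGroup.FrattiniBasis.commutator_le_frattini hE
    (Subgroup.commutator_mem_commutator trivial trivial), rfl⟩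

theorem frat_le_of_relIndex {E M : Subgroup T} (hE : IsPGroup p E) (hM : M ≤ E)
    (hi : M.relIndex E = p) : Frat E ≤ M := by
  have hp : p.Prime := Fact.out
  have hcoat : IsCoatom (M.subgroupOf E) := by
    refine ⟨?_, fun K hK => ?_⟩
    · intro h
      have h1 : (M.subgroupOf E).index = p := hi
      rw [h, Subgroup.index_top] at h1
      exact hp.one_lt.ne h1
    · have hdvd : K.index ∣ (M.subgroupOf E).index := Subgroup.index_dvd_of_le hK.le
      have h1 : (M.subgroupOf E).index = p := hi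
      rw [h1] at hdvd
      rcases (Nat.dvd_prime hp).1 hdvd with h2 | h2
      · exact Subgroup.index_eq_one.1 h2
      · exfalso
        have h3 := Subgroup.card_mul_index (M.subgroupOf E)
        have h4 := Subgroup.card_mul_index K
        rw [h1] at h3
        rw [h2] at h4
        have h5 : Nat.card (M.subgroupOf E) = Nat.card K :=
          Nat.eq_of_mul_eq_mul_right hp.pos (h3.trans h4.symm)
        exact hK.ne (Subgroup.eq_of_le_of_card_ge hK.le h5.ge)
  have h := frattini_le_coatom hcoat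
  rintro _ ⟨x, hx, rfl⟩
  have h2 := h hx
  rwa [Subgroup.mem_subgroupOf] at h2

theorem frat_map (E : Subgroup T) (σ : MulAut T) :
    Frat (E.map σ.toMonoidHom) = (Frat E).map σ.toMonoidHom := by
  unfold Frat
  let e : E ≃* E.map σ.toMonoidHom := E.equivMapOfInjective σ.toMonoidHom σ.injective
  have h : (frattini E).map e.toMonoidHom = frattini (E.map σ.toMonoidHom) :=
    e.mapSubgroup.map_radical
  rw [← h, Subgroup.map_map, Subgroup.map_map]
  rfl

theorem sectional_mono {G : Type*} [Group G] {k : ℕ} (h : SectionalPRankLE p k G) (H : Subgroup G) :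
    SectionalPRankLE p k H := by
  intro K N _ A hAc hAp
  let K' : Subgroup G := K.map H.subtype
  let e : K ≃* K' := K.equivMapOfInjective H.subtype H.subtype_injective
  let N' : Subgroup K' := N.map e.toMonoidHom
  haveI hN' : N'.Normal := Subgroup.Normal.map inferInstance e.toMonoidHom e.surjective
  let f : (K ⧸ N) ≃* (K' ⧸ N') := QuotientGroup.congr N N' e rfl
  have h1 := h K' N' (A.map f.toMonoidHom)
    ⟨⟨by
      rintro ⟨_, x, hx, rfl⟩ ⟨_, y, hy, rfl⟩
      apply Subtype.ext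
      show f.toMonoidHom x * f.toMonoidHom y = f.toMonoidHom y * f.toMonoidHom x
      rw [← map_mul, ← map_mul]
      congr 1
      exact congrArg Subtype.val (hAc.is_comm.comm ⟨x, hx⟩ ⟨y, hy⟩)⟩⟩
    (by
      rintro _ ⟨x, hx, rfl⟩
      rw [← map_pow, hAp x hx, map_one])
  have e2 : Nat.card (A.map f.toMonoidHom) = Nat.card A :=
    Subgroup.card_map_of_injective (f := f.toMonoidHom) f.injective
  rwa [e2] at h1

/-- Exponent bookkeeping for the independence argument. -/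
theorem four_aux {A : Type*} [Group A] (hc : ∀ x y : A, x * y = y * x) {n : ℕ} {α β γ δ : A}
    (h1 : α ^ n = 1) (h2 : β ^ n = 1) (h3 : γ ^ n = 1) (h4 : δ ^ n = 1) {i j k m i' j' k' m' : ℕ}
    (hi : i' ≤ n) (hj : j' ≤ n) (hk : k' ≤ n) (hm : m' ≤ n)
    (h : α ^ i * β ^ j * γ ^ k * δ ^ m = α ^ i' * β ^ j' * γ ^ k' * δ ^ m') :
    α ^ (i + (n - i')) * β ^ (j + (n - j')) * γ ^ (k + (n - k')) * δ ^ (m + (n - m')) = 1 := by
  letI : CommGroup A := { (inferInstance : Group A) with mul_comm := hc }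
  have e : ∀ (x : A) (r : ℕ), x ^ n = 1 → r ≤ n → x ^ (n - r) = (x ^ r)⁻¹ := by
    intro x r hx hr
    rw [eq_inv_iff_mul_eq_one, ← pow_add, Nat.sub_add_cancel hr, hx]
  rw [pow_add, pow_add, pow_add, pow_add, e α i' h1 hi, e β j' h2 hj, e γ k' h3 hk, e δ m' h4 hm]
  calc α ^ i * (α ^ i')⁻¹ * (β ^ j * (β ^ j')⁻¹) * (γ ^ k * (γ ^ k')⁻¹) * (δ ^ m * (δ ^ m')⁻¹)
      = (α ^ i * β ^ j * γ ^ k * δ ^ m) * (α ^ i' * β ^ j' * γ ^ k' * δ ^ m')⁻¹ := by
        simp only [mul_inv]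
        ac_rfl
    _ = 1 := by rw [h, mul_inv_cancel]

theorem four_eq_of_dvd {n i i' : ℕ} (hi : i < n) (hi' : i' < n) (h : n ∣ i + (n - i')) : i = i' := by
  obtain ⟨c, hc⟩ := h
  have hc1 : c = 1 := by
    rcases c with _ | _ | c
    · simp at hc
      omega
    · rfl
    · exfalso
      have : n * 2 ≤ n * (c + 1 + 1) := Nat.mul_le_mul_left _ (by omega)
      omega
  subst hc1
  simp at hc
  omega

/-- four commuting independent elements of order `p` modulo `N` in a section: rank ≥ 4. -/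
theorem not_sectional_four {G : Type*} [Group G] [Finite G] (H N : Subgroup G) (hNH : N ≤ H)
    (hnorm : ∀ h ∈ H, ∀ n ∈ N, h * n * h⁻¹ ∈ N) {a b c d : G} (ha : a ∈ H) (hb : b ∈ H) (hc : c ∈ H)
    (hd : d ∈ H)
    (hcomm : ∀ u ∈ ({a, b, c, d} : Set G), ∀ v ∈ ({a, b, c, d} : Set G), ⁅u, v⁆ ∈ N)
    (hpow : ∀ u ∈ ({a, b, c, d} : Set G), u ^ p ∈ N)
    (hind : ∀ i j k m : ℕ, a ^ i * b ^ j * c ^ k * d ^ m ∈ N → p ∣ i ∧ p ∣ j ∧ p ∣ k ∧ p ∣ m) :
    ¬ SectionalPRankLE p 3 G := by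
  classical
  intro hs
  have hp : p.Prime := Fact.out
  haveI hN : (N.subgroupOf H).Normal := ⟨fun n hn' g => by
    rw [Subgroup.mem_subgroupOf] at hn' ⊢
    exact hnorm g.1 g.2 n.1 hn'⟩
  let π : H →* H ⧸ N.subgroupOf H := QuotientGroup.mk' (N.subgroupOf H)
  have hker : ∀ x : H, π x = 1 ↔ (x : G) ∈ N := fun x => by
    show ((x : H) : H ⧸ N.subgroupOf H) = 1 ↔ _
    rw [QuotientGroup.eq_one_iff, Subgroup.mem_subgroupOf]
  let a' : H := ⟨a, ha⟩
  let b' : H := ⟨b, hb⟩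
  let c' : H := ⟨c, hc⟩
  let d' : H := ⟨d, hd⟩
  let S : Set (H ⧸ N.subgroupOf H) := {π a', π b', π c', π d'}
  have hmem : ∀ x ∈ S, ∃ x' : H, (x' : G) ∈ ({a, b, c, d} : Set G) ∧ π x' = x := by
    rintro x (rfl | rfl | rfl | rfl)
    · exact ⟨a', by simp [a'], rfl⟩
    · exact ⟨b', by simp [b'], rfl⟩
    · exact ⟨c', by simp [c'], rfl⟩
    · exact ⟨d', by simp [d'], rfl⟩
  have hS : ∀ x ∈ S, ∀ y ∈ S, x * y = y * x := by
    intro x hx y hy
    obtain ⟨x', hx', rfl⟩ := hmem x hx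
    obtain ⟨y', hy', rfl⟩ := hmem y hy
    have h1 : π ⁅x', y'⁆ = 1 := (hker _).2 (hcomm _ hx' _ hy')
    rw [map_commutatorElement] at h1
    exact commutatorElement_eq_one_iff_mul_comm.1 h1
  let A : Subgroup (H ⧸ N.subgroupOf H) := Subgroup.closure S
  have hAc : IsMulCommutative A := Subgroup.isMulCommutative_closure hS
  have hAcomm : ∀ x y : A, x * y = y * x := fun x y => hAc.is_comm.comm x y
  have hAp : ∀ x ∈ A, x ^ p = 1 := by
    intro x hx
    induction hx using Subgroup.closure_induction with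
    | mem y hy =>
      obtain ⟨y', hy', rfl⟩ := hmem y hy
      rw [← map_pow]
      exact (hker _).2 (hpow _ hy')
    | one => exact one_pow _
    | mul x y hx hy hxp hyp =>
      have hco : Commute x y := congrArg Subtype.val (hAcomm ⟨x, hx⟩ ⟨y, hy⟩)
      rw [hco.mul_pow, hxp, hyp, one_mul]
    | inv x hx hxp => rw [inv_pow, hxp, inv_one]
  have hle := hs H (N.subgroupOf H) A hAc hAp
  let α : A := ⟨π a', Subgroup.subset_closure (by simp [S])⟩
  let β : A := ⟨π b', Subgroup.subset_closure (by simp [S])⟩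
  let γ : A := ⟨π c', Subgroup.subset_closure (by simp [S])⟩
  let δ : A := ⟨π d', Subgroup.subset_closure (by simp [S])⟩
  have hα : α ^ p = 1 := Subtype.ext (hAp _ α.2)
  have hβ : β ^ p = 1 := Subtype.ext (hAp _ β.2)
  have hγ : γ ^ p = 1 := Subtype.ext (hAp _ γ.2)
  have hδ : δ ^ p = 1 := Subtype.ext (hAp _ δ.2)
  let φ : Fin p × Fin p × Fin p × Fin p → A := fun x =>
    α ^ (x.1 : ℕ) * β ^ (x.2.1 : ℕ) * γ ^ (x.2.2.1 : ℕ) * δ ^ (x.2.2.2 : ℕ)
  have hφ : Function.Injective φ := by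
    rintro ⟨i, j, k, m⟩ ⟨i', j', k', m'⟩ h
    have h1 := four_aux hAcomm hα hβ hγ hδ i'.2.le j'.2.le k'.2.le m'.2.le h
    have h2 : (a' ^ ((i : ℕ) + (p - i')) * b' ^ ((j : ℕ) + (p - j')) * c' ^ ((k : ℕ) + (p - k')) *
        d' ^ ((m : ℕ) + (p - m')) : H) ∈ {x : H | π x = 1} := by
      have h3 := congrArg Subtype.val h1
      simpa [α, β, γ, δ, map_mul, map_pow] using h3
    have h4 := (hker _).1 h2
    obtain ⟨h5, h6, h7, h8⟩ := hind _ _ _ _ h4
    have e1 := four_eq_of_dvd i.2 i'.2 h5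
    have e2 := four_eq_of_dvd j.2 j'.2 h6
    have e3 := four_eq_of_dvd k.2 k'.2 h7
    have e4 := four_eq_of_dvd m.2 m'.2 h8
    simp only [Prod.mk.injEq]
    exact ⟨Fin.ext e1, Fin.ext e2, Fin.ext e3, Fin.ext e4⟩
  have hcard := Nat.card_le_card_of_injective φ hφ
  have hcard2 : Nat.card (Fin p × Fin p × Fin p × Fin p) = p ^ 3 * p := by
    rw [Nat.card_eq_fintype_card]
    simp only [Fintype.card_prod, Fintype.card_fin]
    ring
  rw [hcard2] at hcard
  have hlt : p ^ 3 < p ^ 3 * p :=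
    lt_mul_of_one_lt_right (pow_pos hp.pos 3) hp.one_lt
  omega

end Pure

end Cfsg.Agent.Lib.S5180
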