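/-
S5180: definitions for the blueprint tools/s5180/PLAN.md.
-/
import Mathlib
import Cfsg.Prelude.Def_CaseTheorems

set_option autoImplicit false

open scoped commutatorElement

namespace Cfsg.Agent.Lib.S5180

universe u

variable {T : Type u} [Group T]

/-- `Φ(E)` as a subgroup of the ambient group. -/
def Frat (E : Subgroup T) : Subgroup T := (frattini E).map E.subtype

/-- `[Φ(E),E]Φ(Φ(E))`. -/
def Frat2 (E : Subgroup T) : Subgroup T := ⁅Frat E, E⁆ ⊔ Frat (Frat E)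

/-- The transvection configuration: `E` maximal in `T`, `E/Φ(E)` has basis `l,y,w`, `t ∉ E` acts by
`y ↦ y l`, fixing `l,w`; `ah` is the torus element `diag(lam, lam⁻¹, 1)`, `as'` the Weyl element
(`y ↦ l`, `l ↦ y⁻¹`, `w ↦ w`); `hat` extends `ah` to `T`. -/
structure Tv (p : ℕ) (E : Subgroup T) (l y w t : T) (ah as' : MulAut E) (lam lam' : ℕ)
    (hat : MulAut T) : Prop where
  hl : l ∈ E
  hy : y ∈ E
  hw : w ∈ E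
  ht : t ∉ E
  idx : E.index = p
  rk : (Frat E).relIndex E = p ^ 3
  indep : ∀ a b c : ℕ, l ^ a * y ^ b * w ^ c ∈ Frat E → p ∣ a ∧ p ∣ b ∧ p ∣ c
  yt : ⁅y, t⁆ * l⁻¹ ∈ Frat E
  lt : ⁅l, t⁆ ∈ Frat E
  wt : ⁅w, t⁆ ∈ Frat E
  lamlam : lam * lam' ≡ 1 [MOD p]
  lam2 : ¬ lam ^ 2 ≡ 1 [MOD p]
  lam3 : ¬ lam ^ 3 ≡ 1 [MOD p]
  lam5 : ¬ lam ^ 5 ≡ 1 [MOD p]
  ah_l : ((ah ⟨l, hl⟩ : E) : T) * (l ^ lam)⁻¹ ∈ Frat E
  ah_y : ((ah ⟨y, hy⟩ : E) : T) * (y ^ lam')⁻¹ ∈ Frat E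
  ah_w : ((ah ⟨w, hw⟩ : E) : T) * w⁻¹ ∈ Frat E
  as_y : ((as' ⟨y, hy⟩ : E) : T) * l⁻¹ ∈ Frat E
  as_l : ((as' ⟨l, hl⟩ : E) : T) * y ∈ Frat E
  as_w : ((as' ⟨w, hw⟩ : E) : T) * w⁻¹ ∈ Frat E
  hat_E : ∀ z : E, hat (z : T) = ((ah z : E) : T)
  hat_t : hat t * (t ^ (lam ^ 2))⁻¹ ∈ E

end Cfsg.Agent.Lib.S5180
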