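import Cfsg.Agent.Lib.S5180.Basic
import Cfsg.Prelude.Def_FusionSystem

set_option autoImplicit false
open scoped commutatorElement

namespace Cfsg.Agent.Lib.S5180.LMAlg

variable {Q : Type*} [Group Q]

theorem comm_mul_left {z a b : Q} (hz : ∀ x, Commute z x) : ⁅a * z, b⁆ = ⁅a, b⁆ := by
  simp only [commutatorElement_def]
  have h1 : a * z * b * (a * z)⁻¹ * b⁻¹ = a * (z * b * z⁻¹) * a⁻¹ * b⁻¹ := by group
  rw [h1, (hz b).eq]
  group

theorem comm_mul_right {z a b : Q} (hz : ∀ x, Commute z x) : ⁅a, b * z⁆ = ⁅a, b⁆ := by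
  simp only [commutatorElement_def]
  have h1 : a * (b * z) * a⁻¹ * (b * z)⁻¹ = a * b * (z * a⁻¹ * z⁻¹) * b⁻¹ := by group
  rw [h1, (hz a⁻¹).eq]
  group

theorem comm_pow_left (hc : ∀ a b x : Q, Commute ⁅a, b⁆ x) (a b : Q) (n : ℕ) :
    ⁅a ^ n, b⁆ = ⁅a, b⁆ ^ n := by
  induction n with
  | zero => simp
  | succ n ih =>
    rw [pow_succ, pow_succ, ← ih]
    have h1 : ⁅a ^ n * a, b⁆ = a ^ n * ⁅a, b⁆ * (a ^ n)⁻¹ * ⁅a ^ n, b⁆ := by
      simp only [commutatorElement_def]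
      group
    rw [h1, ← ((hc a b (a ^ n)).eq), mul_inv_cancel_right]
    exact (hc _ _ _).eq

theorem comm_inv_swap (a b : Q) : ⁅a, b⁆⁻¹ = ⁅b, a⁆ := commutatorElement_inv a b

theorem comm_pow_right (hc : ∀ a b x : Q, Commute ⁅a, b⁆ x) (a b : Q) (n : ℕ) :
    ⁅a, b ^ n⁆ = ⁅a, b⁆ ^ n := by
  have h1 := comm_pow_left hc b a n
  rw [← commutatorElement_inv, h1, ← commutatorElement_inv, inv_pow, inv_inv]

/-- separation of two eigenvalues. -/
theorem sep2 {p : ℕ} [Fact p.Prime] {A B : Q} (hA : A ^ p = 1) (h : A * B = 1) {a b : ℕ}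
    (h' : A ^ a * B ^ b = 1) (hne : ¬ a ≡ b [MOD p]) : A = 1 := by
  by_contra hA1
  have hord : orderOf A = p := orderOf_eq_prime hA hA1
  have hB : B = A⁻¹ := eq_inv_of_mul_eq_one_right h
  rw [hB, inv_pow] at h'
  have h3 : A ^ a = A ^ b := eq_of_mul_inv_eq_one h'
  have h4 := (pow_eq_pow_iff_modEq).1 h3
  rw [hord] at h4
  exact hne h4

theorem eq_one_of_pow {p : ℕ} [Fact p.Prime] {A : Q} (hA : A ^ p = 1) {n : ℕ} (h : A ^ n = 1)
    (hn : ¬ p ∣ n) : A = 1 := by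
  by_contra hA1
  have hord : orderOf A = p := orderOf_eq_prime hA hA1
  exact hn (hord ▸ orderOf_dvd_of_pow_eq_one h)

theorem sep2' {p : ℕ} [Fact p.Prime] {A B : Q} (hA : A ^ p = 1) (hB : B ^ p = 1) (h : A * B = 1)
    (g : Q →* Q) {a b : ℕ} (hgA : g A = A ^ a) (hgB : g B = B ^ b) (hne : ¬ a ≡ b [MOD p]) :
    A = 1 ∧ B = 1 := by
  have h1 : A ^ a * B ^ b = 1 := by
    have := congrArg g h
    rwa [map_mul, hgA, hgB, map_one] at this
  have hA1 := sep2 hA h h1 hne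
  refine ⟨hA1, ?_⟩
  rw [hA1, one_mul] at h
  exact h

theorem sep3 {p : ℕ} [Fact p.Prime] {A B C : Q} (hA : A ^ p = 1) (hB : B ^ p = 1) (hAB : Commute A B)
    (h : A * B * C = 1) (g : Q →* Q) {a b : ℕ} (hgA : g A = A ^ a) (hgB : g B = B ^ b) (hgC : g C = C)
    (hne : ¬ a ≡ b [MOD p]) (ha : ¬ a ≡ 1 [MOD p]) (hb : ¬ b ≡ 1 [MOD p]) : A = 1 ∧ B = 1 := by
  have hp : 1 ≤ p := (Fact.out : p.Prime).one_lt.le
  have h1 : A ^ a * B ^ b * C = 1 := by
    have := congrArg g h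
    rwa [map_mul, map_mul, hgA, hgB, hgC, map_one] at this
  have hC : C = (A * B)⁻¹ := eq_inv_of_mul_eq_one_right h
  have h2 : A ^ a * B ^ b = A * B := by
    rw [hC] at h1
    exact mul_inv_eq_one.1 h1
  have hAi : A ^ (p - 1) = A⁻¹ := by
    apply eq_inv_of_mul_eq_one_left
    rw [← pow_succ, Nat.sub_add_cancel hp, hA]
  have hBi : B ^ (p - 1) = B⁻¹ := by
    apply eq_inv_of_mul_eq_one_left
    rw [← pow_succ, Nat.sub_add_cancel hp, hB]
  have hA1 : A ^ (a + (p - 1)) = A ^ a * A⁻¹ := by rw [pow_add, hAi]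
  have hB1 : B ^ (b + (p - 1)) = B ^ b * B⁻¹ := by rw [pow_add, hBi]
  have h3 : A ^ (a + (p - 1)) * B ^ (b + (p - 1)) = 1 := by
    rw [hA1, hB1]
    have hc1 : Commute A⁻¹ (B ^ b) := (hAB.inv_left).pow_right b
    calc A ^ a * A⁻¹ * (B ^ b * B⁻¹) = A ^ a * (A⁻¹ * B ^ b) * B⁻¹ := by group
      _ = A ^ a * (B ^ b * A⁻¹) * B⁻¹ := by rw [hc1.eq]
      _ = (A ^ a * B ^ b) * A⁻¹ * B⁻¹ := by group
      _ = A * B * A⁻¹ * B⁻¹ := by rw [h2]
      _ = A * (B * A⁻¹) * B⁻¹ := by group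
      _ = A * (A⁻¹ * B) * B⁻¹ := by rw [((hAB.inv_left).eq).symm]
      _ = 1 := by group
  have h4 : (A ^ (a + (p - 1))) ^ a * (B ^ (b + (p - 1))) ^ b = 1 := by
    have := congrArg g h3
    rw [map_mul, map_pow, map_pow, hgA, hgB, map_one] at this
    rw [pow_right_comm A (a + (p - 1)) a, pow_right_comm B (b + (p - 1)) b]
    exact this
  have hAp : (A ^ (a + (p - 1))) ^ p = 1 := by rw [pow_right_comm, hA, one_pow]
  have h5 := sep2 hAp h3 h4 hne
  have h6 : B ^ (b + (p - 1)) = 1 := by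
    rw [h5, one_mul] at h3
    exact h3
  have hdvd : ∀ c : ℕ, ¬ c ≡ 1 [MOD p] → ¬ p ∣ c + (p - 1) := by
    intro c hc hd
    apply hc
    have h7 : c + (p - 1) + 1 ≡ 0 + 1 [MOD p] := ((Nat.modEq_zero_iff_dvd).2 hd).add_right 1
    have h8 : c + (p - 1) + 1 = c + p := by omega
    rw [h8] at h7
    simpa [Nat.ModEq] using h7
  exact ⟨eq_one_of_pow hA h5 (hdvd a ha), eq_one_of_pow hB h6 (hdvd b hb)⟩

end Cfsg.Agent.Lib.S5180.LMAlg

set_option linter.unusedSectionVars false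
set_option linter.unusedVariables false
set_option linter.style.haveILetI false

namespace Cfsg.Agent.Lib.S5180

open Cfsg Cfsg.Agent.Lib.S5180.LMAlg

namespace LMAux


/-! ### The layer `Φ/Φ₂` -/
section Layer
variable {T : Type*} [Group T] [Finite T] {p : ℕ} [Fact p.Prime] {E : Subgroup T}

theorem frat_conj {e z : T} (he : e ∈ E) (hz : z ∈ Frat E) : e * z * e⁻¹ ∈ Frat E := by
  obtain ⟨f, hf, rfl⟩ := hz
  have hn : (frattini E).Normal := Subgroup.normal_of_characteristic _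
  exact ⟨(⟨e, he⟩ : E) * f * (⟨e, he⟩ : E)⁻¹, hn.conj_mem f hf _, rfl⟩

theorem comm_mem_frat2 {z e : T} (hz : z ∈ Frat E) (he : e ∈ E) : ⁅z, e⁆ ∈ Frat2 E :=
  (le_sup_left : ⁅Frat E, E⁆ ≤ Frat2 E) (Subgroup.commutator_mem_commutator hz he)

theorem frat2_le : Frat2 E ≤ Frat E := by
  refine sup_le ?_ (frat_le _)
  rw [Subgroup.commutator_le]
  intro a ha b hb
  have h1 : b * a⁻¹ * b⁻¹ ∈ Frat E := frat_conj hb (inv_mem ha)
  have h2 : ⁅a, b⁆ = a * (b * a⁻¹ * b⁻¹) := by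
    simp only [commutatorElement_def]
    group
  rw [h2]
  exact mul_mem ha h1

theorem frat2_conj {e n : T} (he : e ∈ E) (hn : n ∈ Frat2 E) : e * n * e⁻¹ ∈ Frat2 E := by
  have h1 := comm_mem_frat2 (frat2_le hn) he
  have h2 : e * n * e⁻¹ = ⁅n, e⁆⁻¹ * n := by
    simp only [commutatorElement_def]
    group
  rw [h2]
  exact mul_mem (inv_mem h1) hn

theorem frat_inv (α : MulAut E) {z : E} (hz : (z : T) ∈ Frat E) : ((α z : E) : T) ∈ Frat E := by
  obtain ⟨f, hf, hfz⟩ := hz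
  have hz' : f = z := Subtype.ext hfz
  subst hz'
  have hc : (frattini E).Characteristic := inferInstance
  have h1 := hc.fixed α
  have h2 : f ∈ (frattini E).comap α.toMonoidHom := by rw [h1]; exact hf
  exact ⟨α f, h2, rfl⟩

/-- restriction of an automorphism of `E` to `Φ(E)`. -/
noncomputable def restr (α : MulAut E) : ↥(Frat E) ≃* ↥(Frat E) where
  toFun x := ⟨(α ⟨x, frat_le _ x.2⟩ : E), frat_inv α (z := ⟨x, frat_le _ x.2⟩) x.2⟩
  invFun x := ⟨(α⁻¹ ⟨x, frat_le _ x.2⟩ : E), frat_inv α⁻¹ (z := ⟨x, frat_le _ x.2⟩) x.2⟩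
  left_inv x := by
    apply Subtype.ext
    simp only [Subtype.coe_eta]
    simp
  right_inv x := by
    apply Subtype.ext
    simp only [Subtype.coe_eta]
    simp
  map_mul' x y := by
    apply Subtype.ext
    have : (⟨((x * y : ↥(Frat E)) : T), frat_le _ (x * y).2⟩ : E) =
        ⟨x, frat_le _ x.2⟩ * ⟨y, frat_le _ y.2⟩ := rfl
    simp only [this, map_mul]
    rfl

theorem frat2_inv (α : MulAut E) {z : E} (hz : (z : T) ∈ Frat2 E) : ((α z : E) : T) ∈ Frat2 E := by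
  let M : Subgroup T := (((Frat2 E).subgroupOf E).comap α.toMonoidHom).map E.subtype
  have hM : Frat2 E ≤ M := by
    refine sup_le ?_ ?_
    · rw [Subgroup.commutator_le]
      intro a ha b hb
      have haE := frat_le _ ha
      refine ⟨⁅(⟨a, haE⟩ : E), (⟨b, hb⟩ : E)⁆, ?_, rfl⟩
      rw [SetLike.mem_coe, Subgroup.mem_comap, Subgroup.mem_subgroupOf]
      have h1 : α.toMonoidHom ⁅(⟨a, haE⟩ : E), (⟨b, hb⟩ : E)⁆ =
          ⁅α ⟨a, haE⟩, α ⟨b, hb⟩⁆ := map_commutatorElement α.toMonoidHom _ _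
      rw [h1]
      exact comm_mem_frat2 (frat_inv α (z := ⟨a, haE⟩) ha) (α ⟨b, hb⟩).2
    · intro x hx
      obtain ⟨f, hf, rfl⟩ := hx
      have hc : (frattini ↥(Frat E)).Characteristic := inferInstance
      have h1 := hc.fixed (restr α)
      have h2 : f ∈ (frattini ↥(Frat E)).comap (restr α).toMonoidHom := by rw [h1]; exact hf
      refine ⟨⟨f, frat_le _ f.2⟩, ?_, rfl⟩
      rw [SetLike.mem_coe, Subgroup.mem_comap, Subgroup.mem_subgroupOf]
      exact (le_sup_right : Frat (Frat E) ≤ Frat2 E) ⟨restr α f, h2, rfl⟩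
  obtain ⟨z', hz', hzz⟩ := hM hz
  have : z' = z := Subtype.ext hzz
  subst this
  rw [SetLike.mem_coe, Subgroup.mem_comap, Subgroup.mem_subgroupOf] at hz'
  exact hz'

end Layer

end LMAux

open LMAux


section Main
variable {T : Type*} [Group T] [Finite T] {p : ℕ} [Fact p.Prime]
variable {E : Subgroup T} {l y w t : T} {ah as' : MulAut E} {lam lam' : ℕ} {hat : MulAut T}

theorem Tv.lemmaM (h : Tv p E l y w t ah as' lam lam' hat) (hp : 5 ≤ p) (hT : IsPGroup p T)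
    (hsr : SectionalPRankLE p 3 T) :
    ⁅y, w⁆ ∈ Frat2 E ∨ ∃ κ : ℕ, ¬ p ∣ κ ∧ y ^ p * (⁅y, w⁆ ^ κ)⁻¹ ∈ Frat2 E := by
  classical
  have hE : IsPGroup p E := fun x => by
    obtain ⟨k, hk⟩ := hT x.1
    exact ⟨k, Subtype.ext (by simpa using hk)⟩
  have hΦ : IsPGroup p (Frat E) := fun x => by
    obtain ⟨k, hk⟩ := hT x.1
    exact ⟨k, Subtype.ext (by simpa using hk)⟩
  let NE : Subgroup E := (Frat2 E).subgroupOf E
  haveI hNE : NE.Normal := ⟨fun n hn g => by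
    rw [Subgroup.mem_subgroupOf] at hn ⊢
    exact frat2_conj g.2 hn⟩
  let mk : E →* E ⧸ NE := QuotientGroup.mk' NE
  have hmk : ∀ x : E, mk x = 1 ↔ (x : T) ∈ Frat2 E := fun x => by
    rw [QuotientGroup.mk'_apply, QuotientGroup.eq_one_iff, Subgroup.mem_subgroupOf]
  have hsurj : Function.Surjective mk := QuotientGroup.mk'_surjective NE
  let Z : Subgroup (E ⧸ NE) := (frattini E).map mk
  have hZmem : ∀ x : E, (x : T) ∈ Frat E → mk x ∈ Z := fun x hx => by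
    obtain ⟨f, hf, hfx⟩ := hx
    have : f = x := Subtype.ext hfx
    subst this
    exact ⟨f, hf, rfl⟩
  have hZback : ∀ x : E, mk x ∈ Z → (x : T) ∈ Frat E := fun x hx => by
    obtain ⟨f, hf, hfx⟩ := hx
    have h1 : mk (f⁻¹ * x) = 1 := by rw [map_mul, map_inv, hfx, inv_mul_cancel]
    have h2 := frat2_le ((hmk _).1 h1)
    have h3 : (f : T) ∈ Frat E := ⟨f, hf, rfl⟩
    have h4 : (x : T) = (f : T) * ((f⁻¹ * x : E) : T) := by simp
    rw [h4]
    exact mul_mem h3 h2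
  have hZc : ∀ z ∈ Z, ∀ x : E ⧸ NE, Commute z x := by
    rintro z ⟨f, hf, rfl⟩ x
    obtain ⟨e, rfl⟩ := hsurj x
    rw [← commutatorElement_eq_one_iff_commute, ← map_commutatorElement, hmk]
    exact comm_mem_frat2 ⟨f, hf, rfl⟩ e.2
  have hZp : ∀ z ∈ Z, z ^ p = 1 := by
    rintro z ⟨f, hf, rfl⟩
    rw [← map_pow, hmk]
    have h1 : ((f : T)) ^ p ∈ Frat (Frat E) := pow_mem_frat hΦ ⟨f, hf, rfl⟩
    exact (le_sup_right : Frat (Frat E) ≤ Frat2 E) (by simpa using h1)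
  have hcm : ∀ a b : E ⧸ NE, ⁅a, b⁆ ∈ Z := by
    intro a b
    obtain ⟨a, rfl⟩ := hsurj a
    obtain ⟨b, rfl⟩ := hsurj b
    rw [← map_commutatorElement]
    exact hZmem _ (comm_mem_frat hE a.2 b.2)
  have hpw : ∀ a : E ⧸ NE, a ^ p ∈ Z := by
    intro a
    obtain ⟨a, rfl⟩ := hsurj a
    rw [← map_pow]
    exact hZmem _ (by simpa using pow_mem_frat hE a.2)
  have hc : ∀ a b x : E ⧸ NE, Commute ⁅a, b⁆ x := fun a b x => hZc _ (hcm a b) x
  let bar : MulAut E → (E ⧸ NE →* E ⧸ NE) := fun α =>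
    QuotientGroup.map NE NE α.toMonoidHom (fun x hx => by
      rw [Subgroup.mem_comap, Subgroup.mem_subgroupOf]
      rw [Subgroup.mem_subgroupOf] at hx
      exact frat2_inv α hx)
  have hbar : ∀ (α : MulAut E) (x : E), bar α (mk x) = mk (α x) := fun _ _ => rfl
  have hdec : ∀ u v : E, (u : T) * (v : T)⁻¹ ∈ Frat E → ∃ f ∈ Z, mk u = mk v * f := by
    intro u v huv
    have hZ : mk (u * v⁻¹) ∈ Z := hZmem _ (by simpa using huv)
    refine ⟨mk (u * v⁻¹), hZ, ?_⟩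
    rw [← (hZc _ hZ (mk v)).eq, ← map_mul, inv_mul_cancel_right]
  have hcm_map : ∀ (g : E ⧸ NE →* E ⧸ NE) (X X' A A' f f' : E ⧸ NE), f ∈ Z → f' ∈ Z →
      g X = A * f → g X' = A' * f' → g ⁅X, X'⁆ = ⁅A, A'⁆ := by
    intro g X X' A A' f f' hf hf' h1 h2
    rw [map_commutatorElement, h1, h2, comm_mul_left (hZc f hf), comm_mul_right (hZc f' hf')]
  have hpw_map : ∀ (g : E ⧸ NE →* E ⧸ NE) (X A f : E ⧸ NE), f ∈ Z → g X = A * f → g (X ^ p) = A ^ p := by
    intro g X A f hf h1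
    rw [map_pow, h1, (hZc f hf A).symm.mul_pow, hZp f hf, mul_one]
  let ye : E := ⟨y, h.hy⟩
  let le : E := ⟨l, h.hl⟩
  let we : E := ⟨w, h.hw⟩
  obtain ⟨f1, hf1, e1⟩ := hdec (ah le) (le ^ lam) (by simpa [le] using h.ah_l)
  obtain ⟨f2, hf2, e2⟩ := hdec (ah ye) (ye ^ lam') (by simpa [ye] using h.ah_y)
  obtain ⟨f3, hf3, e3⟩ := hdec (ah we) we (by simpa [we] using h.ah_w)
  obtain ⟨f4, hf4, e4⟩ := hdec (as' ye) le (by simpa [ye, le] using h.as_y)
  obtain ⟨f6, hf6, e6⟩ := hdec (as' we) we (by simpa [we] using h.as_w)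
  obtain ⟨Y, hY⟩ : ∃ Y, mk ye = Y := ⟨_, rfl⟩
  obtain ⟨L, hL⟩ : ∃ L, mk le = L := ⟨_, rfl⟩
  obtain ⟨W, hW⟩ : ∃ W, mk we = W := ⟨_, rfl⟩
  have gY : bar ah Y = Y ^ lam' * f2 := by rw [← hY, hbar, e2, map_pow]
  have gL : bar ah L = L ^ lam * f1 := by rw [← hL, hbar, e1, map_pow]
  have gW : bar ah W = W * f3 := by rw [← hW, hbar, e3]
  have sY : bar as' Y = L * f4 := by rw [← hY, hbar, e4, hL]
  have sW : bar as' W = W * f6 := by rw [← hW, hbar, e6]
  obtain ⟨q1, hq1⟩ : ∃ q, ⁅Y, W⁆ = q := ⟨_, rfl⟩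
  obtain ⟨q2, hq2⟩ : ∃ q, ⁅L, W⁆ = q := ⟨_, rfl⟩
  obtain ⟨q3, hq3⟩ : ∃ q, ⁅Y, L⁆ = q := ⟨_, rfl⟩
  obtain ⟨π1, hπ1⟩ : ∃ q, Y ^ p = q := ⟨_, rfl⟩
  obtain ⟨π2, hπ2⟩ : ∃ q, L ^ p = q := ⟨_, rfl⟩
  have zq1 : q1 ∈ Z := hq1 ▸ hcm _ _
  have zq2 : q2 ∈ Z := hq2 ▸ hcm _ _
  have zq3 : q3 ∈ Z := hq3 ▸ hcm _ _
  have zπ1 : π1 ∈ Z := hπ1 ▸ hpw _
  have zπ2 : π2 ∈ Z := hπ2 ▸ hpw _
  have pq1 := hZp _ zq1
  have pq2 := hZp _ zq2
  have pq3 := hZp _ zq3
  have pπ1 := hZp _ zπ1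
  have pπ2 := hZp _ zπ2
  have g_q1 : bar ah q1 = q1 ^ lam' := by
    rw [← hq1, hcm_map _ _ _ _ _ _ _ hf2 hf3 gY gW, comm_pow_left hc]
  have g_q2 : bar ah q2 = q2 ^ lam := by
    rw [← hq2, hcm_map _ _ _ _ _ _ _ hf1 hf3 gL gW, comm_pow_left hc]
  have g_π1 : bar ah π1 = π1 ^ lam' := by
    rw [← hπ1, hpw_map _ _ _ _ hf2 gY, ← pow_mul, ← pow_mul, mul_comm]
  have g_π2 : bar ah π2 = π2 ^ lam := by
    rw [← hπ2, hpw_map _ _ _ _ hf1 gL, ← pow_mul, ← pow_mul, mul_comm]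
  have g_q3 : bar ah q3 = q3 := by
    rw [← hq3, hcm_map _ _ _ _ _ _ _ hf2 hf1 gY gL, comm_pow_left hc, comm_pow_right hc, ← pow_mul, hq3]
    have h1 : q3 ^ (lam * lam') = q3 ^ 1 :=
      (pow_eq_pow_iff_modEq).2 (h.lamlam.of_dvd (orderOf_dvd_of_pow_eq_one pq3))
    rw [h1, pow_one]
  have s_q1 : bar as' q1 = q2 := by
    rw [← hq1, hcm_map _ _ _ _ _ _ _ hf4 hf6 sY sW, hq2]
  have s_π1 : bar as' π1 = π2 := by
    rw [← hπ1, hpw_map _ _ _ _ hf4 sY, hπ2]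
  have hinv : ∀ x, bar as'⁻¹ (bar as' x) = x := by
    intro x
    obtain ⟨x, rfl⟩ := hsurj x
    rw [hbar, hbar, MulAut.inv_apply_self]
  have hlne : ¬ lam' ≡ lam [MOD p] := by
    intro e
    apply h.lam2
    rw [pow_two]
    exact (Nat.ModEq.mul_left lam e.symm).trans h.lamlam
  have hl1 : ¬ lam ≡ 1 [MOD p] := by
    intro e
    apply h.lam2
    simpa using e.pow 2
  have hl1' : ¬ lam' ≡ 1 [MOD p] := by
    intro e
    apply hl1
    have h2 := (Nat.ModEq.mul_left lam e).symm.trans h.lamlam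
    simpa using h2
  have hprime : p.Prime := Fact.out
  by_cases hq : q1 = 1
  · left
    have h1 : mk ⁅ye, we⁆ = 1 := by rw [map_commutatorElement, hY, hW, hq1, hq]
    exact (hmk _).1 h1
  right
  by_contra hno
  push Not at hno
  have hκ : ∀ κ, ¬ p ∣ κ → π1 ≠ q1 ^ κ := by
    intro κ hd he
    apply hno κ hd
    have h1 : mk (ye ^ p * (⁅ye, we⁆ ^ κ)⁻¹) = 1 := by
      rw [map_mul, map_pow, map_inv, map_pow, map_commutatorElement, hY, hW, hq1, hπ1]
      exact mul_inv_eq_one.2 he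
    exact (hmk _).1 h1
  have hq2ne : q2 ≠ 1 := by
    intro e
    apply hq
    have h1 := hinv q1
    rw [s_q1, e, map_one] at h1
    exact h1.symm
  have hey : (y : T) ∈ E := h.hy
  have hel : (l : T) ∈ E := h.hl
  have hew : (w : T) ∈ E := h.hw
  have mcq1 : ⁅y, w⁆ ∈ Frat E := comm_mem_frat hE h.hy h.hw
  have mcq2 : ⁅l, w⁆ ∈ Frat E := comm_mem_frat hE h.hl h.hw
  by_cases hπ : π1 = 1
  · -- Case II
    have hπ2one : π2 = 1 := by
      have h1 := s_π1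
      rw [hπ, map_one] at h1
      exact h1.symm
    let N' : Subgroup T := ((Subgroup.zpowers q3).comap mk).map E.subtype
    have hN' : ∀ x : E, (x : T) ∈ N' ↔ mk x ∈ Subgroup.zpowers q3 := by
      intro x
      constructor
      · rintro ⟨x', hx', hxx⟩
        have : x' = x := Subtype.ext hxx
        subst this
        exact hx'
      · intro hx
        exact ⟨x, hx, rfl⟩
    have hq3Z : Subgroup.zpowers q3 ≤ Z := by
      rw [Subgroup.zpowers_le]
      exact zq3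
    have hlift : ∀ u ∈ ({y, l, ⁅y, w⁆, ⁅l, w⁆} : Set T), ∃ ue : E, (ue : T) = u ∧
        (mk ue = Y ∨ mk ue = L ∨ mk ue = q1 ∨ mk ue = q2) := by
      intro u hu
      simp only [Set.mem_insert_iff, Set.mem_singleton_iff] at hu
      rcases hu with rfl | rfl | rfl | rfl
      · exact ⟨ye, rfl, Or.inl hY⟩
      · exact ⟨le, rfl, Or.inr (Or.inl hL)⟩
      · exact ⟨⁅ye, we⁆, rfl, Or.inr (Or.inr (Or.inl (by rw [map_commutatorElement, hY, hW, hq1])))⟩
      · exact ⟨⁅le, we⁆, rfl, Or.inr (Or.inr (Or.inr (by rw [map_commutatorElement, hL, hW, hq2])))⟩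
    refine not_sectional_four (p := p) E N' (Subgroup.map_subtype_le _) ?_ (a := y) (b := l)
      (c := ⁅y, w⁆) (d := ⁅l, w⁆) h.hy h.hl (frat_le _ mcq1) (frat_le _ mcq2) ?_ ?_ ?_ hsr
    · intro g hg n hn
      obtain ⟨x, hx, rfl⟩ := hn
      have h1 : (g * (E.subtype x) * g⁻¹ : T) = (((⟨g, hg⟩ : E) * x * (⟨g, hg⟩ : E)⁻¹ : E) : T) := rfl
      rw [h1, hN', map_mul, map_mul, map_inv]
      have h2 : mk x ∈ Z := hq3Z hx
      rw [← (hZc _ h2 (mk ⟨g, hg⟩)).eq, mul_inv_cancel_right]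
      exact hx
    · intro u hu v hv
      obtain ⟨ue, rfl, hU⟩ := hlift u hu
      obtain ⟨ve, rfl, hV⟩ := hlift v hv
      have h1 : ⁅(ue : T), (ve : T)⁆ = ((⁅ue, ve⁆ : E) : T) := rfl
      rw [h1, hN', map_commutatorElement]
      have hcen : ∀ a b : E ⧸ NE, (a ∈ Z ∨ b ∈ Z) → ⁅a, b⁆ ∈ Subgroup.zpowers q3 := by
        rintro a b (ha | hb)
        · rw [commutatorElement_eq_one_iff_commute.2 (hZc a ha b)]
          exact one_mem _
        · rw [commutatorElement_eq_one_iff_commute.2 (hZc b hb a).symm]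
          exact one_mem _
      have hself : ∀ a : E ⧸ NE, ⁅a, a⁆ ∈ Subgroup.zpowers q3 := by
        intro a
        rw [commutatorElement_self]
        exact one_mem _
      have hYL : ⁅Y, L⁆ ∈ Subgroup.zpowers q3 := by
        rw [hq3]
        exact Subgroup.mem_zpowers q3
      have hLY : ⁅L, Y⁆ ∈ Subgroup.zpowers q3 := by
        rw [← commutatorElement_inv]
        exact inv_mem hYL
      rcases hU with e | e | e | e <;> rcases hV with e' | e' | e' | e' <;> rw [e, e'] <;>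
        first
          | exact hself _
          | exact hYL
          | exact hLY
          | exact hcen _ _ (Or.inl zq1)
          | exact hcen _ _ (Or.inl zq2)
          | exact hcen _ _ (Or.inr zq1)
          | exact hcen _ _ (Or.inr zq2)
    · intro u hu
      obtain ⟨ue, rfl, hU⟩ := hlift u hu
      have h1 : (ue : T) ^ p = ((ue ^ p : E) : T) := by simp
      rw [h1, hN', map_pow]
      have h2 : (mk ue) ^ p = 1 := by
        rcases hU with e | e | e | e <;> rw [e]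
        · rw [hπ1, hπ]
        · rw [hπ2, hπ2one]
        · exact pq1
        · exact pq2
      rw [h2]
      exact one_mem _
    · intro i j k m hmem
      let X : E := ye ^ i * le ^ j * ⁅ye, we⁆ ^ k * ⁅le, we⁆ ^ m
      have hXc : (X : T) = y ^ i * l ^ j * ⁅y, w⁆ ^ k * ⁅l, w⁆ ^ m := by
        simp [X, ye, le, we, commutatorElement_def]
      have hX : (X : T) ∈ N' := by rw [hXc]; exact hmem
      have hmX := (hN' X).1 hX
      have hXΦ : (X : T) ∈ Frat E := hZback X (hq3Z hmX)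
      have hX0 : y ^ i * l ^ j ∈ Frat E := by
        rw [hXc, mul_assoc (y ^ i * l ^ j)] at hXΦ
        have hR : ⁅y, w⁆ ^ k * ⁅l, w⁆ ^ m ∈ Frat E := mul_mem (pow_mem mcq1 k) (pow_mem mcq2 m)
        exact (Subgroup.mul_mem_cancel_right _ hR).1 hXΦ
      have hconj := frat_conj (inv_mem (pow_mem h.hy i)) hX0
      have hswap : (y ^ i)⁻¹ * (y ^ i * l ^ j) * ((y ^ i)⁻¹)⁻¹ = l ^ j * y ^ i * w ^ 0 := by
        group
      rw [hswap] at hconj
      obtain ⟨hj, hi, -⟩ := h.indep j i 0 hconj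
      have hYi : Y ^ i = 1 := by
        obtain ⟨c, rfl⟩ := hi
        rw [pow_mul, hπ1, hπ, one_pow]
      have hLj : L ^ j = 1 := by
        obtain ⟨c, rfl⟩ := hj
        rw [pow_mul, hπ2, hπ2one, one_pow]
      have hmkX : mk X = q1 ^ k * q2 ^ m := by
        simp only [X, map_mul, map_pow, map_commutatorElement]
        rw [hY, hL, hW, hq1, hq2, hYi, hLj, one_mul, one_mul]
      rw [hmkX] at hmX
      obtain ⟨r, hr⟩ := Subgroup.mem_zpowers_iff.1 hmX
      have hABC : q1 ^ k * q2 ^ m * (q3 ^ r)⁻¹ = 1 := by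
        rw [hr, mul_inv_cancel]
      have hs := sep3 (pow_right_comm q1 k p ▸ (by rw [pq1, one_pow] : (q1 ^ p) ^ k = 1))
        (pow_right_comm q2 m p ▸ (by rw [pq2, one_pow] : (q2 ^ p) ^ m = 1))
        ((hZc _ (pow_mem zq1 k)) _) hABC (bar ah) (a := lam') (b := lam)
        (by rw [map_pow, g_q1, pow_right_comm]) (by rw [map_pow, g_q2, pow_right_comm])
        (by rw [map_inv, map_zpow, g_q3]) hlne hl1' hl1
      refine ⟨hi, hj, ?_, ?_⟩
      · by_contra hd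
        exact hq (eq_one_of_pow pq1 hs.1 hd)
      · by_contra hd
        exact hq2ne (eq_one_of_pow pq2 hs.2 hd)
  · -- Case I
    have hnp : ∀ κ, π1 ≠ q1 ^ κ := by
      intro κ he
      by_cases hd : p ∣ κ
      · obtain ⟨c, rfl⟩ := hd
        rw [pow_mul, pq1, one_pow] at he
        exact hπ he
      · exact hκ κ hd he
    have hAind : ∀ i j, q1 ^ i * π1 ^ j = 1 → p ∣ i ∧ p ∣ j := by
      intro i j hij
      by_cases hj : p ∣ j
      · obtain ⟨c, rfl⟩ := hj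
        rw [pow_mul, pπ1, one_pow, mul_one] at hij
        refine ⟨?_, dvd_mul_right p c⟩
        by_contra hi
        exact hq (eq_one_of_pow pq1 hij hi)
      · exfalso
        have hcop : Nat.Coprime j p := ((Nat.Prime.coprime_iff_not_dvd hprime).2 hj).symm
        obtain ⟨m, -, hm⟩ := Nat.exists_mul_mod_eq_one_of_coprime hcop hprime.one_lt
        have e1 : π1 ^ (j * m) = π1 ^ 1 := by
          refine (pow_eq_pow_iff_modEq).2 (Nat.ModEq.of_dvd (orderOf_dvd_of_pow_eq_one pπ1) ?_)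
          unfold Nat.ModEq
          rw [hm, Nat.mod_eq_of_lt hprime.one_lt]
        have e2 : π1 ^ j = (q1 ^ i) ^ (p - 1) := by
          have h1 : π1 ^ j = (q1 ^ i)⁻¹ := eq_inv_of_mul_eq_one_right hij
          rw [h1]
          symm
          apply eq_inv_of_mul_eq_one_left
          rw [← pow_succ, Nat.sub_add_cancel hprime.one_lt.le, pow_right_comm, pq1, one_pow]
        apply hnp (i * (p - 1) * m)
        rw [pow_one] at e1
        rw [← e1, pow_mul, e2, pow_mul, pow_mul]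
    have hCm : ∀ a b, a ∈ Z → Commute a b := fun a b ha => hZc a ha b
    have hAll : ∀ u ∈ ({⁅y, w⁆, y ^ p, ⁅l, w⁆, l ^ p} : Set T), u ∈ Frat E := by
      intro u hu
      simp only [Set.mem_insert_iff, Set.mem_singleton_iff] at hu
      rcases hu with rfl | rfl | rfl | rfl
      · exact mcq1
      · exact pow_mem_frat hE h.hy
      · exact mcq2
      · exact pow_mem_frat hE h.hl
    refine not_sectional_four (p := p) (Frat E) (Frat2 E) frat2_le
      (fun g hg n hn => frat2_conj (frat_le _ hg) hn) (a := ⁅y, w⁆) (b := y ^ p) (c := ⁅l, w⁆)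
      (d := l ^ p) mcq1 (pow_mem_frat hE h.hy) mcq2 (pow_mem_frat hE h.hl) ?_ ?_ ?_ hsr
    · intro u hu v hv
      exact comm_mem_frat2 (hAll u hu) (frat_le _ (hAll v hv))
    · intro u hu
      exact (le_sup_right : Frat (Frat E) ≤ Frat2 E) (pow_mem_frat hΦ (hAll u hu))
    · intro i j k m hmem
      have hX : mk (⁅ye, we⁆ ^ i * (ye ^ p) ^ j * ⁅le, we⁆ ^ k * (le ^ p) ^ m) = 1 := by
        refine (hmk _).2 ?_
        have hXc : ((⁅ye, we⁆ ^ i * (ye ^ p) ^ j * ⁅le, we⁆ ^ k * (le ^ p) ^ m : E) : T) =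
            ⁅y, w⁆ ^ i * (y ^ p) ^ j * ⁅l, w⁆ ^ k * (l ^ p) ^ m := by
          simp [ye, le, we, commutatorElement_def]
        rw [hXc]
        exact hmem
      simp only [map_mul, map_pow, map_commutatorElement] at hX
      rw [hY, hL, hW, hq1, hq2, hπ1, hπ2] at hX
      have zA : q1 ^ i * π1 ^ j ∈ Z := mul_mem (pow_mem zq1 i) (pow_mem zπ1 j)
      have zB : q2 ^ k * π2 ^ m ∈ Z := mul_mem (pow_mem zq2 k) (pow_mem zπ2 m)
      have hAB : (q1 ^ i * π1 ^ j) * (q2 ^ k * π2 ^ m) = 1 := by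
        rw [← hX]
        group
      have gA : ∀ (a b : ℕ), bar ah (q1 ^ a * π1 ^ b) = (q1 ^ a * π1 ^ b) ^ lam' := by
        intro a b
        rw [map_mul, map_pow, map_pow, g_q1, g_π1, (hZc _ (pow_mem zq1 a) (π1 ^ b)).mul_pow,
          pow_right_comm, pow_right_comm π1]
      have gB : bar ah (q2 ^ k * π2 ^ m) = (q2 ^ k * π2 ^ m) ^ lam := by
        rw [map_mul, map_pow, map_pow, g_q2, g_π2, (hZc _ (pow_mem zq2 k) (π2 ^ m)).mul_pow,
          pow_right_comm, pow_right_comm π2]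
      obtain ⟨hA1, hB1⟩ := sep2' (hZp _ zA) (hZp _ zB) hAB (bar ah) (gA i j) gB hlne
      obtain ⟨h1, h2⟩ := hAind i j hA1
      have hA' : q1 ^ k * π1 ^ m = 1 := by
        have h3 := hinv (q1 ^ k * π1 ^ m)
        rw [map_mul (bar as'), map_pow (bar as'), map_pow (bar as'), s_q1, s_π1, hB1, map_one] at h3
        exact h3.symm
      obtain ⟨h3, h4⟩ := hAind k m hA'
      exact ⟨h1, h2, h3, h4⟩

end Main

end Cfsg.Agent.Lib.S5180
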