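import Mathlib
import Cfsg.Agent.Lib.S5180.Defs
import Cfsg.Agent.Lib.PGroup.FrattiniBasis
import Cfsg.Agent.Lib.PGroup.ActionFrattini

/-! S5180 piece TB: `T/Φ(E)` is `p^{1+2} × C_p` of exponent `p`, in the transvection configuration. -/

set_option autoImplicit false

open scoped commutatorElement

namespace Cfsg.Agent.Lib.S5180

universe u

namespace TvAux

section Abstract

variable {Q : Type*} [Group Q]

/-- The class two power formula. -/
theorem pow_formula {a b c : Q} (hca : Commute c a) (hcb : Commute c b) (h : b * a = c * a * b)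
    (n : ℕ) : (a * b) ^ n = c ^ n.choose 2 * a ^ n * b ^ n := by
  have h1 : ∀ k : ℕ, b ^ k * a = c ^ k * a * b ^ k := by
    intro k
    induction k with
    | zero => simp
    | succ k ih =>
      calc b ^ (k + 1) * a = b ^ k * (b * a) := by rw [pow_succ, mul_assoc]
        _ = b ^ k * (c * a * b) := by rw [h]
        _ = (b ^ k * c) * (a * b) := by simp only [mul_assoc]
        _ = (c * b ^ k) * (a * b) := by rw [((hcb.pow_right k).eq).symm]
        _ = c * (b ^ k * a) * b := by simp only [mul_assoc]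
        _ = c * (c ^ k * a * b ^ k) * b := by rw [ih]
        _ = c ^ (k + 1) * a * b ^ (k + 1) := by
            rw [pow_succ' c k, pow_succ b k]
            simp only [mul_assoc]
  induction n with
  | zero => simp
  | succ n ih =>
    have hchoose : (n + 1).choose 2 = n.choose 2 + n := by
      rw [Nat.choose_succ_succ' n 1]
      simp [add_comm]
    calc (a * b) ^ (n + 1) = (a * b) ^ n * (a * b) := pow_succ _ _
      _ = c ^ n.choose 2 * a ^ n * b ^ n * (a * b) := by rw [ih]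
      _ = c ^ n.choose 2 * a ^ n * (b ^ n * a) * b := by simp only [mul_assoc]
      _ = c ^ n.choose 2 * a ^ n * (c ^ n * a * b ^ n) * b := by rw [h1]
      _ = c ^ n.choose 2 * (a ^ n * c ^ n) * a * b ^ n * b := by simp only [mul_assoc]
      _ = c ^ n.choose 2 * (c ^ n * a ^ n) * a * b ^ n * b := by
          rw [((hca.pow_pow n n).eq).symm]
      _ = c ^ (n + 1).choose 2 * a ^ (n + 1) * b ^ (n + 1) := by
          rw [hchoose, pow_add c, pow_succ a n, pow_succ b n]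
          simp only [mul_assoc]

theorem pow_p {p : ℕ} (hp : p.Prime) (hp3 : 3 ≤ p) {a b c : Q} (hca : Commute c a) (hcb : Commute c b)
    (h : b * a = c * a * b) (hc : c ^ p = 1) : (a * b) ^ p = a ^ p * b ^ p := by
  rw [pow_formula hca hcb h p]
  obtain ⟨m, hm⟩ := hp.dvd_choose_self (k := 2) (by norm_num) (by omega)
  rw [hm, pow_mul, hc, one_pow, one_mul]

/-- The data in the quotient `T/Φ(E)`. -/
structure Sys (p : ℕ) (X Y L W : Q) : Prop where
  hp : p.Prime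
  hp3 : 3 ≤ p
  hLc : ∀ g, Commute L g
  hWc : ∀ g, Commute W g
  hYX : Y * X = L * X * Y
  hLp : L ^ p = 1
  hYp : Y ^ p = 1
  hWp : W ^ p = 1
  hind : ∀ a b c : ℕ, L ^ a * Y ^ b * W ^ c = 1 → p ∣ a ∧ p ∣ b ∧ p ∣ c

variable {p : ℕ} {X Y L W : Q}

theorem Sys.Y_X_pow (S : Sys p X Y L W) (k : ℕ) : Y * X ^ k = L ^ k * X ^ k * Y := by
  induction k with
  | zero => simp
  | succ k ih =>
    calc Y * X ^ (k + 1) = (Y * X ^ k) * X := by rw [pow_succ, mul_assoc]
      _ = L ^ k * X ^ k * (Y * X) := by rw [ih]; simp only [mul_assoc]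
      _ = L ^ k * X ^ k * (L * X * Y) := by rw [S.hYX]
      _ = L ^ k * (X ^ k * L) * X * Y := by simp only [mul_assoc]
      _ = L ^ k * (L * X ^ k) * X * Y := by rw [((S.hLc _).eq).symm]
      _ = L ^ (k + 1) * X ^ (k + 1) * Y := by
          rw [pow_succ L k, pow_succ X k]
          simp only [mul_assoc]

theorem Sys.Y_pow_X_pow (S : Sys p X Y L W) (c k : ℕ) : Y ^ c * X ^ k = L ^ (c * k) * X ^ k * Y ^ c := by
  induction c with
  | zero => simp
  | succ c ih =>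
    calc Y ^ (c + 1) * X ^ k = Y ^ c * (Y * X ^ k) := by rw [pow_succ, mul_assoc]
      _ = Y ^ c * (L ^ k * X ^ k * Y) := by rw [S.Y_X_pow]
      _ = (Y ^ c * L ^ k) * (X ^ k * Y) := by simp only [mul_assoc]
      _ = (L ^ k * Y ^ c) * (X ^ k * Y) := by rw [(((S.hLc _).pow_left k).eq).symm]
      _ = L ^ k * (Y ^ c * X ^ k) * Y := by simp only [mul_assoc]
      _ = L ^ k * (L ^ (c * k) * X ^ k * Y ^ c) * Y := by rw [ih]
      _ = L ^ ((c + 1) * k) * X ^ k * Y ^ (c + 1) := by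
          rw [show (c + 1) * k = k + c * k by ring, pow_add L, pow_succ Y c]
          simp only [mul_assoc]

/-- `L^a Y^c W^d` moved past a power of `X`. -/
theorem Sys.E_X_pow (S : Sys p X Y L W) (a c d k : ℕ) :
    (L ^ a * Y ^ c * W ^ d) * X ^ k = L ^ (c * k) * X ^ k * (L ^ a * Y ^ c * W ^ d) := by
  calc (L ^ a * Y ^ c * W ^ d) * X ^ k = L ^ a * Y ^ c * (W ^ d * X ^ k) := by
        simp only [mul_assoc]
    _ = L ^ a * Y ^ c * (X ^ k * W ^ d) := by rw [(((S.hWc _).pow_left d).eq)]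
    _ = L ^ a * (Y ^ c * X ^ k) * W ^ d := by simp only [mul_assoc]
    _ = L ^ a * (L ^ (c * k) * X ^ k * Y ^ c) * W ^ d := by rw [S.Y_pow_X_pow]
    _ = (L ^ a * (L ^ (c * k) * X ^ k)) * Y ^ c * W ^ d := by simp only [mul_assoc]
    _ = ((L ^ (c * k) * X ^ k) * L ^ a) * Y ^ c * W ^ d := by
        rw [(((S.hLc _).pow_left a).eq)]
    _ = L ^ (c * k) * X ^ k * (L ^ a * Y ^ c * W ^ d) := by simp only [mul_assoc]

theorem Sys.E_pow (S : Sys p X Y L W) (a c d : ℕ) : (L ^ a * Y ^ c * W ^ d) ^ p = 1 := by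
  have h1 : Commute (L ^ a) (Y ^ c) := (S.hLc _).pow_left a
  have h2 : Commute (L ^ a * Y ^ c) (W ^ d) := ((S.hWc _).pow_left d).symm
  rw [h2.mul_pow, h1.mul_pow, ← pow_mul, ← pow_mul, ← pow_mul, mul_comm a, mul_comm c, mul_comm d,
    pow_mul, pow_mul, pow_mul, S.hLp, S.hYp, S.hWp]
  simp

theorem Sys.indep_mod (S : Sys p X Y L W) {u r v u' r' v' : ℕ}
    (h : L ^ u * Y ^ r * W ^ v = L ^ u' * Y ^ r' * W ^ v') :
    u ≡ u' [MOD p] ∧ r ≡ r' [MOD p] ∧ v ≡ v' [MOD p] := by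
  have hp1 : 1 ≤ p := S.hp.one_lt.le
  have hinvL : ∀ x : ℕ, L ^ x * L ^ (x * (p - 1)) = 1 := by
    intro x
    rw [← pow_add, show x + x * (p - 1) = x * p by
      obtain ⟨q, rfl⟩ : ∃ q, p = q + 1 := ⟨p - 1, by omega⟩
      simp; ring, mul_comm, pow_mul, S.hLp, one_pow]
  have hinvY : ∀ x : ℕ, Y ^ x * Y ^ (x * (p - 1)) = 1 := by
    intro x
    rw [← pow_add, show x + x * (p - 1) = x * p by
      obtain ⟨q, rfl⟩ : ∃ q, p = q + 1 := ⟨p - 1, by omega⟩
      simp; ring, mul_comm, pow_mul, S.hYp, one_pow]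
  have hinvW : ∀ x : ℕ, W ^ x * W ^ (x * (p - 1)) = 1 := by
    intro x
    rw [← pow_add, show x + x * (p - 1) = x * p by
      obtain ⟨q, rfl⟩ : ∃ q, p = q + 1 := ⟨p - 1, by omega⟩
      simp; ring, mul_comm, pow_mul, S.hWp, one_pow]
  -- all of `L,Y,W` commute
  have hLY : ∀ i j : ℕ, Commute (L ^ i) (Y ^ j) := fun i j => (S.hLc _).pow_left i
  have hWall : ∀ (i : ℕ) (g : Q), Commute (W ^ i) g := fun i g => (S.hWc _).pow_left i
  have hLall : ∀ (i : ℕ) (g : Q), Commute (L ^ i) g := fun i g => (S.hLc _).pow_left i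
  have hkey : L ^ (u + u' * (p - 1)) * Y ^ (r + r' * (p - 1)) * W ^ (v + v' * (p - 1)) = 1 := by
    have e : L ^ (u + u' * (p - 1)) * Y ^ (r + r' * (p - 1)) * W ^ (v + v' * (p - 1)) =
        (L ^ u * Y ^ r * W ^ v) * (L ^ (u' * (p - 1)) * (Y ^ (r' * (p - 1)) * W ^ (v' * (p - 1)))) := by
      rw [pow_add, pow_add, pow_add]
      calc L ^ u * L ^ (u' * (p - 1)) * (Y ^ r * Y ^ (r' * (p - 1))) * (W ^ v * W ^ (v' * (p - 1)))
          = L ^ u * (L ^ (u' * (p - 1)) * Y ^ r) * Y ^ (r' * (p - 1)) * (W ^ v * W ^ (v' * (p - 1))) := by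
            simp only [mul_assoc]
        _ = L ^ u * (Y ^ r * L ^ (u' * (p - 1))) * Y ^ (r' * (p - 1)) * (W ^ v * W ^ (v' * (p - 1))) := by
            rw [(hLall (u' * (p - 1)) (Y ^ r)).eq]
        _ = L ^ u * Y ^ r * (L ^ (u' * (p - 1)) * (Y ^ (r' * (p - 1)) * W ^ v)) * W ^ (v' * (p - 1)) := by
            simp only [mul_assoc]
        _ = L ^ u * Y ^ r * (L ^ (u' * (p - 1)) * (W ^ v * Y ^ (r' * (p - 1)))) * W ^ (v' * (p - 1)) := by
            rw [((hWall v (Y ^ (r' * (p - 1)))).eq).symm]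
        _ = L ^ u * Y ^ r * ((L ^ (u' * (p - 1)) * W ^ v) * Y ^ (r' * (p - 1))) * W ^ (v' * (p - 1)) := by
            simp only [mul_assoc]
        _ = L ^ u * Y ^ r * ((W ^ v * L ^ (u' * (p - 1))) * Y ^ (r' * (p - 1))) * W ^ (v' * (p - 1)) := by
            rw [((hWall v (L ^ (u' * (p - 1)))).eq).symm]
        _ = _ := by simp only [mul_assoc]
    rw [e, h]
    have e2 : L ^ u' * Y ^ r' * W ^ v' * (L ^ (u' * (p - 1)) * (Y ^ (r' * (p - 1)) * W ^ (v' * (p - 1)))) =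
        (L ^ u' * L ^ (u' * (p - 1))) * (Y ^ r' * Y ^ (r' * (p - 1))) * (W ^ v' * W ^ (v' * (p - 1))) := by
      calc L ^ u' * Y ^ r' * W ^ v' * (L ^ (u' * (p - 1)) * (Y ^ (r' * (p - 1)) * W ^ (v' * (p - 1))))
          = L ^ u' * Y ^ r' * (W ^ v' * (L ^ (u' * (p - 1)) * Y ^ (r' * (p - 1)))) * W ^ (v' * (p - 1)) := by
            simp only [mul_assoc]
        _ = L ^ u' * Y ^ r' * ((L ^ (u' * (p - 1)) * Y ^ (r' * (p - 1))) * W ^ v') * W ^ (v' * (p - 1)) := by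
            rw [(hWall v' (L ^ (u' * (p - 1)) * Y ^ (r' * (p - 1)))).eq]
        _ = L ^ u' * (Y ^ r' * L ^ (u' * (p - 1))) * Y ^ (r' * (p - 1)) * (W ^ v' * W ^ (v' * (p - 1))) := by
            simp only [mul_assoc]
        _ = L ^ u' * (L ^ (u' * (p - 1)) * Y ^ r') * Y ^ (r' * (p - 1)) * (W ^ v' * W ^ (v' * (p - 1))) := by
            rw [((hLall (u' * (p - 1)) (Y ^ r')).eq).symm]
        _ = _ := by simp only [mul_assoc]
    rw [e2, hinvL, hinvY, hinvW]
    simp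
  obtain ⟨h1, h2, h3⟩ := S.hind _ _ _ hkey
  have hconv : ∀ x x' : ℕ, p ∣ x + x' * (p - 1) → x ≡ x' [MOD p] := by
    intro x x' hd
    have h4 : x + x' * (p - 1) + x' = x + x' * p := by
      obtain ⟨q, rfl⟩ : ∃ q, p = q + 1 := ⟨p - 1, by omega⟩
      simp
      ring
    have h5 : (x + x' * (p - 1) + x') ≡ x' [MOD p] := by
      have := (Nat.modEq_zero_iff_dvd.2 hd).add_right x'
      simpa using this
    rw [h4] at h5
    have h6 : x + x' * p ≡ x [MOD p] := by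
      simp [Nat.ModEq]
    exact h6.symm.trans h5
  exact ⟨hconv _ _ h1, hconv _ _ h2, hconv _ _ h3⟩

theorem Sys.X_pow_eq_one (S : Sys p X Y L W) (hXp : ∃ a c d, X ^ p = L ^ a * Y ^ c * W ^ d)
    (φ : Q →* Q) (lam lam' : ℕ) (hL : φ L = L ^ lam) (hW : φ W = W)
    (hY : φ Y = Y ^ lam')
    (hφX : ∃ a c d, φ X = L ^ a * Y ^ c * W ^ d * X ^ (lam ^ 2))
    (hlam : lam * lam' ≡ 1 [MOD p]) (h2 : ¬ lam ^ 2 ≡ 1 [MOD p]) : X ^ p = 1 := by
  obtain ⟨a, c, d, hX⟩ := hXp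
  have hp := S.hp
  -- `X` commutes with `X^p`
  have hc1 : L ^ c = 1 := by
    have h3 := S.E_X_pow a c d 1
    rw [pow_one, mul_one, ← hX] at h3
    have h4 : X ^ p * X = X * X ^ p := (pow_succ X p).symm.trans (pow_succ' X p)
    rw [h4] at h3
    have h5 : L ^ c * (X * X ^ p) = X * X ^ p := by
      rw [← mul_assoc]
      exact h3.symm
    exact mul_eq_right.1 h5
  have hpc : p ∣ c := by
    have := S.hind c 0 0 (by simpa using hc1)
    exact this.1
  have hYc : Y ^ c = 1 := by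
    obtain ⟨m, rfl⟩ := hpc
    rw [pow_mul, S.hYp, one_pow]
  have hX2 : X ^ p = L ^ a * W ^ d := by
    rw [hX, hYc, mul_one]
  obtain ⟨a1, c1, d1, hφ⟩ := hφX
  set k := lam ^ 2 with hk
  have hE : (L ^ a1 * Y ^ c1 * W ^ d1) * X ^ k = L ^ (c1 * k) * X ^ k * (L ^ a1 * Y ^ c1 * W ^ d1) :=
    S.E_X_pow a1 c1 d1 k
  have hpow : (φ X) ^ p = (X ^ k) ^ p := by
    rw [hφ, hE]
    have hcomm : Commute (L ^ (c1 * k)) (X ^ k * (L ^ a1 * Y ^ c1 * W ^ d1)) := (S.hLc _).pow_left _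
    have hh : L ^ (c1 * k) * X ^ k * (L ^ a1 * Y ^ c1 * W ^ d1) =
        L ^ (c1 * k) * (X ^ k * (L ^ a1 * Y ^ c1 * W ^ d1)) := mul_assoc _ _ _
    rw [hh, hcomm.mul_pow, ← pow_mul, mul_comm (c1 * k), pow_mul, S.hLp, one_pow, one_mul,
      pow_p S.hp S.hp3 (a := X ^ k) (b := L ^ a1 * Y ^ c1 * W ^ d1) (c := L ^ (c1 * k))
        ((S.hLc _).pow_left _) ((S.hLc _).pow_left _) (S.E_X_pow a1 c1 d1 k)
        (by rw [← pow_mul, mul_comm (c1 * k), pow_mul, S.hLp, one_pow]),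
      S.E_pow, mul_one]
  have h3 : φ (X ^ p) = (X ^ p) ^ k := by
    rw [map_pow, hpow, ← pow_mul, ← pow_mul, mul_comm]
  rw [hX2, map_mul, map_pow, map_pow, hL, hW, ← pow_mul] at h3
  have hcomm2 : Commute (L ^ a) (W ^ d) := (S.hLc _).pow_left _
  rw [hcomm2.mul_pow, ← pow_mul, ← pow_mul] at h3
  have h4 := S.indep_mod (u := lam * a) (r := 0) (v := d) (u' := a * k) (r' := 0) (v' := d * k)
    (by simpa using h3)
  obtain ⟨h5, -, h6⟩ := h4
  have hdvd_d : p ∣ d := by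
    by_contra hnd
    have hcop : Nat.gcd p d = 1 := (Nat.Prime.coprime_iff_not_dvd hp).2 hnd
    have h7 : d * 1 ≡ d * k [MOD p] := by simpa using h6
    exact h2 (Nat.ModEq.cancel_left_of_coprime hcop h7).symm
  have hdvd_a : p ∣ a := by
    by_contra hnd
    have hcop : Nat.gcd p a = 1 := (Nat.Prime.coprime_iff_not_dvd hp).2 hnd
    have h7 : a * lam ≡ a * k [MOD p] := by rw [mul_comm a lam]; exact h5
    have h8 : lam ≡ k [MOD p] := Nat.ModEq.cancel_left_of_coprime hcop h7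
    have h9 : lam * lam' ≡ k * lam' [MOD p] := h8.mul_right lam'
    have h10 : k * lam' = lam * (lam * lam') := by rw [hk]; ring
    rw [h10] at h9
    have h11 : lam * (lam * lam') ≡ lam * 1 [MOD p] := hlam.mul_left lam
    have h12 : 1 ≡ lam [MOD p] := by
      have := hlam.symm.trans (h9.trans h11)
      simpa using this
    apply h2
    have h13 : lam * lam ≡ 1 * 1 [MOD p] := h12.symm.mul h12.symm
    rw [hk]
    simpa [sq] using h13
  obtain ⟨m, rfl⟩ := hdvd_a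
  obtain ⟨m', rfl⟩ := hdvd_d
  rw [hX2, pow_mul, pow_mul, S.hLp, S.hWp, one_pow, one_pow, one_mul]

theorem Sys.L_inv (S : Sys p X Y L W) (x : ℕ) : L ^ x * L ^ (x * (p - 1)) = 1 := by
  have hp1 : 1 ≤ p := S.hp.one_lt.le
  rw [← pow_add, show x + x * (p - 1) = x * p by
    obtain ⟨q, rfl⟩ : ∃ q, p = q + 1 := ⟨p - 1, by omega⟩
    simp; ring, mul_comm, pow_mul, S.hLp, one_pow]

/-- Reordering to the normal form `Y^c X^b L^e W^d`. -/
theorem Sys.reorder (S : Sys p X Y L W) (a b c d : ℕ) :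
    X ^ b * (L ^ a * Y ^ c * W ^ d) = Y ^ c * X ^ b * L ^ (a + c * b * (p - 1)) * W ^ d := by
  have hLall : ∀ (i : ℕ) (g : Q), Commute (L ^ i) g := fun i g => (S.hLc _).pow_left i
  have key : X ^ b * Y ^ c = Y ^ c * X ^ b * L ^ (c * b * (p - 1)) := by
    rw [S.Y_pow_X_pow c b, ← (hLall (c * b * (p - 1)) (L ^ (c * b) * X ^ b * Y ^ c)).eq]
    calc X ^ b * Y ^ c = (L ^ (c * b) * L ^ (c * b * (p - 1))) * (X ^ b * Y ^ c) := by
          rw [S.L_inv, one_mul]
      _ = L ^ (c * b) * (L ^ (c * b * (p - 1)) * (X ^ b * Y ^ c)) := by simp only [mul_assoc]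
      _ = L ^ (c * b) * ((X ^ b * Y ^ c) * L ^ (c * b * (p - 1))) := by
          rw [(hLall (c * b * (p - 1)) (X ^ b * Y ^ c)).eq]
      _ = (L ^ (c * b) * (X ^ b * Y ^ c)) * L ^ (c * b * (p - 1)) := by simp only [mul_assoc]
      _ = ((X ^ b * Y ^ c) * L ^ (c * b)) * L ^ (c * b * (p - 1)) := by
          rw [(hLall (c * b) (X ^ b * Y ^ c)).eq]
      _ = (X ^ b * Y ^ c) * (L ^ (c * b) * L ^ (c * b * (p - 1))) := by simp only [mul_assoc]
      _ = L ^ (c * b * (p - 1)) * (L ^ (c * b) * X ^ b * Y ^ c) := by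
          rw [S.L_inv, mul_one, ← mul_assoc, ← mul_assoc,
            ((hLall (c * b * (p - 1)) (L ^ (c * b))).eq), S.L_inv, one_mul]
  calc X ^ b * (L ^ a * Y ^ c * W ^ d) = (X ^ b * L ^ a) * Y ^ c * W ^ d := by
        simp only [mul_assoc]
    _ = (L ^ a * X ^ b) * Y ^ c * W ^ d := by rw [(hLall a (X ^ b)).eq]
    _ = L ^ a * (X ^ b * Y ^ c) * W ^ d := by simp only [mul_assoc]
    _ = L ^ a * (Y ^ c * X ^ b * L ^ (c * b * (p - 1))) * W ^ d := by rw [key]
    _ = (L ^ a * (Y ^ c * X ^ b)) * L ^ (c * b * (p - 1)) * W ^ d := by simp only [mul_assoc]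
    _ = ((Y ^ c * X ^ b) * L ^ a) * L ^ (c * b * (p - 1)) * W ^ d := by
        rw [(hLall a (Y ^ c * X ^ b)).eq]
    _ = Y ^ c * X ^ b * L ^ (a + c * b * (p - 1)) * W ^ d := by
        rw [pow_add]
        simp only [mul_assoc]

end Abstract

section Concrete

variable {T : Type u} [Group T] [Finite T] {p : ℕ} [hpF : Fact p.Prime]

theorem frat_le' (E : Subgroup T) : Frat E ≤ E := by
  rintro _ ⟨z, -, rfl⟩
  exact z.2

theorem pow_mem' {E : Subgroup T} (hT : IsPGroup p T) {x : T} (hx : x ∈ E) : x ^ p ∈ Frat E :=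
  ⟨(⟨x, hx⟩ : E) ^ p, Cfsg.Agent.Lib.PGroup.FrattiniBasis.pow_mem_frattini (hT.to_subgroup E) _,
    by simp⟩

theorem comm_mem' {E : Subgroup T} (hT : IsPGroup p T) {x y : T} (hx : x ∈ E) (hy : y ∈ E) :
    ⁅x, y⁆ ∈ Frat E :=
  ⟨⁅(⟨x, hx⟩ : E), ⟨y, hy⟩⁆, Cfsg.Agent.Lib.PGroup.FrattiniBasis.commutator_le_frattini
    (hT.to_subgroup E) (Subgroup.commutator_mem_commutator trivial trivial), rfl⟩

theorem E_normal {E : Subgroup T} (hT : IsPGroup p T) (hidx : E.index = p) : E.Normal := by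
  obtain ⟨n, hn⟩ := IsPGroup.iff_card.1 hT
  apply Subgroup.normal_of_index_eq_minFac_card
  rw [hidx, hn]
  have hn0 : n ≠ 0 := by
    rintro rfl
    have h1 : E.index ∣ Nat.card T := Subgroup.index_dvd_card E
    rw [hidx, hn, pow_zero] at h1
    exact hpF.out.one_lt.ne' (Nat.dvd_one.1 h1)
  exact (hpF.out.pow_minFac hn0).symm

theorem frat_normal {E : Subgroup T} (hE : E.Normal) : (Frat E).Normal := by
  unfold Frat
  infer_instance

theorem eq_top_of_index {E C : Subgroup T} (hidx : E.index = p) (hEC : E ≤ C) {t : T} (htC : t ∈ C)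
    (ht : t ∉ E) : C = ⊤ := by
  have h1 := Subgroup.relIndex_mul_index hEC
  rw [hidx] at h1
  have h2 : C.index ∣ p := Dvd.intro_left _ h1
  rcases (Nat.dvd_prime hpF.out).1 h2 with h3 | h3
  · exact Subgroup.index_eq_one.1 h3
  · exfalso
    rw [h3] at h1
    have h4 : E.relIndex C = 1 := by
      have := Nat.eq_of_mul_eq_mul_right hpF.out.pos (h1.trans (one_mul p).symm)
      exact this
    exact ht (Subgroup.relIndex_eq_one.1 h4 htC)

theorem exists_decomp {E : Subgroup T} (hE : E.Normal) (hidx : E.index = p) {t : T} (ht : t ∉ E) (z : T) :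
    ∃ (b : ℕ) (e : T), e ∈ E ∧ z = t ^ b * e := by
  have htop : Subgroup.zpowers t ⊔ E = ⊤ :=
    eq_top_of_index hidx le_sup_right (Subgroup.mem_sup_left (Subgroup.mem_zpowers t)) ht
  have h1 : z ∈ ((Subgroup.zpowers t ⊔ E : Subgroup T) : Set T) := by
    rw [htop]
    trivial
  rw [Subgroup.mul_normal] at h1
  obtain ⟨h2, hh2, e, he, rfl⟩ := Set.mem_mul.1 h1
  have h3 : h2 ∈ Submonoid.powers t := mem_powers_iff_mem_zpowers.2 hh2
  obtain ⟨b, rfl⟩ := (Submonoid.mem_powers_iff _ _).1 h3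
  exact ⟨b, e, he, rfl⟩

theorem pow_mem_E {E : Subgroup T} (hE : E.Normal) (hidx : E.index = p) (t : T) : t ^ p ∈ E := by
  have h1 : ((t : T ⧸ E)) ^ Nat.card (T ⧸ E) = 1 := pow_card_eq_one'
  rw [← Subgroup.index_eq_card, hidx, ← QuotientGroup.mk_pow] at h1
  exact (QuotientGroup.eq_one_iff _).1 h1

theorem dvd_of_pow_mem {E : Subgroup T} (hE : E.Normal) (hidx : E.index = p) {t : T} (ht : t ∉ E) {b : ℕ}
    (hb : t ^ b ∈ E) : p ∣ b := by
  have h1 : ((t : T ⧸ E)) ^ p = 1 := by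
    rw [← QuotientGroup.mk_pow]
    exact (QuotientGroup.eq_one_iff _).2 (pow_mem_E hE hidx t)
  have h2 : (t : T ⧸ E) ≠ 1 := fun h => ht ((QuotientGroup.eq_one_iff _).1 h)
  have h3 := orderOf_eq_prime h1 h2
  rw [← h3]
  apply orderOf_dvd_of_pow_eq_one
  rw [← QuotientGroup.mk_pow]
  exact (QuotientGroup.eq_one_iff _).2 hb

variable {E : Subgroup T} {l y w t : T} {ah as' : MulAut E} {lam lam' : ℕ} {hat : MulAut T}

theorem central_aux (hT : IsPGroup p T) (hE : E.Normal) (hidx : E.index = p) (ht : t ∉ E) {x : T}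
    (hx : x ∈ E) (hxt : ⁅x, t⁆ ∈ Frat E) (z : T) : ⁅x, z⁆ ∈ Frat E := by
  haveI := frat_normal hE
  let π := QuotientGroup.mk' (Frat E)
  have hπ : ∀ u v : T, ⁅u, v⁆ ∈ Frat E → π u * π v = π v * π u := by
    intro u v huv
    have h1 : π ⁅u, v⁆ = 1 := (QuotientGroup.eq_one_iff _).2 huv
    rw [map_commutatorElement, commutatorElement_eq_one_iff_mul_comm] at h1
    exact h1
  let C : Subgroup T := (Subgroup.centralizer ({π x} : Set (T ⧸ Frat E))).comap π
  have hEC : E ≤ C := by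
    intro e he
    rw [Subgroup.mem_comap, Subgroup.mem_centralizer_singleton_iff]
    exact (hπ x e (comm_mem' hT hx he)).symm
  have htC : t ∈ C := by
    rw [Subgroup.mem_comap, Subgroup.mem_centralizer_singleton_iff]
    exact (hπ x t hxt).symm
  have hC := eq_top_of_index hidx hEC htC ht
  have hzC : z ∈ C := by rw [hC]; trivial
  rw [Subgroup.mem_comap, Subgroup.mem_centralizer_singleton_iff] at hzC
  apply (QuotientGroup.eq_one_iff _).1
  show π ⁅x, z⁆ = 1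
  rw [map_commutatorElement, commutatorElement_eq_one_iff_mul_comm]
  exact hzC.symm

/-- The system in `T/Φ(E)`. -/
theorem sys_of (h : Tv p E l y w t ah as' lam lam' hat) (hp : 5 ≤ p) (hT : IsPGroup p T)
    [hΦ : (Frat E).Normal] :
    Sys p (t : T ⧸ Frat E) (y : T ⧸ Frat E) (l : T ⧸ Frat E) (w : T ⧸ Frat E) := by
  have hE := E_normal hT h.idx
  have hcen : ∀ x : T, x ∈ E → ⁅x, t⁆ ∈ Frat E → ∀ g : T ⧸ Frat E, Commute (x : T ⧸ Frat E) g := by
    intro x hx hxt g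
    obtain ⟨z, rfl⟩ := QuotientGroup.mk_surjective g
    have h1 := central_aux hT hE h.idx h.ht hx hxt z
    have h2 : ((⁅x, z⁆ : T) : T ⧸ Frat E) = 1 := (QuotientGroup.eq_one_iff _).2 h1
    have h3 : ⁅(x : T ⧸ Frat E), (z : T ⧸ Frat E)⁆ = 1 := h2
    exact commutatorElement_eq_one_iff_mul_comm.1 h3
  refine ⟨hpF.out, by omega, hcen l h.hl h.lt, hcen w h.hw h.wt, ?_, ?_, ?_, ?_, ?_⟩
  · have h1 : ((⁅y, t⁆ * l⁻¹ : T) : T ⧸ Frat E) = 1 := (QuotientGroup.eq_one_iff _).2 h.yt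
    have h2 : (y : T ⧸ Frat E) * t * (y : T ⧸ Frat E)⁻¹ * (t : T ⧸ Frat E)⁻¹ * (l : T ⧸ Frat E)⁻¹ = 1 := h1
    have e : (y : T ⧸ Frat E) * t = ((y : T ⧸ Frat E) * t * (y : T ⧸ Frat E)⁻¹ * (t : T ⧸ Frat E)⁻¹ *
        (l : T ⧸ Frat E)⁻¹) * l * t * y := by group
    rw [e, h2, one_mul]
  · rw [← QuotientGroup.mk_pow]
    exact (QuotientGroup.eq_one_iff _).2 (pow_mem' hT h.hl)
  · rw [← QuotientGroup.mk_pow]
    exact (QuotientGroup.eq_one_iff _).2 (pow_mem' hT h.hy)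
  · rw [← QuotientGroup.mk_pow]
    exact (QuotientGroup.eq_one_iff _).2 (pow_mem' hT h.hw)
  · intro a b c he
    apply h.indep a b c
    apply (QuotientGroup.eq_one_iff _).1
    simpa using he

theorem exists_basis (h : Tv p E l y w t ah as' lam lam' hat) (hp : 5 ≤ p) (hT : IsPGroup p T)
    [hΦ : (Frat E).Normal] {e : T} (he : e ∈ E) :
    ∃ a b c : ℕ, (e : T ⧸ Frat E) = (l : T ⧸ Frat E) ^ a * (y : T ⧸ Frat E) ^ b * (w : T ⧸ Frat E) ^ c := by
  classical
  have S := sys_of h hp hT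
  have : NeZero p := ⟨hpF.out.ne_zero⟩
  let K : Subgroup E := (Frat E).subgroupOf E
  have hmemK : ∀ u : E, u ∈ K ↔ (u : T) ∈ Frat E := fun u => Subgroup.mem_subgroupOf
  let elt : Fin p × Fin p × Fin p → E := fun x =>
    ⟨l ^ (x.1 : ℕ) * y ^ (x.2.1 : ℕ) * w ^ (x.2.2 : ℕ),
      E.mul_mem (E.mul_mem (pow_mem h.hl _) (pow_mem h.hy _)) (pow_mem h.hw _)⟩
  let g : Fin p × Fin p × Fin p → E ⧸ K := fun x => (elt x : E ⧸ K)
  have hq : ∀ u v : E, (u : E ⧸ K) = v ↔ ((u : T) : T ⧸ Frat E) = ((v : T) : T ⧸ Frat E) := by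
    intro u v
    rw [QuotientGroup.eq, QuotientGroup.eq, hmemK]
    rfl
  have hinj : Function.Injective g := by
    intro x x' hxx
    have h1 := (hq _ _).1 hxx
    have h2 : (l : T ⧸ Frat E) ^ (x.1 : ℕ) * (y : T ⧸ Frat E) ^ (x.2.1 : ℕ) * (w : T ⧸ Frat E) ^ (x.2.2 : ℕ) =
        (l : T ⧸ Frat E) ^ (x'.1 : ℕ) * (y : T ⧸ Frat E) ^ (x'.2.1 : ℕ) * (w : T ⧸ Frat E) ^ (x'.2.2 : ℕ) := h1
    obtain ⟨h3, h4, h5⟩ := S.indep_mod h2
    have e1 := Nat.ModEq.eq_of_lt_of_lt h3 x.1.2 x'.1.2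
    have e2 := Nat.ModEq.eq_of_lt_of_lt h4 x.2.1.2 x'.2.1.2
    have e3 := Nat.ModEq.eq_of_lt_of_lt h5 x.2.2.2 x'.2.2.2
    exact Prod.ext (Fin.ext e1) (Prod.ext (Fin.ext e2) (Fin.ext e3))
  have hcard : Nat.card (E ⧸ K) ≤ Nat.card (Fin p × Fin p × Fin p) := by
    have h1 : Nat.card (E ⧸ K) = p ^ 3 := h.rk
    rw [h1]
    simp [Nat.card_prod]
    apply le_of_eq
    ring
  have hbij := hinj.bijective_of_nat_card_le hcard
  obtain ⟨x, hx⟩ := hbij.2 ((⟨e, he⟩ : E) : E ⧸ K)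
  have h1 := (hq _ _).1 hx
  exact ⟨x.1, x.2.1, x.2.2, h1.symm⟩

theorem exists_form (h : Tv p E l y w t ah as' lam lam' hat) (hp : 5 ≤ p) (hT : IsPGroup p T)
    [hΦ : (Frat E).Normal] (z : T) :
    ∃ b a c d : ℕ, (z : T ⧸ Frat E) = (t : T ⧸ Frat E) ^ b *
      ((l : T ⧸ Frat E) ^ a * (y : T ⧸ Frat E) ^ c * (w : T ⧸ Frat E) ^ d) := by
  obtain ⟨b, e, he, rfl⟩ := exists_decomp (E_normal hT h.idx) h.idx h.ht z
  obtain ⟨a, c, d, hb⟩ := exists_basis h hp hT he
  exact ⟨b, a, c, d, by rw [QuotientGroup.mk_mul, QuotientGroup.mk_pow, hb]⟩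

theorem hat_frat (h : Tv p E l y w t ah as' lam lam' hat) : Frat E ≤ (Frat E).comap hat.toMonoidHom := by
  rintro _ ⟨z, hz, rfl⟩
  rw [Subgroup.mem_comap]
  show hat ((z : E) : T) ∈ Frat E
  rw [h.hat_E z]
  refine ⟨ah z, ?_, rfl⟩
  have h1 := (Subgroup.characteristic_iff_map_eq.1 (inferInstance : (frattini E).Characteristic)) ah
  rw [← h1]
  exact ⟨z, hz, rfl⟩

theorem X_pow (h : Tv p E l y w t ah as' lam lam' hat) (hp : 5 ≤ p) (hT : IsPGroup p T)
    [hΦ : (Frat E).Normal] : (t : T ⧸ Frat E) ^ p = 1 := by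
  have S := sys_of h hp hT
  have hE := E_normal hT h.idx
  let φ : (T ⧸ Frat E) →* (T ⧸ Frat E) :=
    QuotientGroup.map (Frat E) (Frat E) hat.toMonoidHom (hat_frat h)
  have hφ : ∀ x : T, φ (x : T ⧸ Frat E) = (hat x : T) := fun x => rfl
  have hcongr : ∀ {x x' : T}, x * x'⁻¹ ∈ Frat E → (x : T ⧸ Frat E) = x' := by
    intro x x' hx
    have h1 : ((x * x'⁻¹ : T) : T ⧸ Frat E) = 1 := (QuotientGroup.eq_one_iff _).2 hx
    rw [QuotientGroup.mk_mul, QuotientGroup.mk_inv] at h1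
    exact mul_inv_eq_one.1 h1
  refine S.X_pow_eq_one ?_ φ lam lam' ?_ ?_ ?_ ?_ h.lamlam h.lam2
  · obtain ⟨a, c, d, hb⟩ := exists_basis h hp hT (pow_mem_E hE h.idx t)
    exact ⟨a, c, d, by rw [← QuotientGroup.mk_pow, hb]⟩
  · rw [hφ, ← QuotientGroup.mk_pow]
    have h1 := h.hat_E ⟨l, h.hl⟩
    apply hcongr
    have h2 : hat l = ((ah ⟨l, h.hl⟩ : E) : T) := h1
    rw [h2]
    exact h.ah_l
  · rw [hφ]
    have h1 := h.hat_E ⟨w, h.hw⟩
    apply hcongr
    have h2 : hat w = ((ah ⟨w, h.hw⟩ : E) : T) := h1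
    rw [h2]
    exact h.ah_w
  · rw [hφ, ← QuotientGroup.mk_pow]
    have h1 := h.hat_E ⟨y, h.hy⟩
    apply hcongr
    have h2 : hat y = ((ah ⟨y, h.hy⟩ : E) : T) := h1
    rw [h2]
    exact h.ah_y
  · obtain ⟨a, c, d, hb⟩ := exists_basis h hp hT h.hat_t
    refine ⟨a, c, d, ?_⟩
    rw [hφ]
    have h1 : hat t = (hat t * (t ^ (lam ^ 2))⁻¹) * t ^ (lam ^ 2) := by group
    rw [h1, QuotientGroup.mk_mul, hb, QuotientGroup.mk_pow]

end Concrete

end TvAux

open TvAux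

variable {T : Type u} [Group T] [Finite T] {p : ℕ} [hpF : Fact p.Prime]
variable {E : Subgroup T} {l y w t : T} {ah as' : MulAut E} {lam lam' : ℕ} {hat : MulAut T}

/-- TB : `T/Φ(E)` has exponent `p`. -/
theorem Tv.pow_mem (h : Tv p E l y w t ah as' lam lam' hat) (hp : 5 ≤ p) (hT : IsPGroup p T) (z : T) :
    z ^ p ∈ Frat E := by
  haveI := frat_normal (E_normal hT h.idx)
  have S := sys_of h hp hT
  have hX := X_pow h hp hT
  obtain ⟨b, a, c, d, hz⟩ := exists_form h hp hT z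
  apply (QuotientGroup.eq_one_iff _).1
  rw [QuotientGroup.mk_pow, hz,
    pow_p S.hp S.hp3 (a := (t : T ⧸ Frat E) ^ b)
      (b := (l : T ⧸ Frat E) ^ a * (y : T ⧸ Frat E) ^ c * (w : T ⧸ Frat E) ^ d)
      (c := (l : T ⧸ Frat E) ^ (c * b))
      ((S.hLc _).pow_left _) ((S.hLc _).pow_left _) (S.E_X_pow a c d b)
      (by rw [← pow_mul, mul_comm (c * b), pow_mul, S.hLp, one_pow]),
    S.E_pow, mul_one, ← pow_mul, mul_comm b, pow_mul, hX, one_pow]

theorem Tv.central (h : Tv p E l y w t ah as' lam lam' hat) (hp : 5 ≤ p) (hT : IsPGroup p T) (z : T) :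
    ⁅l, z⁆ ∈ Frat E ∧ ⁅w, z⁆ ∈ Frat E :=
  ⟨central_aux hT (E_normal hT h.idx) h.idx h.ht h.hl h.lt z,
    central_aux hT (E_normal hT h.idx) h.idx h.ht h.hw h.wt z⟩

theorem Tv.gen (h : Tv p E l y w t ah as' lam lam' hat) (hp : 5 ≤ p) (hT : IsPGroup p T) (z : T) :
    ∃ a b c d : ℕ, z * (y ^ a * t ^ b * l ^ c * w ^ d)⁻¹ ∈ Frat E := by
  haveI := frat_normal (E_normal hT h.idx)
  have S := sys_of h hp hT
  obtain ⟨b, a, c, d, hz⟩ := exists_form h hp hT z
  refine ⟨c, b, a + c * b * (p - 1), d, ?_⟩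
  apply (QuotientGroup.eq_one_iff _).1
  rw [S.reorder] at hz
  rw [QuotientGroup.mk_mul, QuotientGroup.mk_inv, hz, mul_inv_eq_one]
  simp only [QuotientGroup.mk_mul, QuotientGroup.mk_pow]

theorem Tv.ind (h : Tv p E l y w t ah as' lam lam' hat) (hp : 5 ≤ p) (hT : IsPGroup p T) (a b c d : ℕ)
    (hz : y ^ a * t ^ b * l ^ c * w ^ d ∈ Frat E) : p ∣ a ∧ p ∣ b ∧ p ∣ c ∧ p ∣ d := by
  have hE := E_normal hT h.idx
  haveI := frat_normal hE
  have S := sys_of h hp hT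
  have hX := X_pow h hp hT
  have h1 : y ^ a * t ^ b * l ^ c * w ^ d ∈ E := frat_le' E hz
  have h2 : y ^ a * t ^ b * l ^ c ∈ E := (Subgroup.mul_mem_cancel_right E (E.pow_mem h.hw d)).1 h1
  have h3 : y ^ a * t ^ b ∈ E := (Subgroup.mul_mem_cancel_right E (E.pow_mem h.hl c)).1 h2
  have h4 : t ^ b ∈ E := (Subgroup.mul_mem_cancel_left E (E.pow_mem h.hy a)).1 h3
  have hb := dvd_of_pow_mem hE h.idx h.ht h4
  have hXb : (t : T ⧸ Frat E) ^ b = 1 := by
    obtain ⟨m, rfl⟩ := hb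
    rw [pow_mul, hX, one_pow]
  have h5 : (y : T ⧸ Frat E) ^ a * (t : T ⧸ Frat E) ^ b * (l : T ⧸ Frat E) ^ c * (w : T ⧸ Frat E) ^ d = 1 := by
    have := (QuotientGroup.eq_one_iff _).2 hz
    simpa only [QuotientGroup.mk_mul, QuotientGroup.mk_pow] using this
  rw [hXb, mul_one, ← ((S.hLc _).pow_left c : Commute _ _).eq] at h5
  obtain ⟨hc, ha, hd⟩ := S.hind c a d h5
  exact ⟨ha, hb, hc, hd⟩

/-- `Φ(T) = ⟨l⟩Φ(E)`. -/
theorem Tv.frattini_eq (h : Tv p E l y w t ah as' lam lam' hat) (hp : 5 ≤ p) (hT : IsPGroup p T) :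
    frattini T = Subgroup.zpowers l ⊔ Frat E := by
  have hE := E_normal hT h.idx
  haveI := hE
  haveI hΦ := frat_normal hE
  have S := sys_of h hp hT
  apply le_antisymm
  · -- `T/⟨l⟩Φ(E)` is elementary abelian
    let Z : Subgroup (T ⧸ Frat E) := Subgroup.zpowers (l : T ⧸ Frat E)
    have hZ : Z.Normal := by
      refine ⟨fun a ha g => ?_⟩
      obtain ⟨k, rfl⟩ := ha
      have : g * (l : T ⧸ Frat E) ^ k * g⁻¹ = (l : T ⧸ Frat E) ^ k := by
        rw [(((S.hLc g).zpow_left k).eq).symm, mul_inv_cancel_right]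
      show g * (l : T ⧸ Frat E) ^ k * g⁻¹ ∈ Z
      rw [this]
      exact ⟨k, rfl⟩
    let π := QuotientGroup.mk' (Frat E)
    let M : Subgroup T := Z.comap π
    have hM : M.Normal := hZ.comap π
    have hcomm : ∀ a b : T, ⁅a, b⁆ ∈ M := by
      intro u v
      obtain ⟨a, b, c, d, h1⟩ := h.gen hp hT u
      obtain ⟨a', b', c', d', h2⟩ := h.gen hp hT v
      let ρ : T →* (T ⧸ Frat E) ⧸ Z := (QuotientGroup.mk' Z).comp π
      have hρ1 : ∀ x, x ∈ Frat E → ρ x = 1 := by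
        intro x hx
        have : π x = 1 := (QuotientGroup.eq_one_iff _).2 hx
        show QuotientGroup.mk' Z (π x) = 1
        rw [this, map_one]
      have hρl : ρ l = 1 := (QuotientGroup.eq_one_iff _).2 (Subgroup.mem_zpowers _)
      have hρyt : Commute (ρ y) (ρ t) := by
        have h3 : ρ (⁅y, t⁆ * l⁻¹) = 1 := hρ1 _ h.yt
        rw [map_mul, map_inv, hρl, inv_one, mul_one, map_commutatorElement,
          commutatorElement_eq_one_iff_mul_comm] at h3
        exact h3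
      have hρw : ∀ g, Commute (ρ w) (ρ g) := by
        intro g
        have h3 : ρ ⁅w, g⁆ = 1 := hρ1 _ (h.central hp hT g).2
        rw [map_commutatorElement, commutatorElement_eq_one_iff_mul_comm] at h3
        exact h3
      have hform : ∀ x a b c d, x * (y ^ a * t ^ b * l ^ c * w ^ d)⁻¹ ∈ Frat E →
          ρ x = ρ y ^ a * ρ t ^ b * ρ w ^ d := by
        intro x a b c d hx
        have h3 := hρ1 _ hx
        rw [map_mul, map_inv, mul_inv_eq_one] at h3
        rw [h3]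
        simp only [map_mul, map_pow, hρl, one_pow, mul_one]
      have hC : Commute (ρ u) (ρ v) := by
        rw [hform u a b c d h1, hform v a' b' c' d' h2]
        have hyy : ∀ i j, Commute (ρ y ^ i) (ρ y ^ j) := fun i j => (Commute.refl _).pow_pow i j
        have htt : ∀ i j, Commute (ρ t ^ i) (ρ t ^ j) := fun i j => (Commute.refl _).pow_pow i j
        have hww : ∀ i j, Commute (ρ w ^ i) (ρ w ^ j) := fun i j => (Commute.refl _).pow_pow i j
        have hyt : ∀ i j, Commute (ρ y ^ i) (ρ t ^ j) := fun i j => hρyt.pow_pow i j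
        have hwy : ∀ i j, Commute (ρ w ^ i) (ρ y ^ j) := fun i j => (hρw y).pow_pow i j
        have hwt : ∀ i j, Commute (ρ w ^ i) (ρ t ^ j) := fun i j => (hρw t).pow_pow i j
        refine Commute.mul_left (Commute.mul_left ?_ ?_) ?_
        · exact Commute.mul_right (Commute.mul_right (hyy _ _) (hyt _ _)) (hwy _ _).symm
        · exact Commute.mul_right (Commute.mul_right (hyt _ _).symm (htt _ _)) (hwt _ _).symm
        · exact Commute.mul_right (Commute.mul_right (hwy _ _) (hwt _ _)) (hww _ _)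
      have h3 : ρ ⁅u, v⁆ = 1 := by
        rw [map_commutatorElement, commutatorElement_eq_one_iff_mul_comm]
        exact hC
      show π ⁅u, v⁆ ∈ Z
      exact (QuotientGroup.eq_one_iff _).1 h3
    have hpow : ∀ x : T, x ^ p ∈ M := by
      intro x
      have h1 : π (x ^ p) = 1 := (QuotientGroup.eq_one_iff _).2 (h.pow_mem hp hT x)
      show π (x ^ p) ∈ Z
      rw [h1]
      exact one_mem _
    have hle : frattini T ≤ M := by
      haveI := hM
      refine Cfsg.Agent.Lib.PGroup.ActionFrattini.frattini_le hT M ?_ hpow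
      rw [commutator_def, Subgroup.commutator_le]
      intro a _ b _
      exact hcomm a b
    refine hle.trans ?_
    intro x hx
    obtain ⟨k, hk⟩ := (hx : π x ∈ Z)
    have h1 : x * (l ^ k)⁻¹ ∈ Frat E := by
      apply (QuotientGroup.eq_one_iff _).1
      rw [QuotientGroup.mk_mul, QuotientGroup.mk_inv, QuotientGroup.mk_zpow, mul_inv_eq_one]
      exact hk.symm
    have h2 : x = (x * (l ^ k)⁻¹) * l ^ k := by simp
    rw [h2]
    exact (Subgroup.zpowers l ⊔ Frat E).mul_mem (Subgroup.mem_sup_right h1)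
      (Subgroup.mem_sup_left (Subgroup.zpow_mem_zpowers l k))
  · have hΦT : Frat E ≤ frattini T := by
      have h1 : frattini E ≤ (frattini T).subgroupOf E := by
        refine Cfsg.Agent.Lib.PGroup.ActionFrattini.frattini_le (hT.to_subgroup E) _ ?_ ?_
        · rw [commutator_def, Subgroup.commutator_le]
          intro a _ b _
          rw [Subgroup.mem_subgroupOf]
          exact Cfsg.Agent.Lib.PGroup.FrattiniBasis.commutator_le_frattini hT
            (Subgroup.commutator_mem_commutator trivial trivial)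
        · intro x
          rw [Subgroup.mem_subgroupOf]
          exact Cfsg.Agent.Lib.PGroup.FrattiniBasis.pow_mem_frattini hT _
      rintro _ ⟨z, hz, rfl⟩
      exact Subgroup.mem_subgroupOf.1 (h1 hz)
    refine sup_le ?_ hΦT
    rw [Subgroup.zpowers_le]
    have h1 : ⁅y, t⁆ ∈ frattini T := Cfsg.Agent.Lib.PGroup.FrattiniBasis.commutator_le_frattini hT
      (Subgroup.commutator_mem_commutator trivial trivial)
    have h2 := hΦT h.yt
    have h3 : l = (⁅y, t⁆ * l⁻¹)⁻¹ * ⁅y, t⁆ := by group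
    rw [h3]
    exact (frattini T).mul_mem ((frattini T).inv_mem h2) h1

end Cfsg.Agent.Lib.S5180
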