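import Mathlib
import Cfsg.Prelude.Def_FusionSystem
import Cfsg.Agent.Lib.S5180.Defs
import Cfsg.Agent.Lib.S5180.Basic
import Cfsg.Agent.Lib.S5180.TvBasic
import Cfsg.Agent.Lib.S5180.LemmaM
import Cfsg.Agent.Lib.PGroup.ActionFrattini

set_option autoImplicit false
open scoped commutatorElement
open Cfsg

namespace Cfsg.Agent.Lib.S5180
universe u

section Pure
variable {T : Type u} [Group T] [Finite T] {p : ℕ} [Fact p.Prime]

section Tv
variable {E : Subgroup T} {l y w t : T} {ah as' : MulAut E} {lam lam' : ℕ} {hat : MulAut T}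

/-- the frattini subgroup of a normal subgroup is normal -/
theorem Subgroup.Normal.map_of_characteristic_lemmaD (E : Subgroup T) [hE : E.Normal] :
    ((frattini E).map E.subtype).Normal := by
  refine ⟨fun n hn g => ?_⟩
  obtain ⟨a, ha, rfl⟩ := hn
  let φ : E ≃* E := MulAut.conjNormal g
  have hc : (frattini E).Characteristic := inferInstance
  have h1 : φ a ∈ frattini E := by
    have := hc.fixed φ
    rw [← this] at ha
    exact ha
  exact ⟨φ a, h1, by simp [φ, MulAut.conjNormal_apply]⟩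

/-- a subgroup of prime index in a `p`-group is normal -/
theorem lemmaD_normal (hT : IsPGroup p T) {H : Subgroup T} (hH : H.index = p) : H.Normal := by
  have hne : Nat.card T ≠ 1 := by
    intro h1
    have := Subgroup.index_dvd_card H
    rw [hH, h1] at this
    exact (Fact.out : p.Prime).one_lt.ne' (Nat.dvd_one.mp this)
  obtain ⟨n, hn⟩ := IsPGroup.iff_card.1 hT
  apply Subgroup.normal_of_index_eq_minFac_card
  rw [hn, Nat.Prime.pow_minFac Fact.out, hH]
  rintro rfl
  apply hne
  rw [hn, pow_zero]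

/-- stronger than `Tv.lemmaD`: `w` lies in every image of `E`. -/
theorem Tv.lemmaD_strong (h : Tv p E l y w t ah as' lam lam' hat) (hp : 5 ≤ p) (hT : IsPGroup p T)
    (hsr : SectionalPRankLE p 3 T) (σ : MulAut T) :
    w ∈ E.map σ.toMonoidHom := by
  classical
  by_contra hwE
  haveI hEn : E.Normal := lemmaD_normal hT h.idx
  haveI hFn : (Frat E).Normal := by
    unfold Frat
    exact Subgroup.Normal.map_of_characteristic_lemmaD E
  set F := Frat E with hF
  let π : T →* T ⧸ F := QuotientGroup.mk' F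
  have hπ1 : ∀ a : T, π a = 1 ↔ a ∈ F := fun a => QuotientGroup.eq_one_iff a
  have hπc : ∀ a b : T, ⁅a, b⁆ ∈ F ↔ π a * π b = π b * π a := by
    intro a b
    rw [← hπ1, map_commutatorElement, commutatorElement_eq_one_iff_mul_comm]
  have hFT := h.frattini_eq hp hT
  have hFle : F ≤ frattini T := by
    rw [hFT]
    exact le_sup_right
  have hlT : l ∈ frattini T := by
    rw [hFT]
    exact Subgroup.mem_sup_left (Subgroup.mem_zpowers l)
  have hcen : ∀ f ∈ frattini T, π f ∈ Subgroup.center (T ⧸ F) := by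
    intro f hf
    have hle : frattini T ≤ (Subgroup.center (T ⧸ F)).comap π := by
      rw [hFT]
      refine sup_le ?_ ?_
      · rw [Subgroup.zpowers_le]
        rw [Subgroup.mem_comap, Subgroup.mem_center_iff]
        intro g
        obtain ⟨z, rfl⟩ := QuotientGroup.mk'_surjective F g
        exact ((hπc l z).mp (h.central hp hT z).1).symm
      · intro x hx
        rw [Subgroup.mem_comap, (hπ1 x).mpr hx]
        exact Subgroup.one_mem _
    exact hle hf
  have hwcen : π w ∈ Subgroup.center (T ⧸ F) := by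
    rw [Subgroup.mem_center_iff]
    intro g
    obtain ⟨z, rfl⟩ := QuotientGroup.mk'_surjective F g
    exact ((hπc w z).mp (h.central hp hT z).2).symm
  have hσT : ∀ f ∈ frattini T, σ f ∈ frattini T := by
    intro f hf
    have hc : (frattini T).Characteristic := inferInstance
    have := hc.fixed σ
    rw [← this] at hf
    exact hf
  -- `Frat2 E` is sent into `Φ(E)`
  have hF2 : ∀ x ∈ Frat2 E, σ x ∈ F := by
    intro x hx
    have hle : Frat2 E ≤ F.comap σ.toMonoidHom := by
      unfold Frat2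
      refine sup_le ?_ ?_
      · rw [Subgroup.commutator_le]
        intro g₁ hg₁ g₂ _
        show σ ⁅g₁, g₂⁆ ∈ F
        rw [map_commutatorElement, hπc]
        exact ((Subgroup.mem_center_iff.mp (hcen _ (hσT _ (hFle hg₁)))) _).symm
      · show (frattini ↥F).map F.subtype ≤ _
        rw [Subgroup.map_le_iff_le_comap]
        haveI hN : ((F.comap σ.toMonoidHom).subgroupOf F).Normal :=
          Subgroup.Normal.subgroupOf inferInstance _
        have hP : IsPGroup p F := hT.to_subgroup _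
        have := PGroup.ActionFrattini.frattini_le hP ((F.comap σ.toMonoidHom).subgroupOf F) ?_ ?_
        · intro a ha
          have := this ha
          rw [Subgroup.mem_subgroupOf] at this
          exact this
        · rw [commutator_def, Subgroup.commutator_le]
          intro a _ b _
          rw [Subgroup.mem_subgroupOf]
          show σ (F.subtype ⁅a, b⁆) ∈ F
          rw [map_commutatorElement, map_commutatorElement, hπc]
          exact ((Subgroup.mem_center_iff.mp (hcen _ (hσT _ (hFle a.2)))) _).symm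
        · intro a
          rw [Subgroup.mem_subgroupOf]
          show σ (F.subtype (a ^ p)) ∈ F
          rw [map_pow, map_pow]
          exact h.pow_mem hp hT _
    exact hle hx
  -- the images of `y, w` commute
  let π' : T →* T ⧸ F := π.comp σ.toMonoidHom
  have hπ' : ∀ x, π' x = π (σ x) := fun _ => rfl
  have hAB : π' y * π' w = π' w * π' y := by
    rcases h.lemmaM hp hT hsr with hc | ⟨κ, hκ, hc⟩
    · have := hF2 _ hc
      rw [map_commutatorElement, hπc] at this
      exact this
    · have h1 := hF2 _ hc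
      have h2 : σ y ^ p ∈ F := h.pow_mem hp hT _
      rw [map_mul, map_inv, map_pow, map_pow, map_commutatorElement] at h1
      have h3 : ⁅σ y, σ w⁆ ^ κ ∈ F := by
        have := F.mul_mem (F.inv_mem h1) h2
        simpa using this
      have h4 : ⁅σ y, σ w⁆ ^ p ∈ F := h.pow_mem hp hT _
      have hco : Nat.Coprime κ p :=
        ((Nat.Prime.coprime_iff_not_dvd Fact.out).mpr hκ).symm
      have h5 : π ⁅σ y, σ w⁆ = 1 := by
        have e1 : π ⁅σ y, σ w⁆ ^ κ = 1 := by
          rw [← map_pow]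
          exact (hπ1 _).mpr h3
        have e2 : π ⁅σ y, σ w⁆ ^ p = 1 := by
          rw [← map_pow]
          exact (hπ1 _).mpr h4
        have e3 := (pow_gcd_eq_one (a := π ⁅σ y, σ w⁆) (m := κ) (n := p)).mpr ⟨e1, e2⟩
        rw [hco.gcd_eq_one, pow_one] at e3
        exact e3
      exact (hπc _ _).mp ((hπ1 _).mp h5)
  -- membership of the image of `E`
  have hlE := h.hl
  have hyE := h.hy
  have hwE' := h.hw
  have hFE : F ≤ E := frat_le E
  have hpp : p.Prime := Fact.out
  have hdvd : ∀ b : ℕ, t ^ b ∈ E → p ∣ b := by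
    intro b hb
    haveI : Fact p.Prime := ⟨hpp⟩
    have hcard : Nat.card (T ⧸ E) = p := h.idx
    have h1 : (QuotientGroup.mk t : T ⧸ E) ^ b = 1 := by
      rw [← QuotientGroup.mk_pow]
      exact (QuotientGroup.eq_one_iff _).mpr hb
    have h2 : (QuotientGroup.mk t : T ⧸ E) ≠ 1 := by
      intro h3
      exact h.ht ((QuotientGroup.eq_one_iff _).mp h3)
    have h3 : (QuotientGroup.mk t : T ⧸ E) ^ p = 1 := by
      have := pow_card_eq_one' (x := (QuotientGroup.mk t : T ⧸ E))
      rwa [hcard] at this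
    have h4 := orderOf_eq_prime h3 h2
    rw [← h4]
    exact orderOf_dvd_of_pow_eq_one h1
  have key : ∀ U : Subgroup (T ⧸ F), π' y ∈ U → π' w ∈ U → Subgroup.center (T ⧸ F) ≤ U →
      ∀ x ∈ E, π' x ∈ U := by
    intro U hA hB hZ x hx
    obtain ⟨a, b, c, d, hf0⟩ := h.gen hp hT x
    obtain ⟨f, hf, hxe⟩ : ∃ f ∈ F, x = f * (y ^ a * t ^ b * l ^ c * w ^ d) :=
      ⟨_, hf0, by group⟩
    have htb : t ^ b ∈ E := by
      have e1 : t ^ b = (y ^ a)⁻¹ * (f⁻¹ * x) * (w ^ d)⁻¹ * (l ^ c)⁻¹ := by
        rw [hxe]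
        group
      rw [e1]
      exact E.mul_mem (E.mul_mem (E.mul_mem (E.inv_mem (E.pow_mem hyE a))
        (E.mul_mem (E.inv_mem (hFE hf)) hx)) (E.inv_mem (E.pow_mem hwE' d)))
        (E.inv_mem (E.pow_mem hlE c))
    obtain ⟨m, rfl⟩ := hdvd b htb
    have htF : t ^ (p * m) ∈ F := by
      rw [pow_mul]
      exact F.pow_mem (h.pow_mem hp hT t) m
    have hc1 : π' (t ^ (p * m)) ∈ U := hZ (hcen _ (hσT _ (hFle htF)))
    have hc2 : π' (l ^ c) ∈ U := by
      rw [map_pow]
      exact U.pow_mem (hZ (hcen _ (hσT _ hlT))) c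
    have hc3 : π' f ∈ U := hZ (hcen _ (hσT _ (hFle hf)))
    rw [hxe, map_mul, map_mul, map_mul, map_mul, map_pow π' y, map_pow π' w]
    exact U.mul_mem hc3 (U.mul_mem (U.mul_mem (U.mul_mem (U.pow_mem hA a) hc1) hc2)
      (U.pow_mem hB d))
  have hAU : ∀ x ∈ E, π' x ∈ Subgroup.centralizer ({π' y, π' w} : Set (T ⧸ F)) := by
    refine key _ ?_ ?_ ?_
    · rw [Subgroup.mem_centralizer_iff]
      rintro g (rfl | rfl)
      · rfl
      · exact hAB.symm
    · rw [Subgroup.mem_centralizer_iff]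
      rintro g (rfl | rfl)
      · exact hAB
      · rfl
    · intro z hz
      rw [Subgroup.mem_centralizer_iff]
      intro g _
      exact (Subgroup.mem_center_iff.mp hz g)
  have hcommE : ∀ x₁ ∈ E, ∀ x₂ ∈ E, π' x₁ * π' x₂ = π' x₂ * π' x₁ := by
    intro x₁ hx₁ x₂ hx₂
    have hU : π' x₂ ∈ Subgroup.centralizer ({π' x₁} : Set (T ⧸ F)) := by
      refine key _ ?_ ?_ ?_ x₂ hx₂
      · rw [Subgroup.mem_centralizer_iff]
        rintro g rfl
        exact (Subgroup.mem_centralizer_iff.mp (hAU x₁ hx₁) (π' y) (Or.inl rfl)).symm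
      · rw [Subgroup.mem_centralizer_iff]
        rintro g rfl
        exact (Subgroup.mem_centralizer_iff.mp (hAU x₁ hx₁) (π' w) (Or.inr rfl)).symm
      · intro z hz
        rw [Subgroup.mem_centralizer_iff]
        intro g _
        exact (Subgroup.mem_center_iff.mp hz g)
    exact (Subgroup.mem_centralizer_iff.mp hU (π' x₁) rfl)
  -- now `σ E` together with the central `w` gives everything
  set E' := E.map σ.toMonoidHom with hE'
  have hidx' : E'.index = p := by
    rw [hE', Subgroup.index_map_of_bijective σ.bijective, h.idx]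
  haveI hE'n : E'.Normal := lemmaD_normal hT hidx'
  have hrep : ∀ z : T, ∃ (x : T) (i : ℤ), x ∈ E ∧ z = σ x * w ^ i := by
    intro z
    have hcard : Nat.card (T ⧸ E') = p := hidx'
    have hne : (QuotientGroup.mk w : T ⧸ E') ≠ 1 := by
      intro h3
      exact hwE ((QuotientGroup.eq_one_iff _).mp h3)
    haveI : Fintype (T ⧸ E') := Fintype.ofFinite _
    have hz := mem_zpowers_of_prime_card hcard (g := (QuotientGroup.mk w : T ⧸ E'))
      (g' := (QuotientGroup.mk z : T ⧸ E')) hne
    obtain ⟨i, hi⟩ := hz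
    have h1 : z * (w ^ i)⁻¹ ∈ E' := by
      rw [← QuotientGroup.eq_one_iff, QuotientGroup.mk_mul, QuotientGroup.mk_inv,
        QuotientGroup.mk_zpow]
      simp only at hi
      rw [hi, mul_inv_cancel]
    obtain ⟨x, hx, hxe⟩ := h1
    refine ⟨x, i, hx, ?_⟩
    have : σ x = z * (w ^ i)⁻¹ := hxe
    rw [this]
    group
  obtain ⟨x₁, i, hx₁, hy₁⟩ := hrep y
  obtain ⟨x₂, j, hx₂, ht₂⟩ := hrep t
  have hcomm : π y * π t = π t * π y := by
    have hwc : ∀ i : ℤ, π (w ^ i) ∈ Subgroup.center (T ⧸ F) := by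
      intro i
      rw [map_zpow]
      exact Subgroup.zpow_mem _ hwcen i
    have hc : π (σ x₁) * π (σ x₂) = π (σ x₂) * π (σ x₁) := hcommE x₁ hx₁ x₂ hx₂
    rw [hy₁, ht₂, map_mul, map_mul]
    have e1 := Subgroup.mem_center_iff.mp (hwc i)
    have e2 := Subgroup.mem_center_iff.mp (hwc j)
    calc π (σ x₁) * π (w ^ i) * (π (σ x₂) * π (w ^ j))
        = π (σ x₁) * (π (w ^ i) * π (σ x₂)) * π (w ^ j) := by group
      _ = π (σ x₁) * (π (σ x₂) * π (w ^ i)) * π (w ^ j) := by rw [e1]
      _ = (π (σ x₁) * π (σ x₂)) * (π (w ^ i) * π (w ^ j)) := by group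
      _ = (π (σ x₂) * π (σ x₁)) * (π (w ^ j) * π (w ^ i)) := by rw [hc, e1 (π (w ^ j))]
      _ = π (σ x₂) * (π (σ x₁) * π (w ^ j)) * π (w ^ i) := by group
      _ = π (σ x₂) * (π (w ^ j) * π (σ x₁)) * π (w ^ i) := by rw [e2]
      _ = π (σ x₂) * π (w ^ j) * (π (σ x₁) * π (w ^ i)) := by group
  have hyt : ⁅y, t⁆ ∈ F := (hπc y t).mpr hcomm
  have hl : l ∈ F := by
    have e : l = (⁅y, t⁆ * l⁻¹)⁻¹ * ⁅y, t⁆ := by group
    rw [e]
    exact F.mul_mem (F.inv_mem h.yt) hyt
  have := (h.indep 1 0 0 (by simpa using hl)).1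
  exact hpp.one_lt.ne' (Nat.dvd_one.mp this)

theorem Tv.lemmaD (h : Tv p E l y w t ah as' lam lam' hat) (hp : 5 ≤ p) (hT : IsPGroup p T)
    (hsr : SectionalPRankLE p 3 T) (σ : MulAut T) (_hσ : E.map σ.toMonoidHom ≠ E) :
    w ∈ E.map σ.toMonoidHom ∨ σ w ∈ E :=
  Or.inl (h.lemmaD_strong hp hT hsr σ)

end Tv
end Pure
end Cfsg.Agent.Lib.S5180
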