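import Cfsg.Agent.Lib.S5180.ChainCore
import Cfsg.Agent.Lib.S5180.TvBasic
import Cfsg.Agent.Lib.S5180.LemmaD

/-! `Tv.fix_w`: PLAN §T step C. -/

set_option autoImplicit false

open scoped commutatorElement
open Cfsg

namespace Cfsg.Agent.Lib.S5180

universe u

variable {T : Type u} [Group T] [Finite T] {p : ℕ} [Fact p.Prime]
variable {E : Subgroup T} {l y w t : T} {ah as' : MulAut E} {lam lam' : ℕ} {hat : MulAut T}

/-- CH : PLAN §T step C (lemmaD for `σ`, `σ²`; linear algebra on `T/Φ(T)`). -/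
theorem Tv.fix_w (h : Tv p E l y w t ah as' lam lam' hat) (hp : 5 ≤ p) (hT : IsPGroup p T)
    (hsr : SectionalPRankLE p 3 T) (σ : MulAut T) (τ : T) (hσ : E.map σ.toMonoidHom ≠ E)
    (hσp : σ ^ p = MulAut.conj τ) : σ w * w⁻¹ ∈ frattini T :=
  h.fix_w_core hp hT (h.gen hp hT) (h.frattini_eq hp hT) (fun σ' hσ' => h.lemmaD hp hT hsr σ' hσ') σ τ hσ hσp

end Cfsg.Agent.Lib.S5180
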