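import Cfsg.Agent.Lib.S5180.Defs
import Cfsg.Agent.Lib.PGroup.Basic

/-! Linear algebra for `Tv.fix_w` (PLAN §T step C): the chain `w, nw, n²w`, with `n = g - 1`, `n³ = 0`. -/

set_option autoImplicit false

namespace Cfsg.Agent.Lib.S5180.ChainAux

open Module Polynomial

universe v

variable {p : ℕ} [hp : Fact p.Prime] {B : Type v} [AddCommGroup B] [Module (ZMod p) B] [Finite B]

theorem cube_zero (hfin : finrank (ZMod p) B ≤ 3) (g : End (ZMod p) B) (hg : g ^ p = 1) :
    (g - 1) ^ 3 = 0 := by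
  haveI : Module.Finite (ZMod p) B := Module.Finite.of_finite
  have h1 : (g - 1) ^ p = 0 := by
    have hpoly : ((X - 1 : (ZMod p)[X])) ^ p = X ^ p - 1 := by
      rw [sub_pow_char, one_pow]
    have := congrArg (aeval g) hpoly
    simp only [map_pow, map_sub, aeval_X, map_one] at this
    rw [this, hg, sub_self]
  have hnil : IsNilpotent (g - 1) := ⟨p, h1⟩
  have hchar := (LinearMap.isNilpotent_iff_charpoly (g - 1)).mp hnil
  have hCH := LinearMap.aeval_self_charpoly (g - 1)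
  rw [hchar, map_pow, aeval_X] at hCH
  exact pow_eq_zero_of_le hfin hCH

omit [Finite B] in
/-- The formulas for `g`, `g'` on the chain. -/
theorem chain_eqs (g g' : End (ZMod p) B) (hg'g : g' * g = 1) (hn : (g - 1) ^ 3 = 0) (w : B) :
    ∃ w₁ w₂ : B, g w = w + w₁ ∧ g w₁ = w₁ + w₂ ∧ g w₂ = w₂ ∧ g' w₂ = w₂ ∧ g' w₁ = w₁ - w₂ ∧
      g' w = w - w₁ + w₂ ∧ (g - 1) w = w₁ ∧ (g - 1) w₁ = w₂ ∧ (g - 1) w₂ = 0 := by
  refine ⟨(g - 1) w, (g - 1) ((g - 1) w), ?_⟩
  have h3 : (g - 1) ((g - 1) ((g - 1) w)) = 0 := by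
    have := congrArg (fun e : End (ZMod p) B => e w) hn
    simpa [pow_succ, Module.End.mul_apply] using this
  have inv : ∀ v, g' (g v) = v := fun v => by
    have := congrArg (fun e : End (ZMod p) B => e v) hg'g
    simpa [Module.End.mul_apply] using this
  have g0 : g w = w + (g - 1) w := by simp
  have g1 : g ((g - 1) w) = (g - 1) w + (g - 1) ((g - 1) w) := by
    simp [LinearMap.sub_apply]
  have g2 : g ((g - 1) ((g - 1) w)) = (g - 1) ((g - 1) w) := by
    have h := h3
    rw [LinearMap.sub_apply] at h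
    simpa [sub_eq_zero] using h
  generalize hw₁ : (g - 1) w = w₁ at *
  generalize hw₂ : (g - 1) w₁ = w₂ at *
  have g'2 : g' w₂ = w₂ := by
    have := inv w₂
    rwa [g2] at this
  have g'1 : g' w₁ = w₁ - w₂ := by
    have := inv w₁
    rw [g1, map_add, g'2] at this
    rw [eq_sub_iff_add_eq]
    exact this
  have g'0 : g' w = w - w₁ + w₂ := by
    have := inv w
    rw [g0, map_add, g'1] at this
    have h5 : g' w = w - (w₁ - w₂) := eq_sub_of_add_eq this
    rw [h5]
    abel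
  exact ⟨g0, g1, g2, g'2, g'1, g'0, rfl, rfl, h3⟩

omit [Finite B] in
theorem three_ne_zero' (hp5 : 5 ≤ p) : (3 : ZMod p) ≠ 0 := by
  intro h
  have h1 : ((3 : ℕ) : ZMod p) = 0 := by exact_mod_cast h
  rw [ZMod.natCast_eq_zero_iff] at h1
  have := Nat.le_of_dvd (by norm_num) h1
  omega

omit [Finite B] in
theorem f_zero (hp5 : 5 ≤ p) (g g' : End (ZMod p) B) (hg'g : g' * g = 1) (hn : (g - 1) ^ 3 = 0)
    (f : B →ₗ[ZMod p] ZMod p) (w : B) (hw : f w = 0)
    (hD1 : f (g w) = 0 ∨ f (g' w) = 0) (hD2 : f (g (g w)) = 0 ∨ f (g' (g' w)) = 0) :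
    f (g w) = 0 := by
  obtain ⟨w₁, w₂, g0, g1, g2, g'2, g'1, g'0, -, -, -⟩ := chain_eqs g g' hg'g hn w
  by_contra hb
  have hb1 : f (g w) = f w₁ := by rw [g0, map_add, hw, zero_add]
  have hb' : f w₁ ≠ 0 := by rwa [← hb1]
  have hc : f w₂ = f w₁ := by
    rcases hD1 with h | h
    · exact absurd h hb
    · rw [g'0, map_add, map_sub, hw, zero_sub] at h
      linear_combination h
  rcases hD2 with h | h
  · have e : g (g w) = w + w₁ + (w₁ + w₂) := by rw [g0, map_add, g0, g1]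
    rw [e] at h
    simp only [map_add, hw, hc] at h
    have h3 : (3 : ZMod p) * f w₁ = 0 := by linear_combination h
    rcases mul_eq_zero.mp h3 with h4 | h4
    · exact three_ne_zero' hp5 h4
    · exact hb' h4
  · have e : g' (g' w) = (w - w₁ + w₂) - (w₁ - w₂) + w₂ := by
      rw [g'0, map_add, map_sub, g'0, g'1, g'2]
    rw [e] at h
    simp only [map_add, map_sub, hw, hc] at h
    apply hb'
    linear_combination h

theorem chain_lin (hp5 : 5 ≤ p) (g g' : End (ZMod p) B) (hgg' : g * g' = 1) (hg'g : g' * g = 1)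
    (hgp : g ^ p = 1) (U : Submodule (ZMod p) B) (y₀ t₀ w₀ : B) (hy : y₀ ∈ U) (ht : t₀ ∉ U)
    (hw : w₀ ∈ U) (hgen : ∀ v : B, ∃ i j k : ZMod p, v = i • y₀ + j • t₀ + k • w₀)
    (hmove : ¬ ∀ u ∈ U, g u ∈ U)
    (hD1 : g w₀ ∈ U ∨ g' w₀ ∈ U) (hD2 : g (g w₀) ∈ U ∨ g' (g' w₀) ∈ U) : g w₀ = w₀ := by
  classical
  haveI : Module.Finite (ZMod p) B := Module.Finite.of_finite
  have htop : Submodule.span (ZMod p) (({y₀, t₀, w₀} : Finset B) : Set B) = ⊤ := by
    rw [eq_top_iff]
    intro v _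
    obtain ⟨i, j, k, rfl⟩ := hgen v
    refine add_mem (add_mem (Submodule.smul_mem _ _ (Submodule.subset_span ?_))
      (Submodule.smul_mem _ _ (Submodule.subset_span ?_))) (Submodule.smul_mem _ _ (Submodule.subset_span ?_))
      <;> simp
  have hfin : finrank (ZMod p) B ≤ 3 := by
    have h1 := finrank_span_finset_le_card (R := ZMod p) ({y₀, t₀, w₀} : Finset B)
    have h2 : (({y₀, t₀, w₀} : Finset B) : Set B).finrank (ZMod p) = finrank (ZMod p) B := by
      rw [Set.finrank, htop, finrank_top]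
    have h3 : ({y₀, t₀, w₀} : Finset B).card ≤ 3 := Finset.card_le_three
    omega
  have hUtop : U ≠ ⊤ := fun h => ht (h ▸ Submodule.mem_top)
  obtain ⟨f, hf0, hfU⟩ := Submodule.exists_le_ker_of_lt_top U (lt_top_iff_ne_top.mpr hUtop)
  have hfy : f y₀ = 0 := hfU hy
  have hfw : f w₀ = 0 := hfU hw
  have hft : f t₀ ≠ 0 := by
    intro h
    apply hf0
    ext v
    obtain ⟨i, j, k, rfl⟩ := hgen v
    simp [hfy, hfw, h]
  have hmem : ∀ v, f v = 0 → v ∈ U := by
    intro v hv
    obtain ⟨i, j, k, rfl⟩ := hgen v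
    have hj : j = 0 := by
      have h1 : j * f t₀ = 0 := by
        simpa [hfy, hfw] using hv
      exact (mul_eq_zero.mp h1).resolve_right hft
    rw [hj, zero_smul, add_zero]
    exact add_mem (U.smul_mem _ hy) (U.smul_mem _ hw)
  have hg'p : g' ^ p = 1 := by
    have hc : Commute g' g := by
      show g' * g = g * g'
      rw [hg'g, hgg']
    have h1 := hc.mul_pow p
    rw [hg'g, one_pow, hgp, mul_one] at h1
    exact h1.symm
  have hn := cube_zero hfin g hgp
  have hn' := cube_zero hfin g' hg'p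
  have h1 : f (g w₀) = 0 := f_zero hp5 g g' hg'g hn f w₀ hfw
    (hD1.imp (fun h => hfU h) (fun h => hfU h)) (hD2.imp (fun h => hfU h) (fun h => hfU h))
  have h2 : f (g' w₀) = 0 := f_zero hp5 g' g hgg' hn' f w₀ hfw
    (hD1.symm.imp (fun h => hfU h) (fun h => hfU h)) (hD2.symm.imp (fun h => hfU h) (fun h => hfU h))
  obtain ⟨w₁, w₂, g0, g1, g2, g'2, g'1, g'0, hw₁, hw₂, hw₃⟩ := chain_eqs g g' hg'g hn w₀
  have hfw₁ : f w₁ = 0 := by
    rw [g0, map_add, hfw, zero_add] at h1; exact h1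
  have hfw₂ : f w₂ = 0 := by
    rw [g'0, map_add, map_sub, hfw, hfw₁, sub_zero, zero_add] at h2; exact h2
  -- the span
  let W : Submodule (ZMod p) B := Submodule.span (ZMod p) {w₀, w₁, w₂}
  have hw₀W : w₀ ∈ W := Submodule.subset_span (by simp)
  have hw₁W : w₁ ∈ W := Submodule.subset_span (by simp)
  have hw₂W : w₂ ∈ W := Submodule.subset_span (by simp)
  have hWU : W ≤ U := by
    rw [Submodule.span_le]
    rintro v (rfl | rfl | rfl)
    · exact hw
    · exact hmem _ hfw₁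
    · exact hmem _ hfw₂
  have hWinv : ∀ u ∈ W, g u ∈ W := by
    have : W ≤ W.comap g := by
      rw [Submodule.span_le]
      rintro v (rfl | rfl | rfl)
      · show g v ∈ W
        rw [g0]; exact add_mem hw₀W hw₁W
      · show g v ∈ W
        rw [g1]; exact add_mem hw₁W hw₂W
      · show g v ∈ W
        rw [g2]; exact hw₂W
    exact this
  have hWne : W ≠ U := by
    intro h
    apply hmove
    rw [← h]
    exact hWinv
  have hWlt : W < U := lt_of_le_of_ne hWU hWne
  have hr1 := Submodule.finrank_lt_finrank_of_lt hWlt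
  have hr2 := Submodule.finrank_lt hUtop
  have hr3 : finrank (ZMod p) W ≤ 1 := by omega
  obtain ⟨v, hv⟩ := finrank_le_one_iff.mp hr3
  obtain ⟨c₀, hc₀⟩ := hv ⟨w₀, hw₀W⟩
  obtain ⟨c₁, hc₁⟩ := hv ⟨w₁, hw₁W⟩
  have hc₀' : c₀ • (v : B) = w₀ := congrArg Subtype.val hc₀
  have hc₁' : c₁ • (v : B) = w₁ := congrArg Subtype.val hc₁
  have hw₁0 : w₁ = 0 := by
    by_cases hc0 : c₀ = 0
    · -- `w₀ = 0`
      have : w₀ = 0 := by rw [← hc₀', hc0, zero_smul]
      rw [← hw₁, this, map_zero]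
    · have hc : w₁ = (c₁ / c₀) • w₀ := by
        rw [← hc₀', ← hc₁', smul_smul, div_mul_cancel₀ _ hc0]
      generalize c₁ / c₀ = c at hc
      have e1 : (g - 1) w₀ = c • w₀ := by rw [hw₁, hc]
      have e2 : w₂ = c • w₁ := by
        rw [← hw₂, hc, map_smul, e1]
      have e3 : c • w₂ = 0 := by
        have : (g - 1) w₂ = c • w₂ := by
          calc (g - 1) w₂ = (g - 1) (c • w₁) := by rw [← e2]
            _ = c • (g - 1) w₁ := map_smul _ _ _
            _ = c • w₂ := by rw [hw₂]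
        rw [← this, hw₃]
      by_cases hc00 : c = 0
      · rw [hc, hc00, zero_smul]
      · have : w₂ = 0 := by
          exact (smul_eq_zero.mp e3).resolve_left hc00
        have : w₁ = 0 := by
          rw [this] at e2
          exact ((smul_eq_zero.mp e2.symm).resolve_left hc00)
        exact this
  rw [g0, hw₁0, add_zero]

end Cfsg.Agent.Lib.S5180.ChainAux
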