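import Cfsg.Agent.Lib.S5180.ChainAux

/-! `Tv.fix_w_core`: PLAN §T step C, with `Tv.gen`, `Tv.frattini_eq`, `Tv.lemmaD` as hypotheses. -/

set_option autoImplicit false

open scoped commutatorElement
open Cfsg

namespace Cfsg.Agent.Lib.S5180

universe u

namespace ChainAux

/-- Additive form of `chain_lin`, without a module structure. -/
theorem chain_add {p : ℕ} [hp : Fact p.Prime] {B : Type u} [AddCommGroup B] [Finite B] (hp5 : 5 ≤ p)
    (hexp : ∀ a : B, p • a = 0)
    (α α' : B →+ B) (hαα' : ∀ a, α (α' a) = a) (hα'α : ∀ a, α' (α a) = a)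
    (hαp : ∀ a, α^[p] a = a) (U : AddSubgroup B) (y₀ t₀ w₀ : B) (hy : y₀ ∈ U) (ht : t₀ ∉ U)
    (hw : w₀ ∈ U) (hgen : ∀ a : B, ∃ i j k : ℕ, a = i • y₀ + j • t₀ + k • w₀)
    (hmove : ¬ ∀ u ∈ U, α u ∈ U) (hD1 : α w₀ ∈ U ∨ α' w₀ ∈ U)
    (hD2 : α (α w₀) ∈ U ∨ α' (α' w₀) ∈ U) : α w₀ = w₀ := by
  letI hmod : Module (ZMod p) B := AddCommGroup.zmodModule (n := p) hexp
  let g : Module.End (ZMod p) B := α.toZModLinearMap p
  let g' : Module.End (ZMod p) B := α'.toZModLinearMap p
  have hg : ∀ a : B, g a = α a := fun a => rfl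
  have hgg' : g * g' = 1 := by
    ext v
    exact hαα' v
  have hg'g : g' * g = 1 := by
    ext v
    exact hα'α v
  have hiter : ∀ (n : ℕ) (a : B), (g ^ n) a = α^[n] a := by
    intro n
    induction n with
    | zero => intro a; rfl
    | succ n ih =>
      intro a
      rw [pow_succ', Module.End.mul_apply, ih, Function.iterate_succ_apply', hg]
  have hgp : g ^ p = 1 := by
    ext v
    have := hiter p v
    rw [hαp] at this
    exact this
  let U' : Submodule (ZMod p) B := AddSubgroup.toZModSubmodule p U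
  have hgen' : ∀ v : B, ∃ i j k : ZMod p, v = i • y₀ + j • t₀ + k • w₀ := by
    intro v
    obtain ⟨i, j, k, h⟩ := hgen v
    refine ⟨(i : ZMod p), (j : ZMod p), (k : ZMod p), ?_⟩
    rw [Nat.cast_smul_eq_nsmul, Nat.cast_smul_eq_nsmul, Nat.cast_smul_eq_nsmul]
    exact h
  exact chain_lin hp5 g g' hgg' hg'g hgp U' y₀ t₀ w₀ hy ht hw hgen' hmove hD1 hD2

/-- Multiplicative form of `chain_lin`. -/
theorem chain_comm {p : ℕ} [hp : Fact p.Prime] {A : Type u} [Group A] [Finite A] (hp5 : 5 ≤ p)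
    (hcomm : ∀ a b : A, a * b = b * a) (hexp : ∀ a : A, a ^ p = 1)
    (α α' : A →* A) (hαα' : ∀ a, α (α' a) = a) (hα'α : ∀ a, α' (α a) = a)
    (hαp : ∀ a, α^[p] a = a) (U : Subgroup A) (y₀ t₀ w₀ : A) (hy : y₀ ∈ U) (ht : t₀ ∉ U)
    (hw : w₀ ∈ U) (hgen : ∀ a : A, ∃ i j k : ℕ, a = y₀ ^ i * t₀ ^ j * w₀ ^ k)
    (hmove : ¬ ∀ u ∈ U, α u ∈ U) (hD1 : α w₀ ∈ U ∨ α' w₀ ∈ U)
    (hD2 : α (α w₀) ∈ U ∨ α' (α' w₀) ∈ U) : α w₀ = w₀ := by
  letI cg : CommGroup A := { (inferInstance : Group A) with mul_comm := hcomm }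
  let mkHom : (A →* A) → (Additive A →+ Additive A) := fun β =>
    { toFun := fun v => Additive.ofMul (β v.toMul)
      map_zero' := by
        show Additive.ofMul (β 1) = 0
        rw [map_one]; rfl
      map_add' := fun a b => by
        show Additive.ofMul (β (a.toMul * b.toMul)) = _
        rw [map_mul]; rfl }
  have hiter : ∀ (n : ℕ) (v : Additive A), (mkHom α)^[n] v = Additive.ofMul (α^[n] v.toMul) := by
    intro n
    induction n with
    | zero => intro a; rfl
    | succ n ih =>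
      intro a
      rw [Function.iterate_succ_apply', ih, Function.iterate_succ_apply']
      rfl
  have key := chain_add (B := Additive A) hp5
    (fun a => by
      show Additive.ofMul (a.toMul ^ p) = 0
      rw [hexp]; rfl)
    (mkHom α) (mkHom α')
    (fun a => by
      show Additive.ofMul (α (α' a.toMul)) = a
      rw [hαα']; rfl)
    (fun a => by
      show Additive.ofMul (α' (α a.toMul)) = a
      rw [hα'α]; rfl)
    (fun a => by
      rw [hiter, hαp]; rfl)
    (Subgroup.toAddSubgroup U) (Additive.ofMul y₀) (Additive.ofMul t₀) (Additive.ofMul w₀)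
    hy ht hw
    (fun a => by
      obtain ⟨i, j, k, h⟩ := hgen a.toMul
      refine ⟨i, j, k, ?_⟩
      show a = Additive.ofMul (y₀ ^ i * t₀ ^ j * w₀ ^ k)
      rw [← h]; rfl)
    (fun h => hmove (fun u hu => h (Additive.ofMul u) hu))
    hD1 hD2
  exact Additive.ofMul.injective key

end ChainAux

section Main
variable {T : Type u} [Group T] [Finite T] {p : ℕ} [Fact p.Prime]
variable {E : Subgroup T} {l y w t : T} {ah as' : MulAut E} {lam lam' : ℕ} {hat : MulAut T}

/-- CH core: PLAN §T step C (lemmaD for `σ`, `σ²`; linear algebra on `T/Φ(T)`). -/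
theorem Tv.fix_w_core (h : Tv p E l y w t ah as' lam lam' hat) (hp : 5 ≤ p) (hT : IsPGroup p T)
    (hgen' : ∀ z : T, ∃ a b c d : ℕ, z * (y ^ a * t ^ b * l ^ c * w ^ d)⁻¹ ∈ Frat E)
    (hFe : frattini T = Subgroup.zpowers l ⊔ Frat E)
    (hDD : ∀ σ : MulAut T, E.map σ.toMonoidHom ≠ E → w ∈ E.map σ.toMonoidHom ∨ σ w ∈ E)
    (σ : MulAut T) (τ : T) (hσ : E.map σ.toMonoidHom ≠ E)
    (hσp : σ ^ p = MulAut.conj τ) : σ w * w⁻¹ ∈ frattini T := by
  classical
  have hFratE : Frat E ≤ E := Subgroup.map_subtype_le _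
  have hΦE : frattini T ≤ E := by
    rw [hFe]
    exact sup_le ((Subgroup.zpowers_le).mpr h.hl) hFratE
  have hFratΦ : Frat E ≤ frattini T := by rw [hFe]; exact le_sup_right
  have hlΦ : l ∈ frattini T := by
    rw [hFe]; exact Subgroup.mem_sup_left (Subgroup.mem_zpowers l)
  have hcm : ∀ a b : T ⧸ frattini T, a * b = b * a := by
    intro a b
    obtain ⟨a, rfl⟩ := QuotientGroup.mk_surjective a
    obtain ⟨b, rfl⟩ := QuotientGroup.mk_surjective b
    have h1 : ⁅a, b⁆ ∈ frattini T :=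
      Cfsg.Agent.Lib.PGroup.Basic.commutatorElement_mem_frattini hT a b
    have h2 : ((⁅a, b⁆ : T) : T ⧸ frattini T) = 1 := (QuotientGroup.eq_one_iff _).mpr h1
    rw [commutatorElement_def, QuotientGroup.mk_mul, QuotientGroup.mk_mul, QuotientGroup.mk_mul,
      QuotientGroup.mk_inv, QuotientGroup.mk_inv] at h2
    exact mul_inv_eq_one.mp (by
      rw [← h2]; group) 
  have hex : ∀ a : T ⧸ frattini T, a ^ p = 1 := by
    intro a
    obtain ⟨a, rfl⟩ := QuotientGroup.mk_surjective a
    rw [← QuotientGroup.mk_pow]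
    exact (QuotientGroup.eq_one_iff _).mpr (Cfsg.Agent.Lib.PGroup.Basic.pow_mem_frattini hT a)
  have hle : ∀ α : MulAut T, frattini T ≤ (frattini T).comap α.toMonoidHom :=
    Subgroup.characteristic_iff_le_comap.mp inferInstance
  let bar : MulAut T → (T ⧸ frattini T →* T ⧸ frattini T) := fun α =>
    QuotientGroup.map _ _ α.toMonoidHom (hle α)
  have hbar : ∀ (α : MulAut T) (z : T), bar α (z : T ⧸ frattini T) = ((α z : T) : T ⧸ frattini T) :=
    fun α z => rfl
  have hiter : ∀ (n : ℕ) (z : T), (bar σ)^[n] (z : T ⧸ frattini T) =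
      (((σ ^ n) z : T) : T ⧸ frattini T) := by
    intro n
    induction n with
    | zero => intro z; rfl
    | succ n ih =>
      intro z
      rw [Function.iterate_succ_apply', ih, hbar, pow_succ']
      rfl
  have hconjmk : ∀ τ z : T, ((τ * z * τ⁻¹ : T) : T ⧸ frattini T) = (z : T ⧸ frattini T) := by
    intro τ z
    rw [QuotientGroup.mk_mul, QuotientGroup.mk_mul, QuotientGroup.mk_inv,
      hcm (τ : T ⧸ frattini T) (z : T ⧸ frattini T), mul_inv_cancel_right]
  have hαp : ∀ a, (bar σ)^[p] a = a := by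
    intro a
    obtain ⟨z, rfl⟩ := QuotientGroup.mk_surjective a
    rw [hiter, hσp]
    exact hconjmk τ z
  have hU : ∀ z : T, (z : T ⧸ frattini T) ∈ E.map (QuotientGroup.mk' (frattini T)) ↔ z ∈ E := by
    intro z
    constructor
    · rintro ⟨e, he, hez⟩
      have h1 : e⁻¹ * z ∈ frattini T := QuotientGroup.eq.mp hez
      have h2 := E.mul_mem he (hΦE h1)
      simpa using h2
    · intro hz
      exact ⟨z, hz, rfl⟩
  have hgen : ∀ a : T ⧸ frattini T, ∃ i j k : ℕ,
      a = (y : T ⧸ frattini T) ^ i * (t : T ⧸ frattini T) ^ j * (w : T ⧸ frattini T) ^ k := by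
    intro a
    obtain ⟨z, rfl⟩ := QuotientGroup.mk_surjective a
    obtain ⟨i, j, c, k, hz⟩ := hgen' z
    refine ⟨i, j, k, ?_⟩
    have h1 : (z : T ⧸ frattini T) = ((y ^ i * t ^ j * l ^ c * w ^ k : T) : T ⧸ frattini T) := by
      have h2 : ((z * (y ^ i * t ^ j * l ^ c * w ^ k)⁻¹ : T) : T ⧸ frattini T) = 1 :=
        (QuotientGroup.eq_one_iff _).mpr (hFratΦ hz)
      rw [QuotientGroup.mk_mul, QuotientGroup.mk_inv] at h2
      exact mul_inv_eq_one.mp h2
    have hl1 : (l : T ⧸ frattini T) = 1 := (QuotientGroup.eq_one_iff _).mpr hlΦ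
    rw [h1]
    simp only [QuotientGroup.mk_mul, QuotientGroup.mk_pow, hl1, one_pow, mul_one]
  -- invariance of `E`
  have hmapeq : ∀ α : MulAut T, (∀ z, z ∈ E ↔ α z ∈ E) → E.map α.toMonoidHom = E := by
    intro α hα
    ext x
    constructor
    · rintro ⟨e, he, rfl⟩
      exact (hα e).mp he
    · intro hx
      refine ⟨α⁻¹ x, (hα _).mpr ?_, ?_⟩
      · rw [MulAut.apply_inv_self]; exact hx
      · exact MulAut.apply_inv_self T α x
  have hσ2 : E.map (σ ^ 2 : MulAut T).toMonoidHom ≠ E := by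
    intro h2
    apply hσ
    apply hmapeq
    have hI2 : ∀ z, z ∈ E ↔ (σ ^ 2 : MulAut T) z ∈ E := by
      intro z
      constructor
      · intro hz
        rw [← h2]
        exact ⟨z, hz, rfl⟩
      · intro hz
        rw [← h2] at hz
        obtain ⟨e, he, hez⟩ := hz
        have : e = z := (σ ^ 2 : MulAut T).injective hez
        exact this ▸ he
    have hIk : ∀ (k : ℕ) (z : T), z ∈ E ↔ ((σ ^ 2 : MulAut T) ^ k) z ∈ E := by
      intro k
      induction k with
      | zero => intro z; rfl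
      | succ k ih =>
        intro z
        rw [pow_succ']
        exact (ih z).trans (hI2 _)
    have hIp : ∀ z : T, z ∈ E ↔ (σ ^ p) z ∈ E := by
      intro z
      rw [hσp]
      show z ∈ E ↔ τ * z * τ⁻¹ ∈ E
      rw [← hU, ← hU (τ * z * τ⁻¹), hconjmk]
    obtain ⟨k, hk⟩ : ∃ k, p = 2 * k + 1 := by
      rcases (Fact.out : p.Prime).eq_two_or_odd' with h2 | ⟨k, hk⟩
      · omega
      · exact ⟨k, hk⟩
    intro z
    have h3 := hIp z
    have h4 : σ ^ p = (σ ^ 2) ^ k * σ := by
      rw [hk, pow_succ, pow_mul]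
    rw [h4] at h3
    have h5 := hIk k (σ z)
    exact h3.trans h5.symm
  have hmove : ¬ ∀ u ∈ E.map (QuotientGroup.mk' (frattini T)),
      bar σ u ∈ E.map (QuotientGroup.mk' (frattini T)) := by
    intro hall
    apply hσ
    apply Subgroup.eq_of_le_of_card_ge
    · rintro _ ⟨e, he, rfl⟩
      have h1 := hall (e : T ⧸ frattini T) ((hU e).mpr he)
      rw [hbar] at h1
      exact (hU _).mp h1
    · rw [Subgroup.card_map_of_injective (MulEquiv.injective σ)]
  have hD1 := hDD σ hσ
  have hD2 := hDD (σ ^ 2) hσ2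
  have key := ChainAux.chain_comm hp hcm hex (bar σ) (bar σ⁻¹)
    (by
      intro a
      obtain ⟨z, rfl⟩ := QuotientGroup.mk_surjective a
      rw [hbar, hbar, MulAut.apply_inv_self])
    (by
      intro a
      obtain ⟨z, rfl⟩ := QuotientGroup.mk_surjective a
      rw [hbar, hbar, MulAut.inv_apply_self])
    hαp (E.map (QuotientGroup.mk' (frattini T))) (y : T ⧸ frattini T) (t : T ⧸ frattini T)
    (w : T ⧸ frattini T) ((hU y).mpr h.hy) (fun hh => h.ht ((hU t).mp hh)) ((hU w).mpr h.hw) hgen hmove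
    (by
      rcases hD1 with ⟨e, he, hez⟩ | h1
      · right
        rw [hbar, hU]
        have : σ⁻¹ w = e := by
          have hez' : σ e = w := hez
          rw [← hez', MulAut.inv_apply_self]
        rw [this]; exact he
      · left
        rw [hbar, hU]; exact h1)
    (by
      rcases hD2 with ⟨e, he, hez⟩ | h1
      · right
        rw [hbar, hbar, hU]
        have : σ⁻¹ (σ⁻¹ w) = e := by
          have hez' : σ (σ e) = w := by
            have h6 : (σ ^ 2 : MulAut T) e = w := hez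
            rw [pow_two] at h6
            exact h6
          rw [← hez', MulAut.inv_apply_self, MulAut.inv_apply_self]
        rw [this]; exact he
      · left
        rw [hbar, hbar, hU]
        have h6 : (σ ^ 2 : MulAut T) w ∈ E := h1
        rw [pow_two] at h6
        exact h6)
  rw [hbar] at key
  apply (QuotientGroup.eq_one_iff _).mp
  rw [QuotientGroup.mk_mul, QuotientGroup.mk_inv, key, mul_inv_cancel]

end Main

end Cfsg.Agent.Lib.S5180
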