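/-
S5180 helper for piece F4: an automorphism of an essential `E` in the system normalizing `Aut_S(E)`
extends to an automorphism of `N_S(E)` in the system.
-/
import Cfsg.Agent.Lib.S5180.Defs
import Cfsg.Prelude.Def_FusionSystem
import Cfsg.Agent.Lib.Fusion.Basic
import Cfsg.Agent.Lib.Fusion.Saturated

set_option autoImplicit false
open scoped commutatorElement
open Cfsg

namespace Cfsg.Agent.Lib.S5180
universe u

section Fus
variable {Ω : Type u} [Group Ω] {S : Subgroup Ω} [Finite S] {p : ℕ} [Fact p.Prime] {F : FusionSystem S}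

omit [Finite S] [Fact p.Prime] in
theorem hom_cast_aux {A B : Subgroup Ω} (h : A = B) {φ : A →* Ω} (hφ : φ ∈ F.Hom A) :
    φ.comp (Subgroup.inclusion h.ge) ∈ F.Hom B := by
  subst h
  convert hφ using 1
  ext x
  rfl

/-- A variant of `extend_rho`: automorphism of an essential `E` extends to `N_S(E)` inside the system. -/
theorem extend_hat (hS : IsPGroup p S) (hF : F.IsSaturated p) {T : Subgroup Ω} (hE : F.IsEssential p T)
    (ρ₀ : MulAut T) (hρ₀ : ρ₀ ∈ F.autGroup T)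
    (hnorm : ∀ g ∈ S ⊓ Subgroup.normalizer (T : Set Ω), ∃ g' ∈ S ⊓ Subgroup.normalizer (T : Set Ω),
      ∀ z z' : T, (z' : Ω) = g * z * g⁻¹ → ((ρ₀ z' : T) : Ω) = g' * (ρ₀ z : Ω) * g'⁻¹) :
    ∃ ρ : MulAut ↥(S ⊓ Subgroup.normalizer (T : Set Ω)),
      (S ⊓ Subgroup.normalizer (T : Set Ω)).subtype.comp ρ.toMonoidHom ∈
        F.Hom (S ⊓ Subgroup.normalizer (T : Set Ω)) ∧
      ∀ z : T, ∀ hz,
      ((ρ ⟨(z : Ω), hz⟩ : ↥(S ⊓ Subgroup.normalizer (T : Set Ω))) : Ω) = ρ₀ z := by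
  have hTr : F.IsReceptive T := Cfsg.Agent.Lib.Fusion.Saturated.fullyNormalized_receptive hS hF hE.2.1
  classical
  have hTS : T ≤ S := hTr.1
  have hφ : T.subtype.comp ρ₀.toMonoidHom ∈ F.Hom T :=
    (Cfsg.Agent.Lib.Fusion.Basic.mem_autGroup_iff hTS).1 hρ₀
  set φ : T →* Ω := T.subtype.comp ρ₀.toMonoidHom with hφdef
  have hφval : ∀ z : T, φ z = ((ρ₀ z : T) : Ω) := fun _ => rfl
  have hrange : φ.range = T := by
    ext y
    constructor
    · rintro ⟨z, rfl⟩
      exact (ρ₀ z).2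
    · intro hy
      refine ⟨ρ₀⁻¹ ⟨y, hy⟩, ?_⟩
      rw [hφval]
      simp
  obtain ⟨ψ, hψ, hagree⟩ := hTr.2 T φ hφ hrange
  have hle : S ⊓ Subgroup.normalizer (T : Set Ω) ≤ FusionSystem.extender S T φ := by
    intro g hg
    obtain ⟨g', hg', hgg'⟩ := hnorm g hg
    refine Cfsg.Agent.Lib.Fusion.Basic.extender_closure_mem hg.1 hg.2 hg'.1 ?_
    intro x hx
    rw [hφval, hφval]
    exact hgg' x ⟨g * x * g⁻¹, hx⟩ rfl
  have hinj := F.injective_of_mem hψ
  have hval : ∀ g : FusionSystem.extender S T φ, ψ g ∈ S := (F.le_of_mem hψ).2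
  have hTN : T ≤ S ⊓ Subgroup.normalizer (T : Set Ω) := by
    intro z hz
    refine ⟨hTS hz, ?_⟩
    refine Subgroup.mem_normalizer_iff.2 ?_
    intro h
    constructor
    · intro hh
      exact T.mul_mem (T.mul_mem hz hh) (T.inv_mem hz)
    · intro hh
      have := T.mul_mem (T.mul_mem (T.inv_mem hz) hh) hz
      simpa [mul_assoc] using this
  have hge : ∀ g : FusionSystem.extender S T φ, (g : Ω) ∈ Subgroup.normalizer (T : Set Ω) :=
    fun g => (Cfsg.Agent.Lib.Fusion.Basic.extender_le_normalizerIn g.2).2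
  have hconj : ∀ (g : FusionSystem.extender S T φ) (k : Ω), k ∈ T → ψ g * k * (ψ g)⁻¹ ∈ T := by
    intro g k hk
    have hk' : k ∈ φ.range := by rw [hrange]; exact hk
    obtain ⟨z, rfl⟩ := hk'
    have hgz : (g : Ω) * (z : Ω) * (g : Ω)⁻¹ ∈ T :=
      ((Subgroup.mem_normalizer_iff.1 (hge g)) z).1 z.2
    have hzE : (z : Ω) ∈ FusionSystem.extender S T φ := hle (hTN z.2)
    have h1 : ψ g * φ z * (ψ g)⁻¹ = ψ (g * ⟨z, hzE⟩ * g⁻¹) := by
      rw [map_mul, map_mul, map_inv]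
      congr 2
      exact (hagree z z.2 hzE).symm
    have hE : ((g * ⟨(z : Ω), hzE⟩ * g⁻¹ : FusionSystem.extender S T φ) : Ω) ∈ T := hgz
    rw [h1]
    have h2 := hagree _ hE (g * ⟨(z : Ω), hzE⟩ * g⁻¹).2
    have h3 : ψ (g * ⟨(z : Ω), hzE⟩ * g⁻¹) = φ ⟨_, hE⟩ := h2
    rw [h3, hφval]
    exact (ρ₀ _).2
  have hnormal : ∀ g : FusionSystem.extender S T φ, ψ g ∈ Subgroup.normalizer (T : Set Ω) := by
    intro g
    rw [Subgroup.mem_normalizer_iff]
    intro h
    refine ⟨fun hh => hconj g h hh, fun hh => ?_⟩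
    have := hconj g⁻¹ _ hh
    simpa [map_inv, mul_assoc] using this
  let θ : ↥(S ⊓ Subgroup.normalizer (T : Set Ω)) →* ↥(S ⊓ Subgroup.normalizer (T : Set Ω)) :=
    { toFun := fun x => ⟨ψ ⟨x, hle x.2⟩, hval _, hnormal _⟩
      map_one' := by
        apply Subtype.ext
        exact ψ.map_one
      map_mul' := fun x y => by
        apply Subtype.ext
        exact ψ.map_mul ⟨x, hle x.2⟩ ⟨y, hle y.2⟩ }
  have hθinj : Function.Injective θ := by
    intro x y hxy
    have h1 : ψ ⟨x, hle x.2⟩ = ψ ⟨y, hle y.2⟩ := congrArg Subtype.val hxy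
    have h2 := hinj h1
    have h3 : (x : Ω) = (y : Ω) := congrArg (fun w : FusionSystem.extender S T φ => (w : Ω)) h2
    exact Subtype.ext h3
  have : Finite ↥(S ⊓ Subgroup.normalizer (T : Set Ω)) :=
    Finite.of_injective (Subgroup.inclusion (inf_le_left : S ⊓ Subgroup.normalizer (T : Set Ω) ≤ S))
      (Subgroup.inclusion_injective _)
  have hθbij : Function.Bijective θ := Finite.injective_iff_bijective.1 hθinj
  have hEq : FusionSystem.extender S T φ = S ⊓ Subgroup.normalizer (T : Set Ω) :=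
    le_antisymm Cfsg.Agent.Lib.Fusion.Basic.extender_le_normalizerIn hle
  refine ⟨MulEquiv.ofBijective θ hθbij, ?_, fun z hz => ?_⟩
  · have h1 := hom_cast_aux (F := F) hEq hψ
    have h2 : (S ⊓ Subgroup.normalizer (T : Set Ω)).subtype.comp
        (MulEquiv.ofBijective θ hθbij).toMonoidHom = ψ.comp (Subgroup.inclusion hEq.ge) := by
      ext x
      rfl
    rw [h2]
    exact h1
  · exact hagree z z.2 (hle hz)

end Fus
end Cfsg.Agent.Lib.S5180
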