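import Mathlib
import Cfsg.Agent.Lib.PGroup.ClassThree

/-! Computations in the quotient for `final_rank4`. -/

set_option autoImplicit false
open scoped commutatorElement
open Subgroup

namespace Cfsg.Agent.Lib.S5180.FinalAux

variable {Q : Type*} [Group Q]

theorem comm_gen {S B₀ : Set Q} {D : Subgroup Q}
    (hD : ∀ x ∈ closure S, ∀ k ∈ D, x * k * x⁻¹ ∈ D) (hB : B₀ ⊆ closure S)
    (h : ∀ s ∈ S, ∀ b ∈ B₀, s * b * s⁻¹ * b⁻¹ ∈ D) :
    ∀ x ∈ closure S, ∀ b ∈ closure B₀, x * b * x⁻¹ * b⁻¹ ∈ D := by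
  have step1 : ∀ b ∈ B₀, ∀ x ∈ closure S, x * b * x⁻¹ * b⁻¹ ∈ D := by
    intro b hb x hx
    induction hx using Subgroup.closure_induction with
    | mem s hs => exact h s hs b hb
    | one => simp [D.one_mem]
    | mul x₁ x₂ hx₁ hx₂ ih₁ ih₂ =>
      have h1 := hD x₁ hx₁ _ ih₂
      have h2 := D.mul_mem h1 ih₁
      convert h2 using 1
      group
    | inv x hx ih =>
      have h1 := hD x⁻¹ (inv_mem hx) _ (D.inv_mem ih)
      convert h1 using 1
      group
  intro x hx b hb
  have hcl : closure B₀ ≤ closure S := (closure_le _).mpr hB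
  induction hb using Subgroup.closure_induction with
  | mem b hb => exact step1 b hb x hx
  | one => simp [D.one_mem]
  | mul b₁ b₂ hb₁ hb₂ ih₁ ih₂ =>
    have h1 := hD b₁ (hcl hb₁) _ ih₂
    have h2 := D.mul_mem ih₁ h1
    convert h2 using 1
    group
  | inv b hb ih =>
    have h1 := hD b⁻¹ (inv_mem (hcl hb)) _ (D.inv_mem ih)
    convert h1 using 1
    group

/-- Data in the quotient `N/Φ`. -/
structure Data (p : ℕ) (g y t l w : Q) : Prop where
  hl : l = y * t * y⁻¹ * t⁻¹
  ly : l * y = y * l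
  lt : l * t = t * l
  lw : l * w = w * l
  wy : w * y = y * w
  wt : w * t = t * w
  gy : ∃ α β : ℕ, g * y * g⁻¹ = y * t * (l ^ α * w ^ β)
  gt : ∃ γ : ℕ, g * t * g⁻¹ = t * l ^ γ
  gw : ∃ n : ℕ, g * w * g⁻¹ = w * l ^ n
  exp : ∀ τ ∈ closure ({y, t, l, w} : Set Q), τ ^ p = 1

variable {p : ℕ} {g y t l w : Q}

abbrev SS (g y t l w : Q) : Set Q := {g, y, t, l, w}

theorem Data.gl (D : Data p g y t l w) : g * l * g⁻¹ = l := by
  obtain ⟨α, β, h1⟩ := D.gy
  obtain ⟨γ, h2⟩ := D.gt
  have hzl : ∀ k : ℕ, l ^ k * y = y * l ^ k := fun k => (Commute.pow_left (show Commute l y from D.ly) k).eq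
  have hzt' : ∀ k : ℕ, l ^ k * t = t * l ^ k := fun k => (Commute.pow_left (show Commute l t from D.lt) k).eq
  have hwl : ∀ j k : ℕ, Commute (l ^ j) (w ^ k) := fun j k => (show Commute l w from D.lw).pow_pow j k
  set z := l ^ α * w ^ β with hz
  set z' := l ^ γ with hz'
  have hzt : z * t * z⁻¹ = t := by
    have : z * t = t * z := by
      rw [hz, mul_assoc, (Commute.pow_left (show Commute w t from D.wt) β).eq, ← mul_assoc, hzt', mul_assoc]
    rw [this]
    group
  have hz'Y : z' * (y * t * z)⁻¹ * z'⁻¹ = (y * t * z)⁻¹ := by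
    have h3 : z' * z = z * z' := by
      rw [hz, hz', ← mul_assoc, (Commute.refl l).pow_pow γ α |>.eq, mul_assoc, ((hwl γ β).eq), mul_assoc]
    have hz'y : z' * y = y * z' := hzl γ
    have hz't : z' * t = t * z' := hzt' γ
    have h4 : z' * (y * t * z) = (y * t * z) * z' := by
      calc z' * (y * t * z) = (z' * y) * t * z := by group
        _ = y * (z' * t) * z := by rw [hz'y]; group
        _ = y * t * (z' * z) := by rw [hz't]; group
        _ = (y * t * z) * z' := by rw [h3]; group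
    have h5 : (y * t * z)⁻¹ * z' = z' * (y * t * z)⁻¹ := by
      rw [inv_mul_eq_iff_eq_mul, ← mul_assoc, ← h4, mul_assoc, mul_inv_cancel, mul_one]
    rw [← h5]
    group
  have hc : g * l * g⁻¹ = (g * y * g⁻¹) * (g * t * g⁻¹) * (g * y * g⁻¹)⁻¹ * (g * t * g⁻¹)⁻¹ := by
    rw [D.hl]
    group
  rw [hc, h1, h2]
  calc y * t * z * (t * z') * (y * t * z)⁻¹ * (t * z')⁻¹
      = y * t * z * t * (z' * (y * t * z)⁻¹ * z'⁻¹) * t⁻¹ := by group
    _ = y * t * z * t * (y * t * z)⁻¹ * t⁻¹ := by rw [hz'Y]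
    _ = y * t * (z * t * z⁻¹) * t⁻¹ * y⁻¹ * t⁻¹ := by group
    _ = y * t * t * t⁻¹ * y⁻¹ * t⁻¹ := by rw [hzt]
    _ = y * t * y⁻¹ * t⁻¹ := by group
    _ = l := D.hl.symm

theorem mem_SS_g : g ∈ closure (SS g y t l w) := subset_closure (by simp [SS])
theorem mem_SS_y : y ∈ closure (SS g y t l w) := subset_closure (by simp [SS])
theorem mem_SS_t : t ∈ closure (SS g y t l w) := subset_closure (by simp [SS])
theorem mem_SS_l : l ∈ closure (SS g y t l w) := subset_closure (by simp [SS])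
theorem mem_SS_w : w ∈ closure (SS g y t l w) := subset_closure (by simp [SS])

theorem Data.lcent (D : Data p g y t l w) :
    ∀ x ∈ closure (SS g y t l w), x * l = l * x := by
  have h := comm_gen (S := SS g y t l w) (B₀ := {l}) (D := ⊥)
    (fun x _ k hk => by
      rw [mem_bot] at hk ⊢
      simp [hk])
    (by
      intro b hb
      rw [Set.mem_singleton_iff] at hb
      subst hb
      exact mem_SS_l)
    (by
      intro s hs b hb
      rw [Set.mem_singleton_iff] at hb
      subst hb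
      rw [mem_bot, mul_inv_eq_one, mul_inv_eq_iff_eq_mul]
      rcases hs with rfl | rfl | rfl | rfl | rfl
      · have := D.gl
        rwa [mul_inv_eq_iff_eq_mul] at this
      · exact D.ly.symm
      · exact D.lt.symm
      · rfl
      · exact D.lw.symm)
  intro x hx
  have h1 := h x hx l (subset_closure rfl)
  rw [mem_bot, mul_inv_eq_one, mul_inv_eq_iff_eq_mul] at h1
  exact h1

theorem Data.Lnorm (D : Data p g y t l w) :
    ∀ x ∈ closure (SS g y t l w), ∀ k ∈ zpowers l, x * k * x⁻¹ ∈ zpowers l := by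
  intro x hx k hk
  obtain ⟨i, rfl⟩ := mem_zpowers_iff.mp hk
  have hc : Commute x l := D.lcent x hx
  rw [(hc.zpow_right i).eq, mul_inv_cancel_right]
  exact hk

theorem comm_of_commute {s b : Q} {E : Subgroup Q} (h : s * b = b * s) : s * b * s⁻¹ * b⁻¹ ∈ E := by
  rw [h]
  simp [E.one_mem]

theorem mem_zp_pow (k : ℕ) : l ^ k ∈ zpowers l := pow_mem (mem_zpowers l) k

theorem Data.tl_conj (D : Data p g y t l w) (k : ℕ) : t * l ^ k * t⁻¹ = l ^ k := by
  have h : t * l ^ k = l ^ k * t := ((Commute.pow_left (show Commute l t from D.lt) k).eq).symm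
  rw [h]
  group

theorem Data.wl_conj (D : Data p g y t l w) (k : ℕ) : w * l ^ k * w⁻¹ = l ^ k := by
  have h : w * l ^ k = l ^ k * w := ((Commute.pow_left (show Commute l w from D.lw) k).eq).symm
  rw [h]
  group

theorem Data.f2 (D : Data p g y t l w) :
    ∀ x ∈ closure (SS g y t l w), ∀ b ∈ closure ({t, l, w} : Set Q),
      x * b * x⁻¹ * b⁻¹ ∈ zpowers l := by
  refine comm_gen D.Lnorm ?_ ?_
  · intro b hb
    simp only [Set.mem_insert_iff, Set.mem_singleton_iff] at hb
    rcases hb with hb | hb | hb <;> rw [hb]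
    · exact mem_SS_t
    · exact mem_SS_l
    · exact mem_SS_w
  · intro s hs b hb
    simp only [SS, Set.mem_insert_iff, Set.mem_singleton_iff] at hs hb
    rcases hs with hs | hs | hs | hs | hs <;> rcases hb with hb | hb | hb <;> rw [hs, hb]
    · obtain ⟨γ, h⟩ := D.gt
      rw [h, D.tl_conj γ]
      exact mem_zp_pow γ
    · rw [D.gl]
      simp [one_mem]
    · obtain ⟨n, h⟩ := D.gw
      rw [h, D.wl_conj n]
      exact mem_zp_pow n
    · have h2 : y * t * y⁻¹ * t⁻¹ = l := D.hl.symm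
      rw [h2]
      exact mem_zpowers l
    · exact comm_of_commute D.ly.symm
    · exact comm_of_commute D.wy.symm
    · simp [one_mem]
    · exact comm_of_commute D.lt.symm
    · exact comm_of_commute D.wt.symm
    · exact comm_of_commute D.lt
    · simp [one_mem]
    · exact comm_of_commute D.lw
    · exact comm_of_commute D.wt
    · exact comm_of_commute D.lw.symm
    · simp [one_mem]

theorem zp_le_A : zpowers l ≤ closure ({t, l, w} : Set Q) := by
  rw [zpowers_le]
  exact subset_closure (by simp)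

theorem Data.Anorm (D : Data p g y t l w) :
    ∀ x ∈ closure (SS g y t l w), ∀ k ∈ closure ({t, l, w} : Set Q),
      x * k * x⁻¹ ∈ closure ({t, l, w} : Set Q) := by
  intro x hx k hk
  have h := zp_le_A (t := t) (w := w) (D.f2 x hx k hk)
  have h2 := mul_mem h hk
  convert h2 using 1
  group

theorem Data.f1 (D : Data p g y t l w) :
    ∀ x ∈ closure (SS g y t l w), ∀ b ∈ closure ({y, t, l, w} : Set Q),
      x * b * x⁻¹ * b⁻¹ ∈ closure ({t, l, w} : Set Q) := by
  refine comm_gen D.Anorm ?_ ?_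
  · intro b hb
    simp only [Set.mem_insert_iff, Set.mem_singleton_iff] at hb
    rcases hb with hb | hb | hb | hb <;> rw [hb]
    · exact mem_SS_y
    · exact mem_SS_t
    · exact mem_SS_l
    · exact mem_SS_w
  · have hA : ∀ s ∈ SS g y t l w, ∀ b ∈ ({t, l, w} : Set Q),
        s * b * s⁻¹ * b⁻¹ ∈ closure ({t, l, w} : Set Q) := by
      intro s hs b hb
      exact zp_le_A (t := t) (w := w) (D.f2 s (subset_closure hs) b (subset_closure hb))
    have htA : t ∈ closure ({t, l, w} : Set Q) := subset_closure (by simp)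
    have hlA : l ∈ closure ({t, l, w} : Set Q) := subset_closure (by simp)
    have hwA : w ∈ closure ({t, l, w} : Set Q) := subset_closure (by simp)
    intro s hs b hb
    by_cases hby : b = y
    swap
    · refine hA s hs b ?_
      simp only [Set.mem_insert_iff, Set.mem_singleton_iff] at hb ⊢
      tauto
    · rw [hby]
      simp only [SS, Set.mem_insert_iff, Set.mem_singleton_iff] at hs
      rcases hs with hs | hs | hs | hs | hs <;> rw [hs]
      · obtain ⟨α, β, h⟩ := D.gy
        rw [h]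
        have h2 : y * t * (l ^ α * w ^ β) * y⁻¹ =
            (y * t * y⁻¹) * (y * (l ^ α * w ^ β) * y⁻¹) := by group
        have h3 : y * (l ^ α * w ^ β) * y⁻¹ = l ^ α * w ^ β := by
          have h4 : (l ^ α * w ^ β) * y = y * (l ^ α * w ^ β) := by
            rw [mul_assoc, (Commute.pow_left (show Commute w y from D.wy) β).eq, ← mul_assoc,
              (Commute.pow_left (show Commute l y from D.ly) α).eq, mul_assoc]
          rw [← h4]
          group
        have h5 : y * t * y⁻¹ = l * t := by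
          rw [D.hl]
          group
        rw [h2, h3, h5]
        exact mul_mem (mul_mem hlA htA) (mul_mem (pow_mem hlA α) (pow_mem hwA β))
      · simp [one_mem]
      · have h2 : t * y * t⁻¹ * y⁻¹ = l⁻¹ := by
          rw [D.hl]
          group
        rw [h2]
        exact inv_mem hlA
      · exact comm_of_commute D.ly
      · exact comm_of_commute D.wy

theorem A_le_T : closure ({t, l, w} : Set Q) ≤ closure ({y, t, l, w} : Set Q) :=
  closure_mono (by
    intro x hx
    simp only [Set.mem_insert_iff, Set.mem_singleton_iff] at hx ⊢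
    tauto)

theorem T_le_S : closure ({y, t, l, w} : Set Q) ≤ closure (SS g y t l w) :=
  closure_mono (by
    intro x hx
    simp only [SS, Set.mem_insert_iff, Set.mem_singleton_iff] at hx ⊢
    tauto)

theorem Data.Tnorm (D : Data p g y t l w) :
    ∀ x ∈ closure (SS g y t l w), ∀ k ∈ closure ({y, t, l, w} : Set Q),
      x * k * x⁻¹ ∈ closure ({y, t, l, w} : Set Q) := by
  intro x hx k hk
  have h := A_le_T (y := y) (D.f1 x hx k hk)
  have h2 := mul_mem h hk
  convert h2 using 1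
  group

theorem Data.key_pow (D : Data p g y t l w) (hp : p.Prime) (hp5 : 5 ≤ p) {τ X : Q}
    (hτ : τ ∈ closure ({y, t, l, w} : Set Q)) (hX : X ∈ closure (SS g y t l w)) :
    (τ * X) ^ p = X ^ p := by
  have hτS := T_le_S (g := g) hτ
  let R := ↥(closure (SS g y t l w))
  let x : R := ⟨τ, hτS⟩
  let x' : R := ⟨X, hX⟩
  let c : R := ⁅x', x⁆
  let d : R := ⁅c, x⁆
  let e : R := ⁅c, x'⁆
  have hcA : (c : Q) ∈ closure ({t, l, w} : Set Q) := by
    have := D.f1 X hX τ hτ
    exact this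
  have hdL : (d : Q) ∈ zpowers l := by
    have h := D.f2 τ hτS (c : Q) hcA
    have h2 := inv_mem h
    convert h2 using 1
    change (c : Q) * τ * (c : Q)⁻¹ * τ⁻¹ = _
    group
  have heL : (e : Q) ∈ zpowers l := by
    have h := D.f2 X hX (c : Q) hcA
    have h2 := inv_mem h
    convert h2 using 1
    change (c : Q) * X * (c : Q)⁻¹ * X⁻¹ = _
    group
  have hcentL : ∀ k ∈ zpowers l, ∀ z : R, (k * (z : Q)) = (z : Q) * k := by
    intro k hk z
    obtain ⟨i, rfl⟩ := mem_zpowers_iff.mp hk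
    have hc : Commute (z : Q) l := D.lcent z z.2
    exact ((hc.zpow_right i).eq).symm
  have hd : ∀ z : R, d * z = z * d := fun z => Subtype.ext (hcentL _ hdL z)
  have he : ∀ z : R, e * z = z * e := fun z => Subtype.ext (hcentL _ heL z)
  have hcol := Cfsg.Agent.Lib.PGroup.ClassThree.collect (x := x) (y := x') (c := c) (d := d) (e := e)
    hd he (Cfsg.Agent.Lib.PGroup.ClassThree.rel_yx x x') (Cfsg.Agent.Lib.PGroup.ClassThree.rel_cx c x)
    (Cfsg.Agent.Lib.PGroup.ClassThree.rel_cx c x') p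
  have hLT : zpowers l ≤ closure ({y, t, l, w} : Set Q) :=
    (zp_le_A (t := t) (w := w)).trans A_le_T
  have hc1 : (c : Q) ^ p = 1 := D.exp _ (A_le_T hcA)
  have hd1 : (d : Q) ^ p = 1 := D.exp _ (hLT hdL)
  have he1 : (e : Q) ^ p = 1 := D.exp _ (hLT heL)
  have hτ1 : τ ^ p = 1 := D.exp _ hτ
  have h2lt : 2 < p := by omega
  have h3lt : 3 < p := by omega
  have hdvd2 : p ∣ p.choose 2 := hp.dvd_choose_self (by norm_num) h2lt
  have hdvd3 : p ∣ (p + 1).choose 3 := by
    rw [Nat.choose_succ_succ' p 2]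
    exact dvd_add hdvd2 (hp.dvd_choose_self (by norm_num) h3lt)
  obtain ⟨k, hk⟩ := hdvd2
  obtain ⟨m, hm⟩ := hdvd3
  have h : (τ * X) ^ p = τ ^ p * X ^ p * (c : Q) ^ p.choose 2 * (d : Q) ^ (p + 1).choose 3
      * (e : Q) ^ (2 * (p + 1).choose 3) := congrArg Subtype.val hcol
  rw [h, hτ1, hk, hm, pow_mul, hc1, pow_mul, hd1, show 2 * (p * m) = p * (2 * m) by ring, pow_mul, he1]
  simp

theorem Data.wcent (D : Data p g y t l w) :
    ∀ τ ∈ closure ({y, t, l, w} : Set Q), τ * w = w * τ := by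
  have h : closure ({y, t, l, w} : Set Q) ≤ centralizer ({w} : Set Q) := by
    rw [closure_le]
    intro b hb
    simp only [Set.mem_insert_iff, Set.mem_singleton_iff] at hb
    simp only [SetLike.mem_coe, mem_centralizer_singleton_iff]
    rcases hb with hb | hb | hb | hb <;> rw [hb]
    · exact D.wy.symm
    · exact D.wt.symm
    · exact D.lw
  intro τ hτ
  have h1 := h hτ
  rwa [mem_centralizer_singleton_iff] at h1

theorem comm_pow_mul {l w : Q} (h : l * w = w * l) (a b e f : ℕ) :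
    l ^ a * w ^ b * (l ^ e * w ^ f) = l ^ (a + e) * w ^ (b + f) := by
  have h1 : w ^ b * l ^ e = l ^ e * w ^ b := (((show Commute l w from h).pow_pow e b).eq).symm
  calc l ^ a * w ^ b * (l ^ e * w ^ f) = l ^ a * (w ^ b * l ^ e) * w ^ f := by
        simp only [mul_assoc]
    _ = l ^ a * (l ^ e * w ^ b) * w ^ f := by rw [h1]
    _ = l ^ (a + e) * w ^ (b + f) := by
        rw [pow_add, pow_add]
        simp only [mul_assoc]

theorem modEq_of_dvd {p : ℕ} (hp : p.Prime) {A A' : ℕ} (h : p ∣ A + (p - 1) * A') :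
    A ≡ A' [MOD p] := by
  obtain ⟨q, hq⟩ : ∃ q, p = q + 1 := ⟨p - 1, by have := hp.pos; omega⟩
  have h1 : (A + (p - 1) * A') + A' = A + p * A' := by
    subst hq
    simp only [Nat.add_sub_cancel]
    ring
  have h2 : (A + (p - 1) * A') + A' ≡ 0 + A' [MOD p] :=
    Nat.ModEq.add_right _ ((Nat.modEq_zero_iff_dvd).mpr h)
  have h3 : A + p * A' ≡ A [MOD p] := by
    simp [Nat.ModEq]
  rw [h1, zero_add] at h2
  exact h3.symm.trans h2

theorem dvd_of_modEq_mul {p : ℕ} (hp : p.Prime) {a b x : ℕ} (hab : ¬ a ≡ b [MOD p])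
    (h : a * x ≡ b * x [MOD p]) : p ∣ x := by
  by_contra hx
  exact hab (Nat.ModEq.cancel_right_of_coprime ((Nat.Prime.coprime_iff_not_dvd hp).mpr hx) h)

theorem Data.core (D : Data p g y t l w) (hp : p.Prime) (hp5 : 5 ≤ p)
    (hgen : ∀ τ ∈ closure ({y, t, l, w} : Set Q), ∃ a b c d : ℕ, τ = y ^ a * t ^ b * l ^ c * w ^ d)
    (hind : ∀ c d : ℕ, l ^ c * w ^ d = 1 → p ∣ c ∧ p ∣ d)
    (hgp : g ^ p ∈ closure ({y, t, l, w} : Set Q))
    (ρ : Q →* Q) (ν el : ℕ) {τ₀ : Q} (hτ₀ : τ₀ ∈ closure ({y, t, l, w} : Set Q))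
    (hρg : ρ g = τ₀ * g ^ ν) (hρl : ρ l = l ^ el) (hρw : ρ w = w)
    (hν1 : ¬ ν ≡ el [MOD p]) (hν2 : ¬ ν ≡ 1 [MOD p]) :
    ∃ i : ℕ, (g * y ^ i) ^ p = 1 ∧ (g * y ^ i) * t = t * (g * y ^ i) ∧
      (g * y ^ i) * l = l * (g * y ^ i) ∧ (g * y ^ i) * w = w * (g * y ^ i) := by
  haveI : Fact p.Prime := ⟨hp⟩
  have hyT : y ∈ closure ({y, t, l, w} : Set Q) := subset_closure (by simp)
  have htT : t ∈ closure ({y, t, l, w} : Set Q) := subset_closure (by simp)
  have hlT : l ∈ closure ({y, t, l, w} : Set Q) := subset_closure (by simp)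
  have hwT : w ∈ closure ({y, t, l, w} : Set Q) := subset_closure (by simp)
  have hyp := D.exp y hyT
  have htp := D.exp t htT
  have hlp := D.exp l hlT
  have hwp := D.exp w hwT
  have hl1 : ∀ c : ℕ, l ^ c = 1 → p ∣ c := by
    intro c hc
    exact (hind c 0 (by simp [hc])).1
  have hl0 : l ≠ 1 := by
    intro h
    have := hl1 1 (by simp [h])
    exact hp.one_lt.ne' (Nat.dvd_one.mp this)
  have hord : orderOf l = p := orderOf_eq_prime hlp hl0
  have hgl := D.gl
  have hgln : ∀ m : ℕ, g * l ^ m * g⁻¹ = l ^ m := by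
    intro m
    rw [← conj_pow, hgl]
  have hgS : g ∈ closure (SS g y t l w) := mem_SS_g
  have hyS : y ∈ closure (SS g y t l w) := mem_SS_y
  have hylm : ∀ m : ℕ, y * l ^ m * y⁻¹ = l ^ m := by
    intro m
    have h : y * l ^ m = l ^ m * y := ((Commute.pow_left (show Commute l y from D.ly) m).eq).symm
    rw [h]
    group
  -- `g` fixes `w`
  obtain ⟨n, hn⟩ := D.gw
  have hgpow : ∀ k : ℕ, g ^ k * w * (g ^ k)⁻¹ = w * l ^ (n * k) := by
    intro k
    induction k with
    | zero => simp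
    | succ k ih =>
      calc g ^ (k + 1) * w * (g ^ (k + 1))⁻¹ = g * (g ^ k * w * (g ^ k)⁻¹) * g⁻¹ := by
            rw [pow_succ']
            group
        _ = (g * w * g⁻¹) * (g * l ^ (n * k) * g⁻¹) := by
            rw [ih]
            group
        _ = w * l ^ (n * (k + 1)) := by
            rw [hn, hgln, mul_assoc, ← pow_add, mul_add, mul_one, add_comm n]
  have hwfix : g * w * g⁻¹ = w := by
    have h1 : ρ (g * w * g⁻¹) = ρ (w * l ^ n) := by rw [hn]
    simp only [map_mul, map_inv, map_pow, hρg, hρl, hρw] at h1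
    have h2 : τ₀ * g ^ ν * w * (τ₀ * g ^ ν)⁻¹ = τ₀ * (g ^ ν * w * (g ^ ν)⁻¹) * τ₀⁻¹ := by group
    rw [h2, hgpow ν] at h1
    have hcomm : τ₀ * (w * l ^ (n * ν)) = (w * l ^ (n * ν)) * τ₀ := by
      have h3 : τ₀ * w = w * τ₀ := D.wcent τ₀ hτ₀
      have h4 : τ₀ * l ^ (n * ν) = l ^ (n * ν) * τ₀ :=
        (Commute.pow_right (show Commute τ₀ l from D.lcent τ₀ (T_le_S hτ₀)) _).eq
      rw [← mul_assoc, h3, mul_assoc, h4, mul_assoc]
    rw [hcomm, mul_inv_cancel_right] at h1
    have h5 : l ^ (n * ν) = l ^ (el * n) := by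
      have := mul_left_cancel h1
      rwa [← pow_mul] at this
    have h6 := (pow_eq_pow_iff_modEq).mp h5
    rw [hord] at h6
    have h7 : ν * n ≡ el * n [MOD p] := by
      rw [mul_comm ν n]
      exact h6
    have h8 := dvd_of_modEq_mul hp hν1 h7
    obtain ⟨k, hk⟩ := h8
    rw [hn, hk, pow_mul, hlp, one_pow, mul_one]
  -- `g^p` is central in `T`
  have hgpc : ∀ τ ∈ closure ({y, t, l, w} : Set Q), τ * g ^ p = g ^ p * τ := by
    intro τ hτ
    have h1 : τ * g * τ⁻¹ * g⁻¹ ∈ closure ({y, t, l, w} : Set Q) := by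
      have h2 := D.Tnorm g hgS τ⁻¹ (inv_mem hτ)
      have h3 := mul_mem hτ h2
      convert h3 using 1
      group
    have h4 := D.key_pow hp hp5 h1 hgS
    have h5 : τ * g * τ⁻¹ * g⁻¹ * g = τ * g * τ⁻¹ := by rw [inv_mul_cancel_right]
    rw [h5, conj_pow] at h4
    calc τ * g ^ p = (τ * g ^ p * τ⁻¹) * τ := by rw [inv_mul_cancel_right]
      _ = g ^ p * τ := by rw [h4]
  obtain ⟨a, b, c, d, hX⟩ := hgen _ hgp
  have hyt : y * t * y⁻¹ = l * t := by
    rw [D.hl]
    group
  have hytk : ∀ k : ℕ, y ^ k * t * (y ^ k)⁻¹ = l ^ k * t := by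
    intro k
    induction k with
    | zero => simp
    | succ k ih =>
      calc y ^ (k + 1) * t * (y ^ (k + 1))⁻¹ = y * (y ^ k * t * (y ^ k)⁻¹) * y⁻¹ := by
            rw [pow_succ']
            group
        _ = (y * l ^ k * y⁻¹) * (y * t * y⁻¹) := by
            rw [ih]
            group
        _ = l ^ (k + 1) * t := by
            rw [hylm, hyt, ← mul_assoc, ← pow_succ]
  have hltb : ∀ k : ℕ, l ^ k * t = t * l ^ k :=
    fun k => (Commute.pow_left (show Commute l t from D.lt) k).eq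
  -- `p ∣ a`
  have hu : (t ^ b * l ^ c * w ^ d) * t = t * (t ^ b * l ^ c * w ^ d) := by
    have h1 : Commute (t ^ b) t := (Commute.refl t).pow_left b
    have h2 : Commute (l ^ c) t := Commute.pow_left (show Commute l t from D.lt) c
    have h3 : Commute (w ^ d) t := Commute.pow_left (show Commute w t from D.wt) d
    exact ((h1.mul_left h2).mul_left h3).eq
  have hXa : g ^ p = y ^ a * (t ^ b * l ^ c * w ^ d) := by
    rw [hX]
    simp only [mul_assoc]
  have hat : l ^ a = 1 := by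
    have h1 := hgpc t htT
    rw [hXa] at h1
    have h2 : y ^ a * t * (y ^ a)⁻¹ = t := by
      have h3 : y ^ a * (t ^ b * l ^ c * w ^ d) * t = y ^ a * t * (t ^ b * l ^ c * w ^ d) := by
        rw [mul_assoc, hu]
        simp only [mul_assoc]
      have h4 : y ^ a * t * (t ^ b * l ^ c * w ^ d) = t * y ^ a * (t ^ b * l ^ c * w ^ d) := by
        rw [← h3, ← h1]
        simp only [mul_assoc]
      have h5 := mul_right_cancel h4
      rw [h5, mul_inv_cancel_right]
    rw [hytk a] at h2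
    exact mul_eq_right.mp h2
  obtain ⟨a', ha'⟩ := hl1 a hat
  have hya : y ^ a = 1 := by rw [ha', pow_mul, hyp, one_pow]
  have hX2 : g ^ p = t ^ b * l ^ c * w ^ d := by rw [hXa, hya, one_mul]
  -- `p ∣ b`
  have hbt : l ^ b = 1 := by
    have h1 := hgpc y hyT
    rw [hX2] at h1
    have h2 : y * t ^ b * y⁻¹ = l ^ b * t ^ b := by
      rw [← conj_pow, hyt]
      exact (show Commute l t from D.lt).mul_pow b
    have h3 : y * l ^ c * y⁻¹ = l ^ c := hylm c
    have h4 : y * w ^ d * y⁻¹ = w ^ d := by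
      have h : y * w ^ d = w ^ d * y := ((Commute.pow_left (show Commute w y from D.wy) d).eq).symm
      rw [h]
      group
    have h5 : y * (t ^ b * l ^ c * w ^ d) * y⁻¹ = t ^ b * l ^ c * w ^ d := by
      rw [h1]
      group
    have h6 : y * (t ^ b * l ^ c * w ^ d) * y⁻¹ =
        (y * t ^ b * y⁻¹) * (y * l ^ c * y⁻¹) * (y * w ^ d * y⁻¹) := by group
    rw [h6, h2, h3, h4] at h5
    have h7 : l ^ b * t ^ b * l ^ c * w ^ d = l ^ b * (t ^ b * l ^ c * w ^ d) := by
      simp only [mul_assoc]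
    rw [h7] at h5
    exact mul_eq_right.mp h5
  obtain ⟨b', hb'⟩ := hl1 b hbt
  have htb : t ^ b = 1 := by rw [hb', pow_mul, htp, one_pow]
  have hX3 : g ^ p = l ^ c * w ^ d := by rw [hX2, htb, one_mul]
  -- eigenvalues
  have hlw : l * w = w * l := D.lw
  have heig : l ^ (el * c) * w ^ d = l ^ (c * ν) * w ^ (d * ν) := by
    have h1 : ρ (g ^ p) = (g ^ ν) ^ p := by
      rw [map_pow, hρg]
      exact D.key_pow hp hp5 hτ₀ (pow_mem hgS ν)
    have h2 : ρ (g ^ p) = l ^ (el * c) * w ^ d := by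
      rw [hX3, map_mul, map_pow, map_pow, hρl, hρw, pow_mul]
    have h3 : (g ^ ν) ^ p = l ^ (c * ν) * w ^ (d * ν) := by
      rw [← pow_mul, mul_comm ν p, pow_mul, hX3, ((show Commute l w from hlw).pow_pow c d).mul_pow ν,
        pow_mul, pow_mul]
    rw [← h2, h1, h3]
  have hC : l ^ (el * c + (p - 1) * (c * ν)) * w ^ (d + (p - 1) * (d * ν)) = 1 := by
    rw [← comm_pow_mul hlw, heig, comm_pow_mul hlw]
    have e1 : c * ν + (p - 1) * (c * ν) = p * (c * ν) := by
      have : 1 ≤ p := hp.pos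
      calc c * ν + (p - 1) * (c * ν) = (1 + (p - 1)) * (c * ν) := by ring
        _ = p * (c * ν) := by rw [Nat.add_sub_cancel' this]
    have e2 : d * ν + (p - 1) * (d * ν) = p * (d * ν) := by
      have : 1 ≤ p := hp.pos
      calc d * ν + (p - 1) * (d * ν) = (1 + (p - 1)) * (d * ν) := by ring
        _ = p * (d * ν) := by rw [Nat.add_sub_cancel' this]
    rw [e1, e2, pow_mul l, pow_mul w, hlp, hwp, one_pow, one_pow, one_mul]
  obtain ⟨hCd, hDd⟩ := hind _ _ hC
  have hm1 := modEq_of_dvd hp hCd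
  have hm2 := modEq_of_dvd hp hDd
  have hc0 : p ∣ c := by
    apply dvd_of_modEq_mul hp hν1
    rw [mul_comm ν c]
    exact hm1.symm
  have hd0 : p ∣ d := by
    apply dvd_of_modEq_mul hp hν2
    rw [one_mul, mul_comm ν d] at *
    exact hm2.symm
  obtain ⟨c', hc'⟩ := hc0
  obtain ⟨d', hd'⟩ := hd0
  have hgp1 : g ^ p = 1 := by
    rw [hX3, hc', hd', pow_mul, pow_mul, hlp, hwp, one_pow, one_pow, one_mul]
  -- the element
  obtain ⟨γ, hγ⟩ := D.gt
  refine ⟨(p - 1) * γ, ?_, ?_, ?_, ?_⟩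
  · have h1 : g * y ^ ((p - 1) * γ) * g⁻¹ ∈ closure ({y, t, l, w} : Set Q) :=
      D.Tnorm g hgS _ (pow_mem hyT _)
    have h2 := D.key_pow hp hp5 h1 hgS
    have h3 : g * y ^ ((p - 1) * γ) * g⁻¹ * g = g * y ^ ((p - 1) * γ) := by
      rw [inv_mul_cancel_right]
    rw [h3] at h2
    rw [h2, hgp1]
  · set i := (p - 1) * γ with hi
    have h1 : (g * y ^ i) * t * (g * y ^ i)⁻¹ = t := by
      have h2 : (g * y ^ i) * t * (g * y ^ i)⁻¹ = g * (y ^ i * t * (y ^ i)⁻¹) * g⁻¹ := by group
      rw [h2, hytk i]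
      have h3 : g * (l ^ i * t) * g⁻¹ = (g * l ^ i * g⁻¹) * (g * t * g⁻¹) := by group
      rw [h3, hgln, hγ, ← mul_assoc, hltb i, mul_assoc, ← pow_add]
      have e1 : i + γ = p * γ := by
        have : 1 ≤ p := hp.pos
        rw [hi]
        calc (p - 1) * γ + γ = ((p - 1) + 1) * γ := by ring
          _ = p * γ := by rw [Nat.sub_add_cancel this]
      rw [e1, pow_mul, hlp, one_pow, mul_one]
    calc (g * y ^ i) * t = ((g * y ^ i) * t * (g * y ^ i)⁻¹) * (g * y ^ i) := by group
      _ = t * (g * y ^ i) := by rw [h1]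
  · exact D.lcent _ (mul_mem hgS (pow_mem hyS _))
  · have h1 : g * w = w * g := by
      calc g * w = (g * w * g⁻¹) * g := by group
        _ = w * g := by rw [hwfix]
    have h2 : y ^ ((p - 1) * γ) * w = w * y ^ ((p - 1) * γ) :=
      (Commute.pow_left (show Commute y w from D.wy.symm) _).eq
    rw [mul_assoc, h2, ← mul_assoc, h1, mul_assoc]

end Cfsg.Agent.Lib.S5180.FinalAux
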