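import Cfsg.Agent.Lib.S5180.Basic
import Cfsg.Agent.Lib.S5180.FinalAux

/-! The final contradiction of the transvection case: four commuting independent elements. -/

set_option autoImplicit false
open scoped commutatorElement
open Cfsg Subgroup

namespace Cfsg.Agent.Lib.S5180

universe u

variable {p : ℕ} [Fact p.Prime]

open FinalAux in
theorem final_rank4 {N : Type u} [Group N] [Finite N] (hp : 5 ≤ p) (hN : IsPGroup p N) {T Φ : Subgroup N}
    (hTn : T.Normal) (hΦn : Φ.Normal) (hΦT : Φ ≤ T) {g y t l w : N} (hg : g ∉ T) (hgp : g ^ p ∈ T)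
    (hy : y ∈ T) (ht : t ∈ T) (hl : l ∈ T) (hw : w ∈ T) (hl' : l = ⁅y, t⁆)
    (hlc : ∀ z ∈ T, ⁅l, z⁆ ∈ Φ) (hwc : ∀ z ∈ T, ⁅w, z⁆ ∈ Φ) (hexp : ∀ z ∈ T, z ^ p ∈ Φ)
    (hgen : ∀ z ∈ T, ∃ a b c d : ℕ, z * (y ^ a * t ^ b * l ^ c * w ^ d)⁻¹ ∈ Φ)
    (hind : ∀ a b c d : ℕ, y ^ a * t ^ b * l ^ c * w ^ d ∈ Φ → p ∣ a ∧ p ∣ b ∧ p ∣ c ∧ p ∣ d)
    (hgy : g * y * g⁻¹ * (y * t)⁻¹ ∈ Φ ⊔ (Subgroup.zpowers l ⊔ Subgroup.zpowers w))
    (hgt : g * t * g⁻¹ * t⁻¹ ∈ Φ ⊔ Subgroup.zpowers l)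
    (hgw : g * w * g⁻¹ * w⁻¹ ∈ Φ ⊔ Subgroup.zpowers l)
    (ρ : MulAut N) (hρT : T.map ρ.toMonoidHom = T) (hρΦ : Φ.map ρ.toMonoidHom = Φ) (ν el : ℕ)
    (hρg : ρ g * (g ^ ν)⁻¹ ∈ T) (hρl : ρ l * (l ^ el)⁻¹ ∈ Φ) (hρw : ρ w * w⁻¹ ∈ Φ)
    (hν1 : ¬ ν ≡ el [MOD p]) (hν2 : ¬ ν ≡ 1 [MOD p]) : ¬ SectionalPRankLE p 3 N := by
  classical
  haveI := hΦn
  haveI := hTn
  have hpp : p.Prime := Fact.out
  let π : N →* N ⧸ Φ := QuotientGroup.mk' Φ
  have hπ1 : ∀ z, π z = 1 ↔ z ∈ Φ := fun z => QuotientGroup.eq_one_iff z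
  have hcomm : ∀ {a b : N}, ⁅a, b⁆ ∈ Φ → π a * π b = π b * π a := by
    intro a b h
    have h1 := (hπ1 _).mpr h
    rw [commutatorElement_def, map_mul, map_mul, map_mul, map_inv, map_inv] at h1
    rwa [mul_inv_eq_one, mul_inv_eq_iff_eq_mul] at h1
  have hcomm' : ∀ {a b : N}, π a * π b = π b * π a → ⁅a, b⁆ ∈ Φ := by
    intro a b h
    rw [← hπ1, commutatorElement_def, map_mul, map_mul, map_mul, map_inv, map_inv, h]
    group
  have hTle : ∀ z ∈ T, π z ∈ closure ({π y, π t, π l, π w} : Set (N ⧸ Φ)) := by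
    intro z hz
    obtain ⟨a, b, c, d, h⟩ := hgen z hz
    have h1 := (hπ1 _).mpr h
    rw [map_mul, map_inv, mul_inv_eq_one] at h1
    rw [h1]
    simp only [map_mul, map_pow]
    have hyT : π y ∈ closure ({π y, π t, π l, π w} : Set (N ⧸ Φ)) := subset_closure (by simp)
    have htT : π t ∈ closure ({π y, π t, π l, π w} : Set (N ⧸ Φ)) := subset_closure (by simp)
    have hlT : π l ∈ closure ({π y, π t, π l, π w} : Set (N ⧸ Φ)) := subset_closure (by simp)
    have hwT : π w ∈ closure ({π y, π t, π l, π w} : Set (N ⧸ Φ)) := subset_closure (by simp)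
    exact mul_mem (mul_mem (mul_mem (pow_mem hyT a) (pow_mem htT b)) (pow_mem hlT c)) (pow_mem hwT d)
  have hTge : closure ({π y, π t, π l, π w} : Set (N ⧸ Φ)) ≤ T.map π := by
    rw [closure_le]
    intro b hb
    simp only [Set.mem_insert_iff, Set.mem_singleton_iff] at hb
    rcases hb with hb | hb | hb | hb <;> rw [hb]
    · exact mem_map_of_mem π hy
    · exact mem_map_of_mem π ht
    · exact mem_map_of_mem π hl
    · exact mem_map_of_mem π hw
  have hexp' : ∀ τ ∈ closure ({π y, π t, π l, π w} : Set (N ⧸ Φ)), τ ^ p = 1 := by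
    intro τ hτ
    obtain ⟨z, hz, rfl⟩ := hTge hτ
    rw [← map_pow]
    exact (hπ1 _).mpr (hexp z hz)
  have hgen' : ∀ τ ∈ closure ({π y, π t, π l, π w} : Set (N ⧸ Φ)),
      ∃ a b c d : ℕ, τ = π y ^ a * π t ^ b * π l ^ c * π w ^ d := by
    intro τ hτ
    obtain ⟨z, hz, rfl⟩ := hTge hτ
    obtain ⟨a, b, c, d, h⟩ := hgen z hz
    have h1 := (hπ1 _).mpr h
    rw [map_mul, map_inv, mul_inv_eq_one] at h1
    refine ⟨a, b, c, d, ?_⟩
    rw [h1]
    simp only [map_mul, map_pow]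
  have hlp : π l ^ p = 1 := by
    rw [← map_pow]
    exact (hπ1 _).mpr (hexp l hl)
  have hwp : π w ^ p = 1 := by
    rw [← map_pow]
    exact (hπ1 _).mpr (hexp w hw)
  have hlw : π l * π w = π w * π l := hcomm (hlc w hw)
  have hly : π l * π y = π y * π l := hcomm (hlc y hy)
  have hlt : π l * π t = π t * π l := hcomm (hlc t ht)
  have hwy : π w * π y = π y * π w := hcomm (hwc y hy)
  have hwt : π w * π t = π t * π w := hcomm (hwc t ht)
  have hsup1 : ∀ x, x ∈ Φ ⊔ zpowers l → ∃ k : ℕ, π x = π l ^ k := by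
    intro x hx
    have hle : Φ ⊔ zpowers l ≤ (zpowers (π l)).comap π := by
      refine sup_le ?_ ?_
      · intro z hz
        rw [mem_comap, (hπ1 z).mpr hz]
        exact one_mem _
      · rw [zpowers_le]
        exact mem_zpowers _
    have h1 : π x ∈ zpowers (π l) := hle hx
    rw [← mem_powers_iff_mem_zpowers, Submonoid.mem_powers_iff] at h1
    obtain ⟨k, hk⟩ := h1
    exact ⟨k, hk.symm⟩
  let KK : Subgroup (N ⧸ Φ) :=
    { carrier := {z | ∃ α β : ℕ, z = π l ^ α * π w ^ β}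
      one_mem' := ⟨0, 0, by simp⟩
      mul_mem' := by
        rintro _ _ ⟨a, b, rfl⟩ ⟨c, d, rfl⟩
        exact ⟨a + c, b + d, comm_pow_mul hlw a b c d⟩
      inv_mem' := by
        rintro _ ⟨a, b, rfl⟩
        refine ⟨(p - 1) * a, (p - 1) * b, ?_⟩
        rw [inv_eq_iff_mul_eq_one, comm_pow_mul hlw]
        have e1 : ∀ x : ℕ, x + (p - 1) * x = p * x := by
          intro x
          have h1 : 1 ≤ p := hpp.pos
          calc x + (p - 1) * x = (1 + (p - 1)) * x := by ring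
            _ = p * x := by rw [Nat.add_sub_cancel' h1]
        rw [e1, e1, pow_mul, pow_mul, hlp, hwp, one_pow, one_pow, one_mul] }
  have hsup2 : ∀ x, x ∈ Φ ⊔ (zpowers l ⊔ zpowers w) → ∃ α β : ℕ, π x = π l ^ α * π w ^ β := by
    intro x hx
    have hle : Φ ⊔ (zpowers l ⊔ zpowers w) ≤ KK.comap π := by
      refine sup_le ?_ (sup_le ?_ ?_)
      · intro z hz
        rw [mem_comap, (hπ1 z).mpr hz]
        exact one_mem _
      · rw [zpowers_le]
        exact ⟨1, 0, by simp⟩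
      · rw [zpowers_le]
        exact ⟨0, 1, by simp⟩
    exact hle hx
  have D : Data p (π g) (π y) (π t) (π l) (π w) := by
    refine ⟨?_, hly, hlt, hlw, hwy, hwt, ?_, ?_, ?_, hexp'⟩
    · rw [hl', commutatorElement_def]
      simp only [map_mul, map_inv]
    · obtain ⟨α, β, h⟩ := hsup2 _ hgy
      refine ⟨α, β, ?_⟩
      simp only [map_mul, map_inv] at h
      rw [mul_inv_eq_iff_eq_mul] at h
      rw [h]
      have h1 : (π l ^ α * π w ^ β) * π y = π y * (π l ^ α * π w ^ β) := by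
        rw [mul_assoc, (Commute.pow_left (show Commute (π w) (π y) from hwy) β).eq, ← mul_assoc,
          (Commute.pow_left (show Commute (π l) (π y) from hly) α).eq, mul_assoc]
      have h2 : (π l ^ α * π w ^ β) * π t = π t * (π l ^ α * π w ^ β) := by
        rw [mul_assoc, (Commute.pow_left (show Commute (π w) (π t) from hwt) β).eq, ← mul_assoc,
          (Commute.pow_left (show Commute (π l) (π t) from hlt) α).eq, mul_assoc]
      rw [← mul_assoc, h1, mul_assoc, h2, mul_assoc]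
    · obtain ⟨γ, h⟩ := hsup1 _ hgt
      refine ⟨γ, ?_⟩
      simp only [map_mul, map_inv] at h
      rw [mul_inv_eq_iff_eq_mul] at h
      rw [h]
      exact (Commute.pow_left (show Commute (π l) (π t) from hlt) γ).eq
    · obtain ⟨n, h⟩ := hsup1 _ hgw
      refine ⟨n, ?_⟩
      simp only [map_mul, map_inv] at h
      rw [mul_inv_eq_iff_eq_mul] at h
      rw [h]
      exact (Commute.pow_left (show Commute (π l) (π w) from hlw) n).eq
  have hind' : ∀ c d : ℕ, π l ^ c * π w ^ d = 1 → p ∣ c ∧ p ∣ d := by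
    intro c d h
    have h1 : y ^ 0 * t ^ 0 * l ^ c * w ^ d ∈ Φ := by
      rw [← hπ1]
      simpa using h
    obtain ⟨-, -, h2, h3⟩ := hind _ _ _ _ h1
    exact ⟨h2, h3⟩
  have hΦρ : Φ ≤ Φ.comap ρ.toMonoidHom := by
    intro z hz
    rw [mem_comap]
    have h0 : ρ.toMonoidHom z ∈ Φ.map ρ.toMonoidHom := mem_map_of_mem _ hz
    rwa [hρΦ] at h0
  let ρ' : N ⧸ Φ →* N ⧸ Φ := QuotientGroup.map Φ Φ ρ.toMonoidHom hΦρ
  have hρ' : ∀ z, ρ' (π z) = π (ρ z) := fun z => rfl
  have hτ₀ := hTle _ hρg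
  obtain ⟨i, h1, h2, h3, h4⟩ := D.core hpp hp hgen' hind' (by simpa using hTle _ hgp) ρ' ν el hτ₀
    (by
      rw [hρ', map_mul, map_inv, map_pow, inv_mul_cancel_right])
    (by
      rw [hρ']
      have := (hπ1 _).mpr hρl
      rw [map_mul, map_inv, mul_inv_eq_one] at this
      rw [this, map_pow])
    (by
      rw [hρ']
      have := (hπ1 _).mpr hρw
      rw [map_mul, map_inv, mul_inv_eq_one] at this
      exact this)
    hν1 hν2
  have hA : π (g * y ^ i) = π g * π y ^ i := by simp only [map_mul, map_pow]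
  refine not_sectional_four (G := N) ⊤ Φ le_top (fun h _ n hn => hΦn.conj_mem n hn h)
    (a := g * y ^ i) (b := t) (c := l) (d := w) (mem_top _) (mem_top _) (mem_top _) (mem_top _) ?_ ?_ ?_
  · intro u hu v hv
    simp only [Set.mem_insert_iff, Set.mem_singleton_iff] at hu hv
    apply hcomm'
    rcases hu with hu | hu | hu | hu <;> rcases hv with hv | hv | hv | hv <;> rw [hu, hv] <;>
      (try simp only [hA]) <;>
      first
        | rfl | exact h2 | exact h2.symm | exact h3 | exact h3.symm | exact h4 | exact h4.symm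
        | exact hlt | exact hlt.symm | exact hwt | exact hwt.symm | exact hlw | exact hlw.symm
  · intro u hu
    simp only [Set.mem_insert_iff, Set.mem_singleton_iff] at hu
    rcases hu with hu | hu | hu | hu <;> rw [hu]
    · rw [← hπ1, map_pow, hA]
      exact h1
    · exact hexp t ht
    · exact hexp l hl
    · exact hexp w hw
  · intro a' j k m h
    have hgT : (g : N ⧸ T) ≠ 1 := fun h0 => hg ((QuotientGroup.eq_one_iff g).mp h0)
    have hgT2 : (g : N ⧸ T) ^ p = 1 := by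
      rw [← QuotientGroup.mk_pow]
      exact (QuotientGroup.eq_one_iff _).mpr hgp
    have hord : orderOf (g : N ⧸ T) = p := orderOf_eq_prime hgT2 hgT
    have hmemT : (g * y ^ i) ^ a' ∈ T := by
      have h5 := hΦT h
      have h6 : t ^ j * l ^ k * w ^ m ∈ T := mul_mem (mul_mem (pow_mem ht j) (pow_mem hl k)) (pow_mem hw m)
      have h7 := mul_mem h5 (inv_mem h6)
      convert h7 using 1
      group
    have hd1 : p ∣ a' := by
      rw [← hord, orderOf_dvd_iff_pow_eq_one]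
      have h5 := (QuotientGroup.eq_one_iff _).mpr hmemT
      rw [QuotientGroup.mk_pow, QuotientGroup.mk_mul, QuotientGroup.mk_pow,
        (QuotientGroup.eq_one_iff _).mpr hy, one_pow, mul_one] at h5
      exact h5
    obtain ⟨q, hq⟩ := hd1
    have h5 : π ((g * y ^ i) ^ a') = 1 := by
      rw [map_pow, hA, hq, pow_mul, h1, one_pow]
    have h6 : y ^ 0 * t ^ j * l ^ k * w ^ m ∈ Φ := by
      rw [← hπ1]
      have h7 := (hπ1 _).mpr h
      simp only [map_mul, map_pow] at h7 h5 ⊢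
      rw [h5] at h7
      simpa using h7
    obtain ⟨-, h8, h9, h10⟩ := hind _ _ _ _ h6
    exact ⟨⟨q, hq⟩, h8, h9, h10⟩

end Cfsg.Agent.Lib.S5180
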