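/-
S5180 piece FI: `Φ(σE) = Φ(E)` (PLAN §T step N). Pure lemmas `fi_*`, then `Tv.frat_map_eq`.
-/
import Cfsg.Agent.Lib.S5180.Basic
import Cfsg.Agent.Lib.S5180.TvBasic
import Cfsg.Agent.Lib.PGroup.ActionFrattini

set_option autoImplicit false
open scoped commutatorElement

namespace Cfsg.Agent.Lib.S5180
universe u

/-- `v ^ i ∈ A`, `v ^ p = 1`, `p ∤ i` give `v ∈ A`. -/
theorem fi_mem_of_pow {Q : Type*} [Group Q] {p : ℕ} (hp : p.Prime) {A : Subgroup Q} {v : Q} {i : ℕ}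
    (hv : v ^ p = 1) (hi : v ^ i ∈ A) (hpi : ¬ p ∣ i) : v ∈ A := by
  have hc : Nat.Coprime i p := ((Nat.Prime.coprime_iff_not_dvd hp).2 hpi).symm
  obtain ⟨m, hm⟩ := Nat.exists_mul_mod_eq_one_of_coprime hc hp.one_lt
  have h1 : (v ^ i) ^ m = v := by
    rw [← pow_mul]
    conv_lhs => rw [← Nat.div_add_mod (i * m) p, hm.2, pow_add, pow_mul, hv, one_pow, one_mul, pow_one]
  rw [← h1]
  exact A.pow_mem hi m

theorem fi_comm {Q : Type*} [Group Q] {p : ℕ} (hp : p.Prime) (Y X : Q) (W : Subgroup Q)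
    (hWc : W ≤ Subgroup.center Q) (hexp : ∀ q : Q, q ^ p = 1)
    (hgen : ∀ q : Q, ∃ a b : ℕ, ∃ u ∈ W, q = Y ^ a * X ^ b * u)
    (hcomm : ⁅Y, X⁆ ∈ W) (A : Subgroup Q) (hWA : W ≤ A) (hA : A ≠ ⊤)
    (hmax : ∀ v, v ∉ A → ∀ q : Q, ∃ i : ℕ, ∃ a ∈ A, q = v ^ i * a) :
    ∀ a₁ ∈ A, ∀ a₂ ∈ A, a₁ * a₂ = a₂ * a₁ := by
  have hcen : ∀ u ∈ W, ∀ g : Q, Commute u g := fun u hu g =>
    (Subgroup.mem_center_iff.1 (hWc hu) g).symm
  haveI hWn : W.Normal := ⟨fun n hn g => by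
    have : g * n * g⁻¹ = n := by rw [(hcen n hn g).eq.symm]; group
    rw [this]; exact hn⟩
  let ρ : Q →* Q ⧸ W := QuotientGroup.mk' W
  have hρ : ∀ x y : Q, ρ x = ρ y → x⁻¹ * y ∈ W := fun x y h => QuotientGroup.eq.1 h
  have hρu : ∀ u ∈ W, ρ u = 1 := fun u hu => (QuotientGroup.eq_one_iff u).2 hu
  have hYX : Commute (ρ Y) (ρ X) := by
    have h1 : ρ ⁅Y, X⁆ = 1 := hρu _ hcomm
    rw [map_commutatorElement] at h1
    exact commutatorElement_eq_one_iff_commute.1 h1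
  have hgenρ : ∀ q : Q, ∃ a b : ℕ, ρ q = ρ Y ^ a * ρ X ^ b := by
    intro q
    obtain ⟨a, b, u, hu, rfl⟩ := hgen q
    exact ⟨a, b, by rw [map_mul, map_mul, map_pow, map_pow, hρu u hu, mul_one]⟩
  obtain ⟨v, v', hv, hvv', hgen'⟩ : ∃ v v' : Q, v ∉ A ∧ Commute (ρ v) (ρ v') ∧
      ∀ q : Q, ∃ a b : ℕ, ρ q = ρ v ^ a * ρ v' ^ b := by
    by_cases hY : Y ∈ A
    · by_cases hX : X ∈ A
      · exfalso
        apply hA
        rw [eq_top_iff]
        intro q _
        obtain ⟨a, b, u, hu, rfl⟩ := hgen q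
        exact A.mul_mem (A.mul_mem (A.pow_mem hY a) (A.pow_mem hX b)) (hWA hu)
      · refine ⟨X, Y, hX, hYX.symm, fun q => ?_⟩
        obtain ⟨a, b, h⟩ := hgenρ q
        exact ⟨b, a, by rw [h]; exact (hYX.pow_pow a b).eq⟩
    · exact ⟨Y, X, hY, hYX, hgenρ⟩
  obtain ⟨k, u₀, hu₀, hv'eq⟩ := hmax v hv v'
  have hvu : Commute (ρ v) (ρ u₀) := by
    have h1 : ρ u₀ = (ρ v ^ k)⁻¹ * ρ v' := by
      rw [hv'eq, map_mul, map_pow]; group
    rw [h1]
    exact (((Commute.refl (ρ v)).pow_right k).inv_right).mul_right hvv'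
  have hz : ∀ z ∈ A, ∃ j : ℕ, ρ z = ρ (u₀ ^ j) := by
    intro z hzA
    obtain ⟨a, b, hab⟩ := hgen' z
    have h2 : ρ z = ρ v ^ (a + k * b) * ρ u₀ ^ b := by
      rw [hab, hv'eq, map_mul, map_pow, (hvu.pow_left k).mul_pow b, ← pow_mul, pow_add, mul_assoc]
    refine ⟨b, ?_⟩
    set i := a + k * b with hi
    have h3 : ρ (v ^ i) = ρ (z * (u₀ ^ b)⁻¹) := by
      rw [map_mul, map_inv, map_pow, map_pow, h2]; group
    have h4 := hρ _ _ h3
    have h5 : v ^ i ∈ A := by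
      have h6 : (v ^ i)⁻¹ * (z * (u₀ ^ b)⁻¹) ∈ A := hWA h4
      have h7 : z * (u₀ ^ b)⁻¹ ∈ A := A.mul_mem hzA (A.inv_mem (A.pow_mem hu₀ b))
      have h8 := A.mul_mem h7 (A.inv_mem h6)
      have h9 : v ^ i = (z * (u₀ ^ b)⁻¹) * ((v ^ i)⁻¹ * (z * (u₀ ^ b)⁻¹))⁻¹ := by group
      rw [h9]; exact h8
    have hpi : p ∣ i := by
      by_contra hpi
      exact hv (fi_mem_of_pow hp (hexp v) h5 hpi)
    obtain ⟨c, hc⟩ := hpi
    have h9 : v ^ i = 1 := by rw [hc, pow_mul, hexp v, one_pow]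
    rw [h2]
    have : ρ v ^ i = 1 := by rw [← map_pow, h9, map_one]
    rw [this, one_mul, map_pow]
  intro a₁ h₁ a₂ h₂
  obtain ⟨j₁, hj₁⟩ := hz a₁ h₁
  obtain ⟨j₂, hj₂⟩ := hz a₂ h₂
  have w₁ := hρ _ _ hj₁.symm
  have w₂ := hρ _ _ hj₂.symm
  have e₁ : a₁ = u₀ ^ j₁ * ((u₀ ^ j₁)⁻¹ * a₁) := by group
  have e₂ : a₂ = u₀ ^ j₂ * ((u₀ ^ j₂)⁻¹ * a₂) := by group
  set w₁' := (u₀ ^ j₁)⁻¹ * a₁
  set w₂' := (u₀ ^ j₂)⁻¹ * a₂
  have hc : Commute (u₀ ^ j₁ * w₁') (u₀ ^ j₂ * w₂') := by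
    apply Commute.mul_left
    · apply Commute.mul_right
      · exact (Commute.refl u₀).pow_pow _ _
      · exact (hcen _ w₂ _).symm
    · apply Commute.mul_right
      · exact hcen _ w₁ _
      · exact hcen _ w₁ _
  rw [e₁, e₂]
  exact hc.eq

theorem fi_lift {T : Type*} [Group T] {p : ℕ} [hp : Fact p.Prime] {E₁ : Subgroup T} (hn : E₁.Normal)
    (hidx : E₁.index = p) {v : T} (hv : v ∉ E₁) (q : T) : ∃ i : ℕ, ∃ a ∈ E₁, q = v ^ i * a := by
  have hfin : Finite (T ⧸ E₁) := by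
    have : E₁.index ≠ 0 := by rw [hidx]; exact hp.out.ne_zero
    haveI : E₁.FiniteIndex := ⟨this⟩
    infer_instance
  have hc : Nat.card (T ⧸ E₁) = p := hidx
  have hne : (v : T ⧸ E₁) ≠ 1 := fun h => hv ((QuotientGroup.eq_one_iff v).1 h)
  have hmem := mem_zpowers_of_prime_card hc hne (g' := (q : T ⧸ E₁))
  rw [← mem_powers_iff_mem_zpowers] at hmem
  obtain ⟨i, hi⟩ := hmem
  refine ⟨i, (v ^ i)⁻¹ * q, ?_, by group⟩
  apply QuotientGroup.eq.1
  rw [QuotientGroup.mk_pow]; exact hi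

theorem fi_normal_of_index {T : Type*} [Group T] [Finite T] {p : ℕ} [hp : Fact p.Prime]
    (hT : IsPGroup p T) {E : Subgroup T} (hi : E.index = p) : E.Normal := by
  apply Subgroup.normal_of_index_eq_minFac_card
  obtain ⟨n, hn⟩ := IsPGroup.iff_card.1 hT
  have hn0 : n ≠ 0 := by
    rintro rfl
    have h1 := Subgroup.index_dvd_card E
    rw [hn, hi, pow_zero] at h1
    exact hp.out.one_lt.ne' (Nat.dvd_one.1 h1)
  rw [hn, hi, Nat.Prime.pow_minFac hp.out hn0]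

section Main
variable {T : Type u} [Group T] [Finite T] {p : ℕ} [Fact p.Prime]
variable {E : Subgroup T} {l y w t : T} {ah as' : MulAut E} {lam lam' : ℕ} {hat : MulAut T}

/-- FI : `Φ(σE) = Φ(E)` when `σ` fixes `w` modulo `Φ(T)` (plane containing the radical is isotropic). -/
theorem Tv.frat_map_eq (h : Tv p E l y w t ah as' lam lam' hat) (hp : 5 ≤ p) (hT : IsPGroup p T)
    (σ : MulAut T) (hσw : σ w * w⁻¹ ∈ frattini T) :
    (Frat E).map σ.toMonoidHom = Frat E := by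
  classical
  have hpp : p.Prime := Fact.out
  have hEn : E.Normal := fi_normal_of_index hT h.idx
  have hNn : (Frat E).Normal := by
    refine ⟨fun n hn g => ?_⟩
    have h1 : E.map (MulAut.conj g).toMonoidHom = E := by
      apply le_antisymm
      · rintro _ ⟨x, hx, rfl⟩
        exact hEn.conj_mem x hx g
      · intro x hx
        refine ⟨g⁻¹ * x * g, ?_, ?_⟩
        · have := hEn.conj_mem x hx g⁻¹
          simpa using this
        · simp [MulAut.conj_apply]; group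
    have h2 : (MulAut.conj g) n ∈ (Frat E).map (MulAut.conj g).toMonoidHom :=
      Subgroup.mem_map_of_mem _ hn
    rw [← frat_map, h1] at h2
    simpa [MulAut.conj_apply] using h2
  have hbij : Function.Injective σ.toMonoidHom := σ.injective
  set E₁ := E.map σ.toMonoidHom with hE₁
  have hidx : E₁.index = p := by
    rw [hE₁, Subgroup.index_map_of_bijective σ.bijective]; exact h.idx
  have hE₁n : E₁.Normal := fi_normal_of_index hT hidx
  have hFr : frattini T ≤ E₁ := by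
    apply frattini_le_coatom
    refine ⟨fun htop => ?_, fun K hK => ?_⟩
    · rw [htop, Subgroup.index_top] at hidx
      exact hpp.one_lt.ne hidx
    · obtain ⟨v, hvK, hvE⟩ := SetLike.exists_of_lt hK
      rw [eq_top_iff]
      intro q _
      obtain ⟨i, a, ha, rfl⟩ := fi_lift hE₁n hidx hvE q
      exact K.mul_mem (K.pow_mem hvK i) (hK.le ha)
  have hfe := h.frattini_eq hp hT
  have hl₁ : l ∈ E₁ := hFr (by
    rw [hfe]; exact (le_sup_left : _ ≤ Subgroup.zpowers l ⊔ Frat E) (Subgroup.mem_zpowers l))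
  have hw₁ : w ∈ E₁ := by
    have h1 : σ w ∈ E₁ := Subgroup.mem_map_of_mem _ h.hw
    have h2 := E₁.mul_mem (E₁.inv_mem (hFr hσw)) h1
    simpa using h2
  have hFE₁ : Frat E ≤ E₁ := by
    refine le_trans ?_ hFr
    rw [hfe]; exact le_sup_right
  let π : T →* T ⧸ Frat E := QuotientGroup.mk' (Frat E)
  have hπs : Function.Surjective π := QuotientGroup.mk'_surjective _
  have hπe : ∀ z : T, π z = 1 ↔ z ∈ Frat E := fun z => QuotientGroup.eq_one_iff z
  let W : Subgroup (T ⧸ Frat E) := Subgroup.zpowers (π l) ⊔ Subgroup.zpowers (π w)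
  have hcenl : π l ∈ Subgroup.center (T ⧸ Frat E) := by
    rw [Subgroup.mem_center_iff]
    intro q
    obtain ⟨z, rfl⟩ := hπs q
    have h1 := (h.central hp hT z).1
    have h2 := (hπe _).2 h1
    rw [map_commutatorElement] at h2
    exact (commutatorElement_eq_one_iff_commute.1 h2).symm.eq
  have hcenw : π w ∈ Subgroup.center (T ⧸ Frat E) := by
    rw [Subgroup.mem_center_iff]
    intro q
    obtain ⟨z, rfl⟩ := hπs q
    have h1 := (h.central hp hT z).2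
    have h2 := (hπe _).2 h1
    rw [map_commutatorElement] at h2
    exact (commutatorElement_eq_one_iff_commute.1 h2).symm.eq
  have hWc : W ≤ Subgroup.center (T ⧸ Frat E) :=
    sup_le (Subgroup.zpowers_le.2 hcenl) (Subgroup.zpowers_le.2 hcenw)
  let A : Subgroup (T ⧸ Frat E) := E₁.map π
  have hmem : ∀ z : T, π z ∈ A → z ∈ E₁ := by
    rintro z ⟨x, hx, hxz⟩
    have h1 : x⁻¹ * z ∈ Frat E := by
      rw [← hπe, map_mul, map_inv, hxz]; group
    have h2 := E₁.mul_mem hx (hFE₁ h1)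
    simpa using h2
  have hWA : W ≤ A := sup_le (Subgroup.zpowers_le.2 (Subgroup.mem_map_of_mem _ hl₁))
    (Subgroup.zpowers_le.2 (Subgroup.mem_map_of_mem _ hw₁))
  have hA : A ≠ ⊤ := by
    intro htop
    have h1 : E₁ = ⊤ := by
      rw [eq_top_iff]
      intro z _
      apply hmem
      rw [htop]; trivial
    rw [h1, Subgroup.index_top] at hidx
    exact hpp.one_lt.ne hidx
  have hexp : ∀ q : T ⧸ Frat E, q ^ p = 1 := by
    intro q
    obtain ⟨z, rfl⟩ := hπs q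
    rw [← map_pow, hπe]
    exact h.pow_mem hp hT z
  have hgen : ∀ q : T ⧸ Frat E, ∃ a b : ℕ, ∃ u ∈ W, q = π y ^ a * π t ^ b * u := by
    intro q
    obtain ⟨z, rfl⟩ := hπs q
    obtain ⟨a, b, c, d, hz⟩ := h.gen hp hT z
    refine ⟨a, b, π l ^ c * π w ^ d, ?_, ?_⟩
    · exact W.mul_mem (W.pow_mem ((le_sup_left : _ ≤ W) (Subgroup.mem_zpowers _)) c)
        (W.pow_mem ((le_sup_right : _ ≤ W) (Subgroup.mem_zpowers _)) d)
    · have h1 := (hπe _).2 hz
      rw [map_mul, map_inv, mul_inv_eq_one] at h1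
      rw [h1]
      simp only [map_mul, map_pow]
      group
  have hcomm : ⁅π y, π t⁆ ∈ W := by
    have h1 := (hπe _).2 h.yt
    rw [map_mul, map_inv, mul_inv_eq_one, map_commutatorElement] at h1
    rw [h1]
    exact (le_sup_left : _ ≤ W) (Subgroup.mem_zpowers _)
  have hmax : ∀ v, v ∉ A → ∀ q : T ⧸ Frat E, ∃ i : ℕ, ∃ a ∈ A, q = v ^ i * a := by
    intro v hv q
    obtain ⟨vv, rfl⟩ := hπs v
    obtain ⟨qq, rfl⟩ := hπs q
    have hvv : vv ∉ E₁ := fun hh => hv (Subgroup.mem_map_of_mem _ hh)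
    obtain ⟨i, a, ha, hq⟩ := fi_lift hE₁n hidx hvv qq
    exact ⟨i, π a, Subgroup.mem_map_of_mem _ ha, by rw [hq, map_mul, map_pow]⟩
  have hAc := fi_comm hpp (π y) (π t) W hWc hexp hgen hcomm A hWA hA hmax
  -- `Φ(E₁) ≤ Φ(E)`
  have hle : Frat E₁ ≤ Frat E := by
    haveI : Finite E₁ := inferInstance
    have hE₁p : IsPGroup p E₁ := hT.to_subgroup E₁
    let K : Subgroup E₁ := (Frat E).comap E₁.subtype
    haveI hKn : K.Normal := by
      refine ⟨fun n hn g => ?_⟩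
      exact hNn.conj_mem _ hn g.1
    have h1 : frattini E₁ ≤ K := by
      apply Cfsg.Agent.Lib.PGroup.ActionFrattini.frattini_le hE₁p K
      · rw [commutator_def, Subgroup.commutator_le]
        rintro x₁ - x₂ -
        show (⁅x₁, x₂⁆ : E₁).1 ∈ Frat E
        have h2 := hAc (π x₁.1) (Subgroup.mem_map_of_mem _ x₁.2) (π x₂.1)
          (Subgroup.mem_map_of_mem _ x₂.2)
        rw [← hπe]
        show π ⁅x₁.1, x₂.1⁆ = 1
        rw [map_commutatorElement]
        exact commutatorElement_eq_one_iff_commute.2 h2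
      · intro x
        show (x ^ p : E₁).1 ∈ Frat E
        exact h.pow_mem hp hT x.1
    rintro _ ⟨x, hx, rfl⟩
    exact h1 hx
  have hle' : (Frat E).map σ.toMonoidHom ≤ Frat E := by
    rw [← frat_map]; exact hle
  apply Subgroup.eq_of_le_of_card_ge hle'
  rw [Subgroup.card_map_of_injective hbij]

end Main
end Cfsg.Agent.Lib.S5180
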