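/- S5180 piece F2: an essential subgroup `E` with `|E : Φ(E)| = p³` has `|N_S(E) : E| = p`. -/
import Mathlib
import Cfsg.Agent.Lib.S5180.Defs
import Cfsg.Agent.Lib.Fusion.MaxClassE3
import Cfsg.Agent.Lib.Fusion.EssentialGen
import Cfsg.Agent.Lib.Fusion.Meta.Frat
import Cfsg.Agent.Lib.PGroup.FrattiniBasis
import Cfsg.Prelude.Def_FusionSystem

set_option autoImplicit false
set_option linter.style.haveILetI false
set_option linter.unusedVariables false
set_option linter.unusedSectionVars false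

namespace Cfsg.Agent.Lib.S5180

namespace IndexPAux

open Cfsg Cfsg.FusionSystem Cfsg.Agent.Lib.Fusion.Basic Cfsg.Agent.Lib.Fusion.Saturated
  Cfsg.Agent.Lib.Fusion.Saturated2 Cfsg.Agent.Lib.Fusion.Essential
  Cfsg.Agent.Lib.Fusion.EssentialPair Cfsg.Agent.Lib.Fusion.AbelianMax
  Cfsg.Agent.Lib.Fusion.TorusCore Cfsg.Agent.Lib.Fusion.Transvection
  Cfsg.Agent.Lib.Fusion.PearlCore Cfsg.Agent.Lib.Basic
  Cfsg.Agent.Lib.Fusion.MaxClassE3

section V

variable {V : Type*} [Group V] [Finite V] {p : ℕ} [hp : Fact p.Prime]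

/-- The difference map of an automorphism of an abelian group. -/
def diffHom (hV : ∀ u v : V, u * v = v * u) (u : MulAut V) : V →* V :=
  MonoidHom.mk' (fun x => x⁻¹ * u x) (fun x y => by
    rw [map_mul, mul_inv_rev]
    calc (y⁻¹ * x⁻¹) * (u x * u y) = y⁻¹ * ((x⁻¹ * u x) * u y) := by group
      _ = y⁻¹ * (u y * (x⁻¹ * u x)) := by rw [hV (x⁻¹ * u x) (u y)]
      _ = (y⁻¹ * u y) * (x⁻¹ * u x) := by group
      _ = _ := hV _ _)

theorem diffHom_apply (hV : ∀ u v : V, u * v = v * u) (u : MulAut V) (x : V) :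
    diffHom hV u x = x⁻¹ * u x := rfl

/-- A `p`-group of automorphisms preserving `N` has a nontrivial fixed point in `V ⧸ N`. -/
theorem exists_fixed_quot (R : Subgroup (MulAut V)) (hRp : IsPGroup p R) (N : Subgroup V) [N.Normal]
    (hN : ∀ u ∈ R, ∀ x ∈ N, u x ∈ N) (hpd : p ∣ Nat.card (V ⧸ N)) :
    ∃ b : V, b ∉ N ∧ ∀ u ∈ R, b⁻¹ * u b ∈ N := by
  classical
  have hmap : ∀ u : R, N.map (u : MulAut V).toMonoidHom = N := by
    intro u
    apply le_antisymm
    · rintro _ ⟨x, hx, rfl⟩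
      exact hN u.1 u.2 x hx
    · intro x hx
      refine ⟨(u : MulAut V)⁻¹ x, hN _ (R.inv_mem u.2) x hx, ?_⟩
      exact MulAut.apply_inv_self _ _ _
  let ψ : R →* MulAut (V ⧸ N) :=
    { toFun := fun u => QuotientGroup.congr N N (u : MulAut V) (hmap u)
      map_one' := by
        ext x
        induction x using QuotientGroup.induction_on with
        | H x => rfl
      map_mul' := by
        intro a b
        ext x
        induction x using QuotientGroup.induction_on with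
        | H x => rfl }
  letI : MulAction R (V ⧸ N) := MulAction.compHom _ ψ
  have hsm : ∀ (u : R) (x : V), u • (x : V ⧸ N) = (((u : MulAut V) x : V) : V ⧸ N) := fun u x => rfl
  have h1 : (1 : V ⧸ N) ∈ MulAction.fixedPoints R (V ⧸ N) := by
    intro u
    have := hsm u 1
    simpa using this
  haveI : Finite (V ⧸ N) := inferInstance
  obtain ⟨b, hb, hb1⟩ := hRp.exists_fixed_point_of_prime_dvd_card_of_fixed_point (V ⧸ N) hpd h1
  induction b using QuotientGroup.induction_on with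
  | H b =>
    refine ⟨b, fun h => hb1 ?_, fun u hu => ?_⟩
    · exact ((QuotientGroup.eq_one_iff b).2 h).symm
    · have h2 := hb ⟨u, hu⟩
      rw [hsm] at h2
      exact QuotientGroup.eq.mp h2.symm

/-- The stable flag. -/
theorem exists_flag (hV : ∀ u v : V, u * v = v * u) (hexp : ∀ x : V, x ^ p = 1)
    (hcE : Nat.card V = p ^ 3) (R : Subgroup (MulAut V)) (hRp : IsPGroup p R) :
    ∃ (W' : Subgroup V) (z' : V), Nat.card W' = p ^ 2 ∧ z' ∈ W' ∧ z' ≠ 1 ∧ (∀ u ∈ R, u z' = z') ∧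
      (∀ u ∈ R, ∀ w ∈ W', w⁻¹ * u w ∈ Subgroup.zpowers z') ∧ (∀ u ∈ R, ∀ x : V, x⁻¹ * u x ∈ W') := by
  classical
  have hp' : p.Prime := Fact.out
  -- the fixed point
  have hbot : p ∣ Nat.card (V ⧸ (⊥ : Subgroup V)) := by
    have h1 : Nat.card (V ⧸ (⊥ : Subgroup V)) = Nat.card V :=
      Nat.card_congr (QuotientGroup.quotientBot).toEquiv
    rw [h1, hcE]
    exact dvd_pow_self p (by norm_num)
  obtain ⟨z', hz1, hzfix⟩ := exists_fixed_quot R hRp ⊥ (fun u _ x hx => by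
    rw [Subgroup.mem_bot] at hx ⊢
    rw [hx, map_one]) hbot
  have hz'1 : z' ≠ 1 := fun h => hz1 (by rw [h]; exact Subgroup.one_mem _)
  have hR_z : ∀ u ∈ R, u z' = z' := by
    intro u hu
    have h1 := hzfix u hu
    rw [Subgroup.mem_bot] at h1
    exact (inv_mul_eq_one.1 h1).symm
  have hoz : orderOf z' = p := orderOf_eq_prime (hexp z') hz'1
  let N₁ : Subgroup V := Subgroup.zpowers z'
  haveI hN₁n : N₁.Normal := ⟨fun n hn g => by rw [hV g n, mul_inv_cancel_right]; exact hn⟩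
  have hcN₁ : Nat.card N₁ = p := by
    show Nat.card (Subgroup.zpowers z') = p
    rw [Nat.card_zpowers, hoz]
  have hcQ₁ : Nat.card (V ⧸ N₁) = p ^ 2 := by
    have h1 := Subgroup.card_eq_card_quotient_mul_card_subgroup N₁
    rw [hcN₁, hcE] at h1
    have h2 : p ^ 2 * p = Nat.card (V ⧸ N₁) * p := by rw [← h1]; ring
    exact (Nat.eq_of_mul_eq_mul_right hp'.pos h2).symm
  have hfixN₁ : ∀ u ∈ R, ∀ x ∈ N₁, u x = x := by
    rintro u hu x ⟨m, rfl⟩
    simp [map_zpow, hR_z u hu]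
  obtain ⟨w₀, hw₀, hw₀fix⟩ := exists_fixed_quot R hRp N₁
    (fun u hu x hx => by rw [hfixN₁ u hu x hx]; exact hx)
    (by rw [hcQ₁]; exact dvd_pow_self p (by norm_num))
  -- the subgroup `W'`
  let π := QuotientGroup.mk' N₁
  have hπ : Function.Surjective π := QuotientGroup.mk'_surjective N₁
  let c : V ⧸ N₁ := π w₀
  have hc1 : c ≠ 1 := fun h => hw₀ ((QuotientGroup.eq_one_iff w₀).1 h)
  have hcp : c ^ p = 1 := by
    show π w₀ ^ p = 1
    rw [← map_pow, hexp, map_one]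
  have hoc : orderOf c = p := orderOf_eq_prime hcp hc1
  let H : Subgroup (V ⧸ N₁) := Subgroup.zpowers c
  have hcH : Nat.card H = p := by
    show Nat.card (Subgroup.zpowers c) = p
    rw [Nat.card_zpowers, hoc]
  have hiH : H.index = p := by
    have h1 := Subgroup.card_mul_index H
    rw [hcH, hcQ₁] at h1
    have h2 : p * H.index = p * p := by rw [h1]; ring
    exact Nat.eq_of_mul_eq_mul_left hp'.pos h2
  let W' : Subgroup V := H.comap π
  have hiW' : W'.index = p := by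
    show (H.comap π).index = p
    rw [Subgroup.index_comap_of_surjective H hπ, hiH]
  have hcW' : Nat.card W' = p ^ 2 := by
    have h1 := Subgroup.card_mul_index W'
    rw [hiW', hcE] at h1
    have h2 : Nat.card W' * p = p ^ 2 * p := by rw [h1]; ring
    exact Nat.eq_of_mul_eq_mul_right hp'.pos h2
  have hzW' : z' ∈ W' := by
    show π z' ∈ H
    have : π z' = 1 := (QuotientGroup.eq_one_iff z').2 (Subgroup.mem_zpowers z')
    rw [this]
    exact Subgroup.one_mem _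
  have hw₀W' : w₀ ∈ W' := by
    show π w₀ ∈ H
    exact Subgroup.mem_zpowers c
  haveI hW'n : W'.Normal := ⟨fun n hn g => by rw [hV g n, mul_inv_cancel_right]; exact hn⟩
  have hR_W : ∀ u ∈ R, ∀ w ∈ W', w⁻¹ * u w ∈ Subgroup.zpowers z' := by
    intro u hu w hw
    obtain ⟨m, hm⟩ : π w ∈ H := hw
    have h1 : (w₀ ^ m)⁻¹ * w ∈ N₁ := by
      rw [← QuotientGroup.eq_one_iff]
      show π ((w₀ ^ m)⁻¹ * w) = 1
      rw [map_mul, map_inv, map_zpow, ← hm]
      simp [c]
    have h2 : w = w₀ ^ m * ((w₀ ^ m)⁻¹ * w) := by group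
    have h3 : w ∈ N₁.comap (diffHom hV u) := by
      rw [h2]
      refine mul_mem (zpow_mem (?_ : w₀ ∈ N₁.comap (diffHom hV u)) m) ?_
      · exact hw₀fix u hu
      · show ((w₀ ^ m)⁻¹ * w)⁻¹ * u ((w₀ ^ m)⁻¹ * w) ∈ N₁
        rw [hfixN₁ u hu _ h1, inv_mul_cancel]
        exact Subgroup.one_mem _
    exact h3
  -- the top of the flag
  obtain ⟨b, hb, hbfix⟩ := exists_fixed_quot R hRp W'
    (fun u hu w hw => by
      have h1 := hR_W u hu w hw
      have h2 : (Subgroup.zpowers z') ≤ W' := Subgroup.zpowers_le.2 hzW'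
      have h3 := mul_mem hw (h2 h1)
      rwa [mul_inv_cancel_left] at h3)
    (by
      have h1 : Nat.card (V ⧸ W') = p := hiW'
      rw [h1])
  have hR_E : ∀ u ∈ R, ∀ x : V, x⁻¹ * u x ∈ W' := by
    intro u hu x
    obtain ⟨a, ha, m, rfl⟩ := exists_decomp_of_index hiW' hb x
    have h3 : a * b ^ m ∈ W'.comap (diffHom hV u) := by
      refine mul_mem ?_ (pow_mem (?_ : b ∈ W'.comap (diffHom hV u)) m)
      · have h2 : (Subgroup.zpowers z') ≤ W' := Subgroup.zpowers_le.2 hzW'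
        exact h2 (hR_W u hu a ha)
      · exact hbfix u hu
    exact h3
  exact ⟨W', z', hcW', hzW', hz'1, hR_z, hR_W, hR_E⟩

/-- The core: two opposite transvection-type elements. -/
theorem core_V (hV : ∀ u v : V, u * v = v * u) (hexp : ∀ x : V, x ^ p = 1)
    (hcE : Nat.card V = p ^ 3) (R : Subgroup (MulAut V)) (hRp : IsPGroup p R)
    (hR2 : p ^ 2 ≤ Nat.card R) (α : MulAut V)
    (hA : ∀ u ∈ R, ∀ v ∈ R, u ≠ 1 → v ≠ 1 →
      ¬ IsPGroup p (Subgroup.closure ({u, α * v * α⁻¹} : Set (MulAut V))))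
    (hB : ∀ u ∈ R, ∀ v ∈ R, u ≠ 1 → v ≠ 1 →
      ¬ IsPGroup p (Subgroup.closure ({α * v * α⁻¹, u * (α * v * α⁻¹) * u⁻¹} : Set (MulAut V)))) :
    False := by
  classical
  have hp' : p.Prime := Fact.out
  have hVp : IsPGroup p V := IsPGroup.of_card hcE
  obtain ⟨W', z', hcW', hzW', hz'1, hR_z, hR_W, hR_E⟩ := exists_flag hV hexp hcE R hRp
  have hoz : orderOf z' = p := orderOf_eq_prime (hexp z') hz'1
  have hidx : W'.index = p := by
    have h1 := Subgroup.card_mul_index W'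
    rw [hcW', hcE] at h1
    have h2 : p ^ 2 * W'.index = p ^ 2 * p := by rw [h1]; ring
    exact Nat.eq_of_mul_eq_mul_left (pow_pos hp'.pos 2) h2
  haveI hWnorm : W'.Normal := ⟨fun n hn g => by rw [hV g n, mul_inv_cancel_right]; exact hn⟩
  have hcz : Nat.card (Subgroup.zpowers z') = p := by rw [Nat.card_zpowers, hoz]
  have hzle : Subgroup.zpowers z' ≤ W' := Subgroup.zpowers_le.2 hzW'
  have hzlt : Subgroup.zpowers z' < W' := by
    refine lt_of_le_of_ne hzle fun h => ?_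
    rw [← h, hcz] at hcW'
    have := hp'.two_le
    nlinarith
  obtain ⟨w₀, hw₀, hw₀'⟩ := SetLike.exists_of_lt hzlt
  -- the fixed points of a group element
  have hfixW : ∀ β : MulAut V, β z' = z' → β w₀ = w₀ → ∀ w ∈ W', β w = w := by
    intro β h1 h2 w hw
    let Fx : Subgroup V := (β.toMonoidHom).eqLocus (MonoidHom.id V)
    have hz_mem : z' ∈ Fx := h1
    have hw_mem : w₀ ∈ Fx := h2
    have h3 : Subgroup.zpowers z' < Fx ⊓ W' := by
      refine lt_of_le_of_ne (le_inf (Subgroup.zpowers_le.2 hz_mem) hzle) fun h => hw₀' ?_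
      rw [h]
      exact ⟨hw_mem, hw₀⟩
    have h4 := eq_of_lt_of_card hVp h3 inf_le_right (by rw [hcW', hcz]; ring)
    have h5 : w ∈ Fx ⊓ W' := by rw [h4]; exact hw
    exact h5.1
  -- pigeonhole
  have hpigeon : ∃ τ₀ ∈ R, τ₀ ≠ 1 ∧ τ₀ w₀ = w₀ := by
    by_contra hcon
    push Not at hcon
    let f : R → Subgroup.zpowers z' := fun u => ⟨w₀⁻¹ * u.1 w₀, hR_W u.1 u.2 w₀ hw₀⟩
    have hinj : Function.Injective f := by
      intro u u' huu
      have h1 : w₀⁻¹ * u.1 w₀ = w₀⁻¹ * u'.1 w₀ := congrArg Subtype.val huu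
      have h2 : u.1 w₀ = u'.1 w₀ := mul_left_cancel h1
      by_contra hne'
      have h3 : u.1⁻¹ * u'.1 ≠ 1 := by
        intro h4
        exact hne' (Subtype.ext (inv_mul_eq_one.1 h4))
      apply hcon _ (R.mul_mem (R.inv_mem u.2) u'.2) h3
      show u.1⁻¹ (u'.1 w₀) = w₀
      rw [← h2, MulAut.inv_apply_self]
    have h1 := Nat.card_le_card_of_injective f hinj
    rw [hcz] at h1
    have h2 : p ^ 2 ≤ p := hR2.trans h1
    have := hp'.two_le
    nlinarith
  obtain ⟨τ₀, hτ₀R, hτ₀1, hτ₀w⟩ := hpigeon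
  have hτW : ∀ w ∈ W', τ₀ w = w := hfixW τ₀ (hR_z τ₀ hτ₀R) hτ₀w
  obtain ⟨e₀, he₀⟩ : ∃ e₀ : V, e₀ ∉ W' := by
    by_contra hcon
    push Not at hcon
    have : W' = ⊤ := eq_top_iff.2 fun x _ => hcon x
    rw [this, Subgroup.index_top] at hidx
    exact hp'.one_lt.ne hidx
  -- transvection
  let z₀ : V := e₀⁻¹ * τ₀ e₀
  have hz₀W : z₀ ∈ W' := hR_E τ₀ hτ₀R e₀
  have hz₀1 : z₀ ≠ 1 := by
    intro h
    have h1 : τ₀ e₀ = e₀ := (inv_mul_eq_one.1 h).symm
    apply hτ₀1
    ext x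
    obtain ⟨a, ha, m, rfl⟩ := exists_decomp_of_index hidx he₀ x
    rw [map_mul, map_pow, hτW a ha, h1]
    rfl
  have hz₀fix : τ₀ z₀ = z₀ := hτW z₀ hz₀W
  have hz₀p : z₀ ^ p = 1 := hexp z₀
  have hτe : τ₀ e₀ = e₀ * z₀ := by
    simp only [z₀]
    group
  have hτst : ∀ x, x⁻¹ * τ₀ x ∈ Subgroup.zpowers z₀ := by
    intro x
    obtain ⟨a, ha, m, rfl⟩ := exists_decomp_of_index hidx he₀ x
    refine ⟨m, ?_⟩
    rw [map_mul, map_pow, hτW a ha, hτe, (show Commute e₀ z₀ from hV e₀ z₀).mul_pow m]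
    show z₀ ^ (m : ℤ) = _
    rw [zpow_natCast]
    have : a * (e₀ ^ m * z₀ ^ m) = (a * e₀ ^ m) * z₀ ^ m := by group
    rw [this]
    group
  -- the opposite conjugate
  let τ' : MulAut V := α * τ₀ * α⁻¹
  let v : V := α z₀
  have hvp : v ^ p = 1 := hexp v
  have hτ'v : τ' v = v := conj_fix τ₀ α hz₀fix
  have hτ'st : ∀ x, x⁻¹ * τ' x ∈ Subgroup.zpowers v := conj_stab' τ₀ α hτst
  have hvW : v ∉ W' := by
    intro hv
    exact hA τ₀ hτ₀R τ₀ hτ₀R hτ₀1 hτ₀1
      (isPGroup_closure_pair hV hVp (hτW v hv) hz₀fix hτst hτ'v hτ'st)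
  have hfree : ∀ u ∈ R, u v = v → u = 1 := by
    intro u hu huv
    by_contra hu1
    refine hA u hu τ₀ hτ₀R hu1 hτ₀1
      (isPGroup_closure_pair hV hVp huv (hR_z u hu) (fun x => ?_) hτ'v hτ'st)
    obtain ⟨a, ha, m, rfl⟩ := exists_decomp_of_index hidx hvW x
    rw [map_mul, map_pow, huv]
    have e : (a * v ^ m)⁻¹ * (u a * v ^ m) = a⁻¹ * u a := by
      rw [mul_inv_rev, mul_assoc, ← mul_assoc a⁻¹, hV (a⁻¹ * u a) (v ^ m), inv_mul_cancel_left]
    rw [e]
    exact hR_W u hu a ha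
  -- bijection
  let f₂ : R → W' := fun u => ⟨v⁻¹ * u.1 v, hR_E u.1 u.2 v⟩
  have hf₂ : Function.Injective f₂ := by
    intro u u' huu
    have h1 : v⁻¹ * u.1 v = v⁻¹ * u'.1 v := congrArg Subtype.val huu
    have h2 : u.1 v = u'.1 v := mul_left_cancel h1
    have h3 := hfree (u.1⁻¹ * u'.1) (R.mul_mem (R.inv_mem u.2) u'.2) (by
      show u.1⁻¹ (u'.1 v) = v
      rw [← h2, MulAut.inv_apply_self])
    exact Subtype.ext (inv_mul_eq_one.1 h3)
  have hbij := Function.Injective.bijective_of_nat_card_le hf₂ (by rw [hcW']; exact hR2)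
  -- the intersection of the axes
  let A' : Subgroup V := W'.map α.toMonoidHom
  have hcA' : Nat.card A' = p ^ 2 := by
    rw [Subgroup.card_map_of_injective α.injective, hcW']
  have hidxA : A'.index = p := by
    have h1 := Subgroup.card_mul_index A'
    rw [hcA', hcE] at h1
    have h2 : p ^ 2 * A'.index = p ^ 2 * p := by rw [h1]; ring
    exact Nat.eq_of_mul_eq_mul_left (pow_pos hp'.pos 2) h2
  have hinf : ⊥ < W' ⊓ A' := by
    rw [bot_lt_iff_ne_bot]
    intro hbot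
    have h1 : (W' ⊓ A').index ≤ W'.index * A'.index := Subgroup.index_inf_le
    rw [hbot, hidx, hidxA, Subgroup.index_bot, hcE] at h1
    have h2 : p * p ^ 2 ≤ 1 * p ^ 2 := by nlinarith [h1]
    have h3 := Nat.le_of_mul_le_mul_right h2 (pow_pos hp'.pos 2)
    have := hp'.two_le
    omega
  obtain ⟨⟨h, hh⟩, hh0⟩ := (Subgroup.ne_bot_iff_exists_ne_one).1 hinf.ne'
  have hh1 : h ≠ 1 := fun h' => hh0 (Subtype.ext h')
  obtain ⟨⟨u, hu⟩, huh⟩ := hbij.2 ⟨h, hh.1⟩
  have huh' : v⁻¹ * u v = h := congrArg Subtype.val huh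
  have hu1 : u ≠ 1 := by
    rintro rfl
    apply hh1
    rw [← huh']
    simp
  have huv : u v = v * h := by rw [← huh']; group
  have hτ'h : τ' h = h := by
    obtain ⟨w, hw, hwe⟩ := hh.2
    have h1 := conj_fix τ₀ α (hτW w hw)
    have h2 : α w = h := hwe
    rwa [h2] at h1
  apply hB u hu τ₀ hτ₀R hu1 hτ₀1
  have hc1 : τ' (u v) = u v := by
    rw [huv, map_mul, hτ'v, hτ'h]
  have hc2 : (u * τ' * u⁻¹) (u v) = u v := conj_fix τ' u hτ'v
  exact isPGroup_closure_pair hV hVp hc1 hτ'v hτ'st hc2 (conj_stab' τ' u hτ'st)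

end V

end IndexPAux

section Fus

open Cfsg Cfsg.FusionSystem Cfsg.Agent.Lib.Fusion.Basic Cfsg.Agent.Lib.Fusion.Saturated
  Cfsg.Agent.Lib.Fusion.Saturated2 Cfsg.Agent.Lib.Fusion.Essential
  Cfsg.Agent.Lib.Fusion.EssentialPair Cfsg.Agent.Lib.Fusion.MaxClassE3 Cfsg.Agent.Lib.Basic
  Cfsg.Agent.Lib.Fusion.Meta.Frat IndexPAux

universe u

variable {Ω : Type u} [Group Ω] {S : Subgroup Ω} [Finite S] {p : ℕ} [hp : Fact p.Prime]
  {F : FusionSystem S}

/-- F2 : `|N_S(E) : E| = p`. -/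
theorem index_eq_p (hp5 : 5 ≤ p) (hS : IsPGroup p S) (hF : F.IsSaturated p) {E : Subgroup Ω}
    (hE : F.IsEssential p E) (hrk : (frattini E).index = p ^ 3) :
    (E.subgroupOf (S ⊓ Subgroup.normalizer (E : Set Ω))).index = p := by
  classical
  have hp' : p.Prime := Fact.out
  have hES : E ≤ S := hE.1.1
  haveI : Finite E := finite_of_le hES
  have hne := Cfsg.Agent.Lib.Fusion.EssentialGen.essential_ne hS hF hE
  have hlt : E < S := lt_of_le_of_ne hES hne
  have hC : centralizerIn S E ≤ E := hE.1.2 E (Cfsg.Agent.Lib.Fusion.Basic.IsConj.refl hES)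
  have hEp : IsPGroup p E := isPGroup_of_le hS hES
  haveI : Finite ↥(S ⊓ Subgroup.normalizer (E : Set Ω)) := finite_of_le inf_le_left
  have hNp : IsPGroup p ↥(S ⊓ Subgroup.normalizer (E : Set Ω)) := isPGroup_of_le hS inf_le_left
  let φ : ↥(S ⊓ Subgroup.normalizer (E : Set Ω)) →* MulAut E :=
    MonoidHom.mk' (fun g => normConj g.1 g.2.2) (fun a b => by
      ext x
      simp [mul_assoc])
  let Θ := fratAut E
  let ψ := Θ.comp φ
  -- the Frattini quotient
  have hQab : ∀ a b : E ⧸ frattini E, a * b = b * a := by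
    intro a b
    induction a using QuotientGroup.induction_on with
    | H a =>
      induction b using QuotientGroup.induction_on with
      | H b =>
        rw [← QuotientGroup.mk_mul, ← QuotientGroup.mk_mul, QuotientGroup.eq]
        have h1 := Cfsg.Agent.Lib.PGroup.FrattiniBasis.commutator_le_frattini hEp
          (Subgroup.commutator_mem_commutator (Subgroup.mem_top b⁻¹) (Subgroup.mem_top a⁻¹))
        convert h1 using 1
        simp [commutatorElement_def]
        group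
  have hQexp : ∀ x : E ⧸ frattini E, x ^ p = 1 := by
    intro x
    induction x using QuotientGroup.induction_on with
    | H x =>
      rw [← QuotientGroup.mk_pow, QuotientGroup.eq_one_iff]
      exact Cfsg.Agent.Lib.PGroup.FrattiniBasis.pow_mem_frattini hEp x
  have hQcard : Nat.card (E ⧸ frattini E) = p ^ 3 := hrk
  -- inner automorphisms die
  have hinn0 : ∀ β ∈ Inn E, Θ β = 1 := by
    rintro _ ⟨y, rfl⟩
    ext x
    induction x using QuotientGroup.induction_on with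
    | H x =>
      show (((MulAut.conj y) x : E) : E ⧸ frattini E) = (x : E ⧸ frattini E)
      have h1 : (MulAut.conj y) x = y * x * y⁻¹ := rfl
      rw [h1, QuotientGroup.mk_mul, QuotientGroup.mk_mul, hQab (y : E ⧸ frattini E) x]
      simp
  -- the kernel is a `p`-group
  have hkerΘ : IsPGroup p Θ.ker := by
    haveI hfinA : Finite (MulAut E) :=
      Finite.of_injective (fun f : MulAut E => (f : E → E)) DFunLike.coe_injective
    rw [IsPGroup.iff_orderOf]
    rintro ⟨β, hβ⟩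
    rw [Subgroup.orderOf_mk]
    have hne : orderOf β ≠ 0 := (orderOf_pos β).ne'
    obtain ⟨e, m, hm, he⟩ := Nat.exists_eq_pow_mul_and_not_dvd hne p hp'.ne_one
    have hord : orderOf (β ^ (p ^ e)) = m := by
      rw [orderOf_pow_of_dvd (pow_ne_zero _ hp'.ne_zero) (by rw [he]; exact dvd_mul_right _ _), he]
      exact Nat.mul_div_cancel_left _ (pow_pos hp'.pos _)
    have hγ : β ^ (p ^ e) ∈ Θ.ker := Subgroup.pow_mem _ hβ _
    have hc : (orderOf (β ^ (p ^ e))).Coprime p := by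
      rw [hord]
      exact ((Nat.Prime.coprime_iff_not_dvd hp').mpr hm).symm
    have hγ1 : β ^ (p ^ e) = 1 := by
      refine aut_eq_one_of_frattini hEp _ hc ?_
      intro x
      have h1 : Θ (β ^ (p ^ e)) (x : E ⧸ frattini E) = (x : E ⧸ frattini E) := by
        rw [MonoidHom.mem_ker.mp hγ]; rfl
      exact QuotientGroup.eq.mp h1.symm
    have hm1 : m = 1 := by rw [← hord, hγ1, orderOf_one]
    exact ⟨e, by rw [he, hm1, mul_one]⟩
  -- radical
  have hinnΘ : ∀ β ∈ F.autGroup E, Θ β = 1 → β ∈ Inn E := by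
    intro β hβ hβ1
    have hrad := (isRadical_of_essential hS hE).2
    rw [← hrad]
    refine ⟨⟨β, hβ⟩, ?_, rfl⟩
    refine Cfsg.Agent.Lib.Basic.PCore.le_pCore (N := Θ.ker.subgroupOf (F.autGroup E))
      (Subgroup.Normal.subgroupOf inferInstance _) ?_ ?_
    · intro x
      obtain ⟨n, hn⟩ := hkerΘ ⟨(x : F.autGroup E).1, x.2⟩
      refine ⟨n, Subtype.ext (Subtype.ext ?_)⟩
      simpa using congrArg Subtype.val hn
    · exact hβ1
  have hφA : ∀ g, φ g ∈ autInducedBy S E := fun g => normConj_mem_autInducedBy g.2.1 g.2.2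
  -- the kernel
  have hkerψ : ψ.ker = E.subgroupOf (S ⊓ Subgroup.normalizer (E : Set Ω)) := by
    ext g
    constructor
    · intro hg
      obtain ⟨y, hy⟩ := hinnΘ (φ g) (autInducedBy_le_autGroup hES (hφA g)) hg
      have hc : y.1⁻¹ * g.1 ∈ centralizerIn S E := by
        refine ⟨S.mul_mem (S.inv_mem (hES y.2)) g.2.1, Subgroup.mem_centralizer_iff.2 fun x hx => ?_⟩
        have h2 := congrArg (fun a : MulAut E => ((a ⟨x, hx⟩ : E) : Ω)) hy
        have h3 : y.1 * x * y.1⁻¹ = g.1 * x * g.1⁻¹ := h2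
        have h4 : g.1 * x = y.1 * x * y.1⁻¹ * g.1 := by rw [h3]; group
        show x * (y.1⁻¹ * g.1) = y.1⁻¹ * g.1 * x
        rw [mul_assoc y.1⁻¹, h4]
        group
      have h5 := hC hc
      have h6 : g.1 = y.1 * (y.1⁻¹ * g.1) := by group
      show g.1 ∈ E
      rw [h6]
      exact E.mul_mem y.2 h5
    · intro hg
      show Θ (φ g) = 1
      apply hinn0
      refine ⟨⟨g.1, hg⟩, ?_⟩
      ext x
      rfl
  have hcardR : Nat.card ψ.range = (E.subgroupOf (S ⊓ Subgroup.normalizer (E : Set Ω))).index := by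
    rw [← hkerψ]
    exact (Subgroup.index_ker ψ).symm
  have hRp : IsPGroup p ψ.range := by
    rintro ⟨_, g, rfl⟩
    obtain ⟨n, hn⟩ := hNp g
    refine ⟨n, Subtype.ext ?_⟩
    show ψ g ^ p ^ n = 1
    rw [← map_pow, hn, map_one]
  by_contra hne'
  obtain ⟨k, hk⟩ := hNp.index (E.subgroupOf (S ⊓ Subgroup.normalizer (E : Set Ω)))
  have hk0 : k ≠ 0 := by
    rintro rfl
    rw [pow_zero, Subgroup.index_eq_one, Subgroup.subgroupOf_eq_top] at hk
    exact (lt_normalizerIn hS hlt).not_ge hk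
  have hk1 : k ≠ 1 := by
    rintro rfl
    exact hne' (by rw [hk, pow_one])
  have hR2 : p ^ 2 ≤ Nat.card ψ.range := by
    rw [hcardR, hk]
    exact Nat.pow_le_pow_right hp'.pos (by omega)
  obtain ⟨α, hαA, hA, hB⟩ := exists_pair₂ hS hF hE
  have hRmem : ∀ u ∈ ψ.range, u ≠ 1 → ∃ u₀ ∈ autInducedBy S E, u₀ ∉ Inn E ∧ Θ u₀ = u := by
    rintro _ ⟨g, rfl⟩ hu
    exact ⟨φ g, hφA g, fun h => hu (hinn0 _ h), rfl⟩
  refine core_V hQab hQexp hQcard ψ.range hRp hR2 (Θ α) ?_ ?_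
  · intro u hu v hv hu1 hv1 hpg
    obtain ⟨u₀, hu₀, hu₀I, rfl⟩ := hRmem u hu hu1
    obtain ⟨v₀, hv₀, hv₀I, rfl⟩ := hRmem v hv hv1
    apply hA u₀ hu₀ v₀ hv₀ hu₀I hv₀I
    refine (hpg.comap_of_ker_isPGroup Θ hkerΘ).to_le ?_
    rw [Subgroup.closure_le]
    rintro x (rfl | rfl)
    · exact Subgroup.subset_closure (Set.mem_insert _ _)
    · rw [SetLike.mem_coe, Subgroup.mem_comap, map_mul, map_mul, map_inv]
      exact Subgroup.subset_closure (Set.mem_insert_of_mem _ rfl)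
  · intro u hu v hv hu1 hv1 hpg
    obtain ⟨u₀, hu₀, hu₀I, rfl⟩ := hRmem u hu hu1
    obtain ⟨v₀, hv₀, hv₀I, rfl⟩ := hRmem v hv hv1
    apply hB u₀ hu₀ v₀ hv₀ hu₀I hv₀I
    refine (hpg.comap_of_ker_isPGroup Θ hkerΘ).to_le ?_
    rw [Subgroup.closure_le]
    rintro x (rfl | rfl)
    · rw [SetLike.mem_coe, Subgroup.mem_comap, map_mul, map_mul, map_inv]
      exact Subgroup.subset_closure (Set.mem_insert _ _)
    · rw [SetLike.mem_coe, Subgroup.mem_comap]
      simp only [map_mul, map_inv]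
      exact Subgroup.subset_closure (Set.mem_insert_of_mem _ rfl)

end Fus

end Cfsg.Agent.Lib.S5180
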