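/- S5180 piece F3: in the `J₃` case `Aut_F(E)` is irreducible on `E/Φ(E)`. -/
import Mathlib
import Cfsg.Prelude.Def_FusionSystem
import Cfsg.Agent.Lib.Fusion.EssentialPair
import Cfsg.Agent.Lib.Fusion.Resist.GL
import Cfsg.Agent.Lib.PGroup.FrattiniBasis

set_option autoImplicit false

open scoped commutatorElement
open Cfsg

namespace Cfsg.Agent.Lib.S5180
universe u

namespace IrrAux

open Cfsg.Agent.Lib.Fusion.Resist.GL

variable {p : ℕ} [hp : Fact p.Prime]

theorem key {G B C : Type*} [Group G] [AddCommGroup B] [Module (ZMod p) B] [Finite B]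
    [AddCommGroup C] [Module (ZMod p) C] [Finite C]
    (hB : Module.finrank (ZMod p) B ≤ 2) (hC : Module.finrank (ZMod p) C ≤ 1)
    (r : G →* (B ≃ₗ[ZMod p] B)) (c : G →* (C ≃ₗ[ZMod p] C))
    (hstar : ∀ g, r g = 1 → c g = 1 → g = 1) {u v : G}
    (hu : ∃ k : ℕ, u ^ p ^ k = 1) (hv : ∃ k : ℕ, v ^ p ^ k = 1)
    (hnp : ¬ IsPGroup p (Subgroup.closure ({u, v} : Set G))) :
    ∃ z : G, r z = LinearEquiv.neg (ZMod p) ∧ c z = 1 ∧ z * z = 1 ∧ u * z = z * u ∧ c u = 1 := by
  obtain ⟨k, hk⟩ := hu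
  obtain ⟨l, hl⟩ := hv
  have hcu : c u = 1 := eq_one_of_finrank_le_one hC (c u) (k := k) (by rw [← map_pow, hk, map_one])
  have hcv : c v = 1 := eq_one_of_finrank_le_one hC (c v) (k := l) (by rw [← map_pow, hl, map_one])
  have hcK : ∀ g ∈ Subgroup.closure ({u, v} : Set G), c g = 1 := by
    intro g hg
    have : Subgroup.closure ({u, v} : Set G) ≤ c.ker := by
      rw [Subgroup.closure_le]
      rintro x (rfl | rfl)
      · exact hcu
      · exact hcv
    exact this hg
  have hmap : (Subgroup.closure ({u, v} : Set G)).map r =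
      Subgroup.closure ({r u, r v} : Set (B ≃ₗ[ZMod p] B)) := by
    rw [MonoidHom.map_closure, Set.image_pair]
  have hnp' : ¬ IsPGroup p (Subgroup.closure ({r u, r v} : Set (B ≃ₗ[ZMod p] B))) := by
    intro hP
    apply hnp
    rintro ⟨g, hg⟩
    have hmem : r g ∈ Subgroup.closure ({r u, r v} : Set (B ≃ₗ[ZMod p] B)) := by
      rw [← hmap]
      exact ⟨g, hg, rfl⟩
    obtain ⟨n, hn⟩ := hP ⟨r g, hmem⟩
    refine ⟨n, Subtype.ext ?_⟩
    have h1 : (r g) ^ p ^ n = 1 := congrArg Subtype.val hn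
    show g ^ p ^ n = 1
    apply hstar
    · rw [map_pow, h1]
    · rw [map_pow, hcK g hg, one_pow]
  have hneg := neg_mem_closure (p := p) hB (X := {r u, r v}) (by
      rintro x (rfl | rfl)
      · exact ⟨k, by rw [← map_pow, hk, map_one]⟩
      · exact ⟨l, by rw [← map_pow, hl, map_one]⟩) hnp'
  rw [← hmap] at hneg
  obtain ⟨z, hzK, hz⟩ := hneg
  have hnn : (LinearEquiv.neg (ZMod p) : B ≃ₗ[ZMod p] B) * LinearEquiv.neg (ZMod p) = 1 := by
    ext x
    simp [LinearEquiv.mul_apply]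
  have hcomm : r u * (LinearEquiv.neg (ZMod p) : B ≃ₗ[ZMod p] B) = LinearEquiv.neg (ZMod p) * r u := by
    ext x
    simp [LinearEquiv.mul_apply]
  refine ⟨z, hz, hcK z hzK, ?_, ?_, hcu⟩
  · apply hstar
    · rw [map_mul, hz, hnn]
    · rw [map_mul, hcK z hzK, one_mul]
  · have h2 : u * z * u⁻¹ * z⁻¹ = 1 := by
      apply hstar
      · simp only [map_mul, map_inv, hz]
        rw [hcomm]
        group
      · simp only [map_mul, map_inv, hcK z hzK, hcu]
        group
    have h3 : u * z * u⁻¹ = z := by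
      rw [mul_inv_eq_one] at h2
      exact h2
    rw [mul_inv_eq_iff_eq_mul] at h3
    exact h3

theorem sq_zero {B : Type*} [AddCommGroup B] [Module (ZMod p) B] [Finite B]
    (hB : Module.finrank (ZMod p) B ≤ 2) (x : B ≃ₗ[ZMod p] B) {k : ℕ} (hx : x ^ p ^ k = 1) (w : B) :
    x (x w) - x w - (x w - w) = 0 := by
  by_cases hw : w = 0
  · simp [hw]
  obtain ⟨c, hc, hxc⟩ := exists_fixed x hx w hw
  obtain ⟨d, hd⟩ := exists_add_smul hB x hx hc hxc w
  have h2 : x (x w) = w + d • c + d • c := by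
    rw [hd, map_add, map_smul, hxc, hd]
  rw [h2, hd]
  abel

variable {V : Type*} [AddCommGroup V] [Module (ZMod p) V]

/-- restriction to an invariant submodule -/
noncomputable def resW (W : Submodule (ZMod p) V) (G : Subgroup (V ≃ₗ[ZMod p] V))
    (hGW : ∀ g ∈ G, ∀ x ∈ W, g x ∈ W) : G →* (W ≃ₗ[ZMod p] W) :=
  MonoidHom.mk' (fun g => LinearEquiv.ofLinear
      ((g.1 : V →ₗ[ZMod p] V).restrict (fun x hx => hGW g.1 g.2 x hx))
      (((g.1⁻¹ : V ≃ₗ[ZMod p] V) : V →ₗ[ZMod p] V).restrict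
        (fun x hx => hGW _ (G.inv_mem g.2) x hx))
      (by
        ext x
        exact g.1.apply_symm_apply _)
      (by
        ext x
        exact g.1.symm_apply_apply _))
    (by
      intro a b
      ext x
      rfl)

theorem resW_apply (W : Submodule (ZMod p) V) (G : Subgroup (V ≃ₗ[ZMod p] V))
    (hGW : ∀ g ∈ G, ∀ x ∈ W, g x ∈ W) (g : G) (x : W) :
    ((resW W G hGW g x : W) : V) = g.1 x := rfl

/-- action on the quotient by an invariant submodule -/
noncomputable def resQ (W : Submodule (ZMod p) V) (G : Subgroup (V ≃ₗ[ZMod p] V))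
    (hGW : ∀ g ∈ G, ∀ x ∈ W, g x ∈ W) : G →* ((V ⧸ W) ≃ₗ[ZMod p] (V ⧸ W)) :=
  MonoidHom.mk' (fun g => LinearEquiv.ofLinear
      (W.mapQ W (g.1 : V →ₗ[ZMod p] V) (fun x hx => hGW g.1 g.2 x hx))
      (W.mapQ W ((g.1⁻¹ : V ≃ₗ[ZMod p] V) : V →ₗ[ZMod p] V)
        (fun x hx => hGW _ (G.inv_mem g.2) x hx))
      (by
        apply LinearMap.ext
        intro x
        obtain ⟨y, rfl⟩ := Submodule.Quotient.mk_surjective W x
        show W.mkQ (g.1 (g.1.symm y)) = _
        rw [g.1.apply_symm_apply]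
        rfl)
      (by
        apply LinearMap.ext
        intro x
        obtain ⟨y, rfl⟩ := Submodule.Quotient.mk_surjective W x
        show W.mkQ (g.1.symm (g.1 y)) = _
        rw [g.1.symm_apply_apply]
        rfl))
    (by
      intro a b
      ext x
      obtain ⟨y, rfl⟩ := Submodule.Quotient.mk_surjective W x
      rfl)

theorem resQ_apply (W : Submodule (ZMod p) V) (G : Subgroup (V ≃ₗ[ZMod p] V))
    (hGW : ∀ g ∈ G, ∀ x ∈ W, g x ∈ W) (g : G) (x : V) :
    resQ W G hGW g (Submodule.Quotient.mk x) = Submodule.Quotient.mk (g.1 x) := rfl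

theorem linear_core [Finite V] (hp2 : p ≠ 2) (hV : Module.finrank (ZMod p) V = 3)
    (W : Submodule (ZMod p) V) (hW0 : W ≠ ⊥) (hWt : W ≠ ⊤) (G : Subgroup (V ≃ₗ[ZMod p] V))
    (hGW : ∀ g ∈ G, ∀ x ∈ W, g x ∈ W)
    (hstar : ∀ g ∈ G, (∀ x ∈ W, g x = x) → (∀ x, g x - x ∈ W) → g = 1)
    {u v : V ≃ₗ[ZMod p] V} (hu : u ∈ G) (hv : v ∈ G) (hup : ∃ k : ℕ, u ^ p ^ k = 1)
    (hvp : ∃ k : ℕ, v ^ p ^ k = 1)
    (hnp : ¬ IsPGroup p (Subgroup.closure ({u, v} : Set (V ≃ₗ[ZMod p] V)))) (x : V) :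
    u (u x) - u x - (u x - x) = 0 := by
  classical
  haveI : Module.Finite (ZMod p) V := Module.Finite.of_finite
  haveI : Finite (V ⧸ W) :=
    Finite.of_surjective (Submodule.Quotient.mk : V → V ⧸ W) (Submodule.Quotient.mk_surjective W)
  have hdim := Submodule.finrank_quotient_add_finrank W
  have hW1 : 1 ≤ Module.finrank (ZMod p) W := Submodule.one_le_finrank_iff.2 hW0
  have hW2 : Module.finrank (ZMod p) W < Module.finrank (ZMod p) V := Submodule.finrank_lt hWt
  rw [hV] at hdim hW2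
  have h20 : (2 : ZMod p) ≠ 0 := by
    intro h
    have h1 : ((2 : ℕ) : ZMod p) = 0 := by exact_mod_cast h
    rw [ZMod.natCast_eq_zero_iff] at h1
    exact hp2 ((Nat.prime_dvd_prime_iff_eq hp.out Nat.prime_two).1 h1)
  have two0 : ∀ y : V, y + y = 0 → y = 0 := by
    intro y hy
    rw [← two_smul (ZMod p) y] at hy
    exact (smul_eq_zero.1 hy).resolve_left h20
  have twoW : ∀ y : V, y + y ∈ W → y ∈ W := by
    intro y hy
    rw [← two_smul (ZMod p) y] at hy
    exact (W.smul_mem_iff h20).1 hy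
  let r₁ := resW W G hGW
  let r₂ := resQ W G hGW
  let u' : G := ⟨u, hu⟩
  let v' : G := ⟨v, hv⟩
  have hup' : ∃ k : ℕ, u' ^ p ^ k = 1 := by
    obtain ⟨k, hk⟩ := hup
    exact ⟨k, Subtype.ext hk⟩
  have hvp' : ∃ k : ℕ, v' ^ p ^ k = 1 := by
    obtain ⟨k, hk⟩ := hvp
    exact ⟨k, Subtype.ext hk⟩
  have hnp' : ¬ IsPGroup p (Subgroup.closure ({u', v'} : Set G)) := by
    intro hP
    apply hnp
    have h1 : (Subgroup.closure ({u', v'} : Set G)).map G.subtype =
        Subgroup.closure ({u, v} : Set (V ≃ₗ[ZMod p] V)) := by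
      rw [MonoidHom.map_closure, Set.image_pair]
      rfl
    rw [← h1]
    exact hP.map _
  have hstar' : ∀ g : G, r₁ g = 1 → r₂ g = 1 → g = 1 := by
    intro g h1 h2
    apply Subtype.ext
    apply hstar g.1 g.2
    · intro y hy
      have h3 : r₁ g ⟨y, hy⟩ = ⟨y, hy⟩ := by rw [h1]; rfl
      exact congrArg Subtype.val h3
    · intro y
      have h3 : r₂ g (Submodule.Quotient.mk y) = Submodule.Quotient.mk y := by rw [h2]; rfl
      rw [resQ_apply, Submodule.Quotient.eq] at h3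
      exact h3
  -- the nilpotent part
  let n : V →ₗ[ZMod p] V := (u : V →ₗ[ZMod p] V) - LinearMap.id
  have hn : ∀ a, n a = u a - a := fun a => rfl
  have hnn : ∀ a, n (n a) = u (u a) - u a - (u a - a) := by
    intro a
    rw [hn, hn, map_sub]
  rw [← hnn]
  have hW12 : Module.finrank (ZMod p) W = 1 ∨ Module.finrank (ZMod p) W = 2 := by omega
  rcases hW12 with hW | hW
  · -- `W` is a line
    have hB : Module.finrank (ZMod p) (V ⧸ W) ≤ 2 := by omega
    have hC : Module.finrank (ZMod p) W ≤ 1 := by omega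
    haveI : Finite W := inferInstance
    obtain ⟨z, hz, hcz, hzz, huz, hcu⟩ := key (p := p) hB hC r₂ r₁
      (fun g h2 h1 => hstar' g h1 h2) hup' hvp' hnp'
    have hzB : ∀ a, z.1 a + a ∈ W := by
      intro a
      have h3 : r₂ z (Submodule.Quotient.mk a) = - Submodule.Quotient.mk a := by
        rw [hz]
        rfl
      rw [resQ_apply, ← Submodule.Quotient.mk_neg, Submodule.Quotient.eq, sub_neg_eq_add] at h3
      exact h3
    have hzW : ∀ y ∈ W, z.1 y = y := by
      intro y hy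
      have h3 : r₁ z ⟨y, hy⟩ = ⟨y, hy⟩ := by rw [hcz]; rfl
      exact congrArg Subtype.val h3
    have huW : ∀ y ∈ W, u y = y := by
      intro y hy
      have h3 : r₁ u' ⟨y, hy⟩ = ⟨y, hy⟩ := by rw [hcu]; rfl
      exact congrArg Subtype.val h3
    have hzz' : ∀ a, z.1 (z.1 a) = a := by
      intro a
      have h3 := congrArg (fun g : G => g.1 a) hzz
      exact h3
    have huz' : ∀ a, u (z.1 a) = z.1 (u a) := by
      intro a
      have h3 := congrArg (fun g : G => g.1 a) huz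
      exact h3
    have hnz : ∀ a, n (z.1 a) = z.1 (n a) := by
      intro a
      rw [hn, hn, map_sub, huz']
    have hnnW : ∀ a, n (n a) ∈ W := by
      intro a
      obtain ⟨k, hk⟩ := hup'
      have h3 := sq_zero hB (r₂ u') (k := k) (by rw [← map_pow, hk, map_one])
        (Submodule.Quotient.mk a)
      have e1 : r₂ u' (Submodule.Quotient.mk a) = Submodule.Quotient.mk (u a) := rfl
      have e2 : r₂ u' (Submodule.Quotient.mk (u a)) = Submodule.Quotient.mk (u (u a)) := rfl
      rw [e1, e2, ← Submodule.Quotient.mk_sub, ← Submodule.Quotient.mk_sub,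
        ← Submodule.Quotient.mk_sub, Submodule.Quotient.mk_eq_zero] at h3
      rw [hnn]
      exact h3
    set Xp := x + z.1 x with hXp
    set Xm := x - z.1 x with hXm
    have hpm : Xp + Xm = x + x := by
      rw [hXp, hXm]
      abel
    have h1 : n (n Xp) = 0 := by
      have h2 : Xp ∈ W := by
        apply twoW
        have h3 := hzB Xp
        have h4 : z.1 Xp + Xp = Xp + Xp := by
          rw [hXp, map_add, hzz']
          abel
        rwa [h4] at h3
      have h5 : n Xp = 0 := by rw [hn, huW _ h2, sub_self]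
      rw [h5, map_zero]
    have h2 : n (n Xm) = 0 := by
      apply two0
      have h3 := hzW _ (hnnW Xm)
      rw [← hnz, ← hnz] at h3
      have h4 : z.1 Xm = - Xm := by
        rw [hXm, map_sub, hzz']
        abel
      rw [h4, map_neg, map_neg] at h3
      have h5 : n (n Xm) + n (n Xm) = n (n Xm) - - n (n Xm) := by abel
      rw [h5, h3]
      abel
    have h3 : n (n x) + n (n x) = 0 := by
      have h4 : n (n (Xp + Xm)) = 0 := by
        rw [map_add, map_add, h1, h2, add_zero]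
      rwa [hpm, map_add, map_add] at h4
    exact two0 _ h3
  · -- `W` is a plane
    have hB : Module.finrank (ZMod p) W ≤ 2 := by omega
    have hC : Module.finrank (ZMod p) (V ⧸ W) ≤ 1 := by omega
    haveI : Finite W := inferInstance
    obtain ⟨z, hz, hcz, hzz, huz, hcu⟩ := key (p := p) hB hC r₁ r₂ hstar' hup' hvp' hnp'
    have hzW : ∀ y ∈ W, z.1 y = - y := by
      intro y hy
      have h3 : r₁ z ⟨y, hy⟩ = - (⟨y, hy⟩ : W) := by
        rw [hz]
        rfl
      exact congrArg Subtype.val h3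
    have hzB : ∀ a, z.1 a - a ∈ W := by
      intro a
      have h3 : r₂ z (Submodule.Quotient.mk a) = Submodule.Quotient.mk a := by rw [hcz]; rfl
      rw [resQ_apply, Submodule.Quotient.eq] at h3
      exact h3
    have huB : ∀ a, u a - a ∈ W := by
      intro a
      have h3 : r₂ u' (Submodule.Quotient.mk a) = Submodule.Quotient.mk a := by rw [hcu]; rfl
      rw [resQ_apply, Submodule.Quotient.eq] at h3
      exact h3
    have hzz' : ∀ a, z.1 (z.1 a) = a := by
      intro a
      have h3 := congrArg (fun g : G => g.1 a) hzz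
      exact h3
    have huz' : ∀ a, u (z.1 a) = z.1 (u a) := by
      intro a
      have h3 := congrArg (fun g : G => g.1 a) huz
      exact h3
    have hnz : ∀ a, n (z.1 a) = z.1 (n a) := by
      intro a
      rw [hn, hn, map_sub, huz']
    have hnnW : ∀ y ∈ W, n (n y) = 0 := by
      intro y hy
      obtain ⟨k, hk⟩ := hup'
      have h3 := sq_zero hB (r₁ u') (k := k) (by rw [← map_pow, hk, map_one]) ⟨y, hy⟩
      have h4 := congrArg Subtype.val h3
      rw [hnn]
      exact h4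
    set Xp := x + z.1 x with hXp
    set Xm := x - z.1 x with hXm
    have hpm : Xp + Xm = x + x := by
      rw [hXp, hXm]
      abel
    have h2 : n (n Xm) = 0 := by
      apply hnnW
      apply twoW
      have h3 := hzB Xm
      have h4 : z.1 Xm = - Xm := by
        rw [hXm, map_sub, hzz']
        abel
      rw [h4] at h3
      have h5 : Xm + Xm = - (- Xm - Xm) := by abel
      rw [h5]
      exact W.neg_mem h3
    have h1 : n (n Xp) = 0 := by
      have h3 : n Xp = 0 := by
        apply two0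
        have h4 : z.1 Xp = Xp := by
          rw [hXp, map_add, hzz']
          abel
        have h5 : z.1 (n Xp) = n Xp := by rw [← hnz, h4]
        have h6 := hzW _ (huB Xp)
        rw [← hn] at h6
        rw [h5] at h6
        have h7 : n Xp + n Xp = n Xp - - n Xp := by abel
        rw [h7, ← h6]
        abel
      rw [h3, map_zero]
    have h3 : n (n x) + n (n x) = 0 := by
      have h4 : n (n (Xp + Xm)) = 0 := by
        rw [map_add, map_add, h1, h2, add_zero]
      rwa [hpm, map_add, map_add] at h4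
    exact two0 _ h3

/-- An automorphism in `A` trivial on `W` and on `V/W` is in `O_p(A)`. -/
theorem star_core {H : Type u} [Group H] [Finite H] {V : Type u} [AddCommGroup V] [Module (ZMod p) V]
    (hH : IsPGroup p H) (π : H →* Multiplicative V) (hπ : Function.Surjective π)
    (hker : π.ker = frattini H) (A : Subgroup (MulAut H)) (W : Submodule (ZMod p) V)
    (hinv : ∀ a ∈ A, ∀ x ∈ W, frattGL (p := p) π hπ hker a x ∈ W) {γ : MulAut H} (hγ : γ ∈ A)
    (h1 : ∀ x ∈ W, frattGL (p := p) π hπ hker γ x = x)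
    (h2 : ∀ x, frattGL (p := p) π hπ hker γ x - x ∈ W) :
    (⟨γ, hγ⟩ : A) ∈ pCore p A := by
  classical
  let ρ := frattGL (p := p) π hπ hker
  have hrhoinv : ∀ (a : MulAut H) (y : V), ρ a⁻¹ (ρ a y) = y := by
    intro a y
    rw [map_inv]
    exact (ρ a).symm_apply_apply y
  have hrhoinv' : ∀ (a : MulAut H) (y : V), ρ a (ρ a⁻¹ y) = y := by
    intro a y
    rw [map_inv]
    exact (ρ a).apply_symm_apply y
  let N : Subgroup A :=
    { carrier := {a | (∀ x ∈ W, ρ a.1 x = x) ∧ ∀ x, ρ a.1 x - x ∈ W}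
      one_mem' := by
        refine ⟨fun x _ => ?_, fun x => ?_⟩
        · show ρ 1 x = x
          rw [map_one]
          rfl
        · show ρ 1 x - x ∈ W
          rw [map_one]
          simp
      mul_mem' := by
        rintro a b ⟨ha1, ha2⟩ ⟨hb1, hb2⟩
        refine ⟨fun x hx => ?_, fun x => ?_⟩
        · show ρ (a.1 * b.1) x = x
          rw [map_mul, LinearEquiv.mul_apply, hb1 x hx, ha1 x hx]
        · show ρ (a.1 * b.1) x - x ∈ W
          rw [map_mul, LinearEquiv.mul_apply]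
          have e : ρ a.1 (ρ b.1 x) - x = (ρ a.1 (ρ b.1 x) - ρ b.1 x) + (ρ b.1 x - x) := by abel
          rw [e]
          exact W.add_mem (ha2 _) (hb2 _)
      inv_mem' := by
        rintro a ⟨ha1, ha2⟩
        refine ⟨fun x hx => ?_, fun x => ?_⟩
        · show ρ a.1⁻¹ x = x
          conv_lhs => rw [← ha1 x hx]
          exact hrhoinv _ _
        · show ρ a.1⁻¹ x - x ∈ W
          have h3 := ha2 (ρ a.1⁻¹ x)
          rw [hrhoinv'] at h3
          have e : ρ a.1⁻¹ x - x = - (x - ρ a.1⁻¹ x) := by abel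
          rw [e]
          exact W.neg_mem h3 }
  have hNn : N.Normal := by
    refine ⟨fun n hn c => ⟨fun x hx => ?_, fun x => ?_⟩⟩
    · show ρ (c.1 * n.1 * c.1⁻¹) x = x
      rw [map_mul, map_mul, LinearEquiv.mul_apply, LinearEquiv.mul_apply,
        hn.1 _ (hinv _ (A.inv_mem c.2) x hx), hrhoinv']
    · show ρ (c.1 * n.1 * c.1⁻¹) x - x ∈ W
      rw [map_mul, map_mul, LinearEquiv.mul_apply, LinearEquiv.mul_apply]
      have e : ρ c.1 (ρ n.1 (ρ c.1⁻¹ x)) - x = ρ c.1 (ρ n.1 (ρ c.1⁻¹ x) - ρ c.1⁻¹ x) := by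
        rw [map_sub, hrhoinv']
      rw [e]
      exact hinv _ c.2 _ (hn.2 _)
  have hNp : IsPGroup p N := by
    rintro ⟨a, ha1, ha2⟩
    have hiter : ∀ (m : ℕ) (x : V), (ρ a.1 ^ m) x = x + m • (ρ a.1 x - x) := by
      intro m x
      have hy : ρ a.1 (ρ a.1 x - x) = ρ a.1 x - x := ha1 _ (ha2 x)
      induction m with
      | zero => simp
      | succ m ih =>
        rw [pow_succ', LinearEquiv.mul_apply, ih, map_add, map_nsmul, hy, succ_nsmul]
        abel
    have hone : ρ (a.1 ^ p) = 1 := by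
      rw [map_pow]
      ext x
      rw [hiter]
      have : p • (ρ a.1 x - x) = 0 := by
        rw [← Nat.cast_smul_eq_nsmul (ZMod p), ZMod.natCast_self, zero_smul]
      rw [this, add_zero]
      rfl
    obtain ⟨k, hk⟩ := isPGroup_ker_frattGL hH π hπ hker ⟨a.1 ^ p, hone⟩
    refine ⟨k + 1, Subtype.ext (Subtype.ext ?_)⟩
    have h3 : (a.1 ^ p) ^ p ^ k = 1 := congrArg Subtype.val hk
    show a.1 ^ p ^ (k + 1) = 1
    rw [pow_succ', pow_mul]
    exact h3
  exact Cfsg.Agent.Lib.Basic.PCore.le_pCore hNn hNp ⟨h1, h2⟩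

end IrrAux

section Main

open IrrAux Cfsg.Agent.Lib.Fusion.Resist.GL Cfsg.Agent.Lib.Fusion.Basic
  Cfsg.Agent.Lib.Fusion.EssentialPair Cfsg.FusionSystem

variable {Ω : Type u} [Group Ω] {S : Subgroup Ω} [Finite S] {p : ℕ} [Fact p.Prime] {F : FusionSystem S}

/-- F3 : Lib/S5180/Irr.lean. PLAN §L step A3: `J₃` case, `Aut_F(E)` irreducible on `E/Φ(E)`. -/
theorem irr_of_J3 (hp : 5 ≤ p) (hS : IsPGroup p S) (hF : F.IsSaturated p) {E : Subgroup Ω}
    (hE : F.IsEssential p E) (hrk : (frattini E).index = p ^ 3) {t x : Ω}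
    (ht : t ∈ S ⊓ Subgroup.normalizer (E : Set Ω)) (htE : t ∉ E) (hx : x ∈ E)
    (hJ : ⁅⁅x, t⁆, t⁆ ∉ (frattini E).map E.subtype) (M : Subgroup E) (hM : frattini E ≤ M)
    (hinv : ∀ a ∈ F.autGroup E, ∀ z : E, z ∈ M → a z ∈ M) : M = frattini E ∨ M = ⊤ := by
  classical
  by_contra hcon
  push Not at hcon
  obtain ⟨hMΦ, hMt⟩ := hcon
  have hES : E ≤ S := hE.1.1
  have hEp : IsPGroup p E := hS.to_le hES
  haveI : Finite E := Finite.of_injective (Subgroup.inclusion hES) (Subgroup.inclusion_injective _)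
  have hp2 : p ≠ 2 := by omega
  obtain ⟨V, iV, mV, π, hπ, hker⟩ := Cfsg.Agent.Lib.PGroup.FrattiniBasis.exists_vector_space hEp
  haveI : Finite V := Cfsg.Agent.Lib.PGroup.FrattiniBasis.finite_of_surj hπ
  have hV : Module.finrank (ZMod p) V = 3 := Cfsg.Agent.Lib.PGroup.FrattiniBasis.finrank_eq hπ hker hrk
  let toV : E → V := fun g => Multiplicative.toAdd (π g)
  have toV_mul : ∀ a b, toV (a * b) = toV a + toV b := fun a b => by
    show Multiplicative.toAdd (π (a * b)) = _
    rw [map_mul]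
    rfl
  have toV_inv : ∀ a, toV a⁻¹ = - toV a := fun a => by
    show Multiplicative.toAdd (π a⁻¹) = _
    rw [map_inv]
    rfl
  have toV_pow : ∀ (a : E) (n : ℕ), toV (a ^ n) = n • toV a := fun a n => by
    show Multiplicative.toAdd (π (a ^ n)) = _
    rw [map_pow]
    rfl
  have toV_surj : ∀ v : V, ∃ g, toV g = v := fun v => by
    obtain ⟨g, hg⟩ := hπ (Multiplicative.ofAdd v)
    exact ⟨g, by show Multiplicative.toAdd (π g) = v; rw [hg]; rfl⟩
  have toV_zero : ∀ g, toV g = 0 ↔ g ∈ frattini E := fun g => by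
    rw [← hker, MonoidHom.mem_ker]
    constructor
    · intro h
      exact Multiplicative.toAdd.injective h
    · intro h
      show Multiplicative.toAdd (π g) = 0
      rw [h]
      rfl
  let W : Submodule (ZMod p) V :=
    { carrier := {v | ∃ m ∈ M, toV m = v}
      add_mem' := by
        rintro _ _ ⟨a, ha, rfl⟩ ⟨b, hb, rfl⟩
        exact ⟨a * b, M.mul_mem ha hb, toV_mul a b⟩
      zero_mem' := ⟨1, M.one_mem, (toV_zero 1).2 (one_mem _)⟩
      smul_mem' := by
        rintro c _ ⟨a, ha, rfl⟩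
        refine ⟨a ^ c.val, M.pow_mem ha _, ?_⟩
        rw [toV_pow, ← Nat.cast_smul_eq_nsmul (ZMod p), ZMod.natCast_zmod_val] }
  have hW : ∀ g, toV g ∈ W ↔ g ∈ M := by
    intro g
    constructor
    · rintro ⟨m, hm, he⟩
      have h1 : toV (m⁻¹ * g) = 0 := by
        rw [toV_mul, toV_inv, he]
        abel
      have h2 : m⁻¹ * g ∈ M := hM ((toV_zero _).1 h1)
      have h3 : g = m * (m⁻¹ * g) := by group
      rw [h3]
      exact M.mul_mem hm h2
    · intro hg
      exact ⟨g, hg, rfl⟩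
  have hW0 : W ≠ ⊥ := by
    intro h
    apply hMΦ
    refine le_antisymm (fun m hm => ?_) hM
    have h1 : toV m ∈ W := (hW m).2 hm
    rw [h, Submodule.mem_bot] at h1
    exact (toV_zero m).1 h1
  have hWt : W ≠ ⊤ := by
    intro h
    apply hMt
    refine eq_top_iff.2 fun g _ => (hW g).1 ?_
    rw [h]
    trivial
  let ρ := frattGL (p := p) π hπ hker
  have hρ : ∀ (a : MulAut E) (g : E), ρ a (toV g) = toV (a g) := fun a g =>
    frattGL_apply (p := p) π hπ hker a g
  let A := F.autGroup E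
  let G : Subgroup (V ≃ₗ[ZMod p] V) := A.map ρ
  have hinvW : ∀ a ∈ A, ∀ v ∈ W, ρ a v ∈ W := by
    rintro a ha _ ⟨m, hm, rfl⟩
    rw [hρ]
    exact (hW _).2 (hinv a ha m hm)
  have hGW : ∀ g ∈ G, ∀ v ∈ W, g v ∈ W := by
    rintro _ ⟨a, ha, rfl⟩ v hv
    exact hinvW a ha v hv
  have hrad := (isRadical_of_essential hS hE).2
  have hstar : ∀ g ∈ G, (∀ v ∈ W, g v = v) → (∀ v, g v - v ∈ W) → g = 1 := by
    rintro _ ⟨a, ha, rfl⟩ h1 h2
    have h3 := star_core hEp π hπ hker A W hinvW ha h1 h2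
    have h4 : a ∈ Inn E := by
      rw [← hrad]
      exact ⟨⟨a, ha⟩, h3, rfl⟩
    obtain ⟨y, rfl⟩ := h4
    refine (frattGL_eq_one_iff (p := p) π hπ hker _).2 fun h => ?_
    show π (y * h * y⁻¹) = π h
    rw [map_mul, map_mul, map_inv, mul_comm (π y), mul_inv_cancel_right]
  -- the automorphism induced by `t`
  have htN : t ∈ Subgroup.normalizer (E : Set Ω) := ht.2
  let uA : MulAut E := normConj t htN
  have huS : uA ∈ autInducedBy S E := normConj_mem_autInducedBy ht.1 htN
  have huA : uA ∈ A := autInducedBy_le_autGroup hES huS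
  let x' : E := ⟨x, hx⟩
  -- `hJ` on `V`
  have hJ' : ρ uA (ρ uA (toV x')) - ρ uA (toV x') - (ρ uA (toV x') - toV x') ≠ 0 := by
    intro h0
    apply hJ
    let c' : E := x' * (uA x')⁻¹
    let y' : E := c' * (uA c')⁻¹
    have hy : toV y' = ρ uA (ρ uA (toV x')) - ρ uA (toV x') - (ρ uA (toV x') - toV x') := by
      show toV (c' * (uA c')⁻¹) = _
      rw [toV_mul, toV_inv, ← hρ]
      show _ + - ρ uA (toV (x' * (uA x')⁻¹)) = _
      have e : toV c' = toV x' - ρ uA (toV x') := by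
        show toV (x' * (uA x')⁻¹) = _
        rw [toV_mul, toV_inv, ← hρ, sub_eq_add_neg]
      rw [e, map_sub]
      abel
    rw [h0] at hy
    refine ⟨y', (toV_zero y').1 hy, ?_⟩
    show ((y' : E) : Ω) = _
    show x * (t * x * t⁻¹)⁻¹ * (t * (x * (t * x * t⁻¹)⁻¹) * t⁻¹)⁻¹ = ⁅⁅x, t⁆, t⁆
    simp only [commutatorElement_def]
    group
  have huI : uA ∉ Inn E := by
    rintro ⟨y, hy⟩
    apply hJ'
    have h1 : ρ uA = 1 := by
      refine (frattGL_eq_one_iff (p := p) π hπ hker _).2 fun h => ?_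
      rw [← hy]
      show π (y * h * y⁻¹) = π h
      rw [map_mul, map_mul, map_inv, mul_comm (π y), mul_inv_cancel_right]
    rw [h1]
    show toV x' - toV x' - (toV x' - toV x') = 0
    abel
  obtain ⟨α, hα, hpair⟩ := exists_pair hS hF hE
  have hnpA := hpair uA huS uA huS huI huI
  let vA : MulAut E := α * uA * α⁻¹
  have hvA : vA ∈ A := A.mul_mem (A.mul_mem hα huA) (A.inv_mem hα)
  obtain ⟨k, hk⟩ := isPGroup_autInducedBy hS E ⟨uA, huS⟩
  have hk' : uA ^ p ^ k = 1 := congrArg Subtype.val hk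
  have hvk : vA ^ p ^ k = 1 := by
    show (α * uA * α⁻¹) ^ p ^ k = 1
    rw [conj_pow, hk']
    group
  have hnp : ¬ IsPGroup p (Subgroup.closure ({ρ uA, ρ vA} : Set (V ≃ₗ[ZMod p] V))) := by
    intro hP
    apply hnpA
    have hmap : (Subgroup.closure ({uA, vA} : Set (MulAut E))).map ρ =
        Subgroup.closure ({ρ uA, ρ vA} : Set (V ≃ₗ[ZMod p] V)) := by
      rw [MonoidHom.map_closure, Set.image_pair]
    rintro ⟨a, ha⟩
    have hmem : ρ a ∈ Subgroup.closure ({ρ uA, ρ vA} : Set (V ≃ₗ[ZMod p] V)) := by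
      rw [← hmap]
      exact ⟨a, ha, rfl⟩
    obtain ⟨n, hn⟩ := hP ⟨ρ a, hmem⟩
    have h1 : (ρ a) ^ p ^ n = 1 := congrArg Subtype.val hn
    have h2 : ρ (a ^ p ^ n) = 1 := by rw [map_pow, h1]
    obtain ⟨m, hm⟩ := isPGroup_ker_frattGL hEp π hπ hker ⟨a ^ p ^ n, h2⟩
    have h3 : (a ^ p ^ n) ^ p ^ m = 1 := congrArg Subtype.val hm
    refine ⟨n + m, Subtype.ext ?_⟩
    show a ^ p ^ (n + m) = 1
    rw [pow_add, pow_mul]
    exact h3
  have hfin := linear_core (p := p) hp2 hV W hW0 hWt G hGW hstar (u := ρ uA) (v := ρ vA)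
    ⟨uA, huA, rfl⟩ ⟨vA, hvA, rfl⟩ ⟨k, by rw [← map_pow, hk', map_one]⟩
    ⟨k, by rw [← map_pow, hvk, map_one]⟩ hnp (toV x')
  exact hJ' hfin

end Main

end Cfsg.Agent.Lib.S5180
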