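import Mathlib
import Cfsg.Agent.Lib.S5180.Defs
import Cfsg.Agent.Lib.S5180.Basic
import Cfsg.Agent.Lib.PGroup.Basic

set_option autoImplicit false

/-! S5180 piece JE: the layer `Φ/Φ₂` in the regular unipotent case. -/
open scoped commutatorElement

namespace Cfsg.Agent.Lib.S5180
namespace JEAux

universe u

variable {T : Type u} [Group T]

/-- bezout in a subgroup -/
theorem mem_of_pow_of_pow {p : ℕ} (hp : p.Prime) (A : Subgroup T) {z : T} (hzp : z ^ p ∈ A) {i : ℕ}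
    (hi : z ^ i ∈ A) (hpi : ¬ p ∣ i) : z ∈ A := by
  have hcop : Nat.Coprime i p := ((Nat.Prime.coprime_iff_not_dvd hp).2 hpi).symm
  obtain ⟨m, -, hm⟩ := Nat.exists_mul_mod_eq_one_of_coprime hcop hp.one_lt
  have h1 : i * m = p * (i * m / p) + 1 := by
    conv_lhs => rw [← Nat.div_add_mod (i * m) p, hm]
  have h2 : z ^ (i * m) = (z ^ p) ^ (i * m / p) * z := by
    rw [h1, pow_add, pow_mul, pow_one]
    congr 2
    rw [← h1]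
  have h3 : z = ((z ^ p) ^ (i * m / p))⁻¹ * z ^ (i * m) := by
    rw [h2]; group
  rw [h3]
  exact A.mul_mem (A.inv_mem (A.pow_mem hzp _)) (by rw [pow_mul]; exact A.pow_mem hi m)

/-- index lemma: `A ≤ D ≤ B` with `[B:A] = p` gives `D ≤ A` or `B ≤ D`. -/
theorem le_or_le_of_relIndex_prime {p : ℕ} (hp : p.Prime) {A D B : Subgroup T} (hAD : A ≤ D) (hDB : D ≤ B)
    (hi : A.relIndex B = p) : D ≤ A ∨ B ≤ D := by
  have h := Subgroup.relIndex_mul_relIndex A D B hAD hDB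
  rw [hi] at h
  have hd : A.relIndex D ∣ p := ⟨_, h.symm⟩
  rcases (Nat.dvd_prime hp).1 hd with h1 | h1
  · left
    exact Subgroup.relIndex_eq_one.1 h1
  · right
    rw [h1] at h
    have : D.relIndex B = 1 := by
      have hp0 : p ≠ 0 := hp.ne_zero
      exact Nat.eq_of_mul_eq_mul_left (Nat.pos_of_ne_zero hp0) (by rw [h, mul_one])
    exact Subgroup.relIndex_eq_one.1 this

/-- The core hypotheses. -/
structure Setup (p : ℕ) (E Φ N Ψ : Subgroup T) (x t : T) : Prop where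
  hEn : E.Normal
  hΦn : Φ.Normal
  hNn : N.Normal
  hΨn : Ψ.Normal
  hNΨ : N ≤ Ψ
  hΨΦ : Ψ ≤ Φ
  hΦE : Φ ≤ E
  comm : ∀ u ∈ E, ∀ v ∈ E, ⁅u, v⁆ ∈ Φ
  pow : ∀ u ∈ E, u ^ p ∈ Φ
  comm2 : ∀ u ∈ Φ, ∀ v ∈ E, ⁅u, v⁆ ∈ N
  pow2 : ∀ u ∈ Φ, u ^ p ∈ N
  idx : Φ.relIndex E = p ^ 3
  hT : IsPGroup p T
  hx : x ∈ E
  hJ : ⁅⁅x, t⁆, t⁆ ∉ Φ
  h1 : ⁅⁅x, t⁆, x⁆ ∉ Ψ
  h2 : x ^ p ∈ Ψ

variable {p : ℕ} {E Φ N Ψ : Subgroup T} {x t : T}

theorem comm_t_mem (hEn : E.Normal) {v : T} (hv : v ∈ E) (t : T) : ⁅v, t⁆ ∈ E := by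
  rw [commutatorElement_def]
  have : v * t * v⁻¹ * t⁻¹ = v * (t * v⁻¹ * t⁻¹) := by group
  rw [this]
  exact E.mul_mem hv (hEn.conj_mem _ (E.inv_mem hv) t)

/-- `{v ∈ E : [v,t] ∈ B}` -/
def up (hEn : E.Normal) (hcomm : ∀ u ∈ E, ∀ v ∈ E, ⁅u, v⁆ ∈ Φ) (B : Subgroup T) (hB : Φ ≤ B) (t : T) :
    Subgroup T where
  carrier := {v | v ∈ E ∧ ⁅v, t⁆ ∈ B}
  one_mem' := ⟨E.one_mem, by simp [B.one_mem]⟩
  mul_mem' := by
    rintro u v ⟨hu, hu'⟩ ⟨hv, hv'⟩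
    refine ⟨E.mul_mem hu hv, ?_⟩
    have h1 : ⁅u * v, t⁆ = ⁅u, ⁅v, t⁆⁆ * ⁅v, t⁆ * ⁅u, t⁆ := by
      simp only [commutatorElement_def]; group
    rw [h1]
    exact B.mul_mem (B.mul_mem (hB (hcomm u hu _ (comm_t_mem hEn hv t))) hv') hu'
  inv_mem' := by
    rintro u ⟨hu, hu'⟩
    refine ⟨E.inv_mem hu, ?_⟩
    have h1 : ⁅u⁻¹, t⁆ = ⁅u⁻¹, ⁅u, t⁆⁻¹⁆ * ⁅u, t⁆⁻¹ := by
      simp only [commutatorElement_def]; group
    rw [h1]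
    exact B.mul_mem (hB (hcomm _ (E.inv_mem hu) _ (E.inv_mem (comm_t_mem hEn hu t)))) (B.inv_mem hu')

theorem mem_up {hEn : E.Normal} {hcomm : ∀ u ∈ E, ∀ v ∈ E, ⁅u, v⁆ ∈ Φ} {B : Subgroup T} {hB : Φ ≤ B}
    {t v : T} : v ∈ up hEn hcomm B hB t ↔ v ∈ E ∧ ⁅v, t⁆ ∈ B := Iff.rfl

/-- Lemma L : nontrivial fixed points. -/
theorem exists_fix [Finite T] (hT : IsPGroup p T) [Fact p.Prime] (hEn : E.Normal) (B : Subgroup T) (t : T)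
    {v₀ : T} (hv₀ : v₀ ∈ E) (hv₀B : v₀ ∉ B) :
    ∃ v ∈ E, v ∉ B ∧ ⁅v, t⁆ ∈ B := by
  classical
  haveI : Group.IsNilpotent T := hT.isNilpotent
  obtain ⟨n, hn⟩ := (Subgroup.nilpotent_iff_lowerCentralSeries).1 (inferInstance : Group.IsNilpotent T)
  let y : ℕ → T := fun k => Nat.rec v₀ (fun _ w => ⁅w, t⁆) k
  have hy0 : y 0 = v₀ := rfl
  have hys : ∀ k, y (k + 1) = ⁅y k, t⁆ := fun _ => rfl
  have hyE : ∀ k, y k ∈ E := by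
    intro k
    induction k with
    | zero => exact hv₀
    | succ k ih => rw [hys]; exact comm_t_mem hEn ih t
  have hylcs : ∀ k, y k ∈ (⊤ : Subgroup T).lowerCentralSeries k := by
    intro k
    induction k with
    | zero => exact Subgroup.mem_top _
    | succ k ih =>
      rw [hys]
      exact Subgroup.commutator_mem_commutator ih (Subgroup.mem_top t)
  have hex : ∃ k, y k ∈ B := ⟨n, by
    have := hylcs n
    rw [hn, Subgroup.mem_bot] at this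
    rw [this]; exact B.one_mem⟩
  have hmin := Nat.find_spec hex
  have hne : Nat.find hex ≠ 0 := by
    intro h0
    rw [h0, hy0] at hmin
    exact hv₀B hmin
  obtain ⟨m, hm⟩ := Nat.exists_eq_succ_of_ne_zero hne
  have hnot : y m ∉ B := Nat.find_min hex (by omega)
  refine ⟨y m, hyE m, hnot, ?_⟩
  rw [hm] at hmin
  rw [← hys]
  exact hmin


theorem strict_pow [Finite T] [Fact p.Prime] (hT : IsPGroup p T) {A B : Subgroup T} (hnot : ¬ B ≤ A) :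
    ∃ k, 1 ≤ k ∧ A.relIndex B = p ^ k := by
  have hd : A.relIndex B ∣ Nat.card B := Subgroup.relIndex_dvd_card A B
  obtain ⟨n, hn⟩ := (hT.to_subgroup B).exists_card_eq
  rw [hn] at hd
  obtain ⟨k, -, hk⟩ := (Nat.dvd_prime_pow Fact.out).1 hd
  refine ⟨k, ?_, hk⟩
  by_contra h0
  have : k = 0 := by omega
  rw [this, pow_zero] at hk
  exact hnot (Subgroup.relIndex_eq_one.1 hk)

theorem weak_pow [Finite T] [Fact p.Prime] (hT : IsPGroup p T) (A B : Subgroup T) :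
    ∃ k, A.relIndex B = p ^ k := by
  have hd : A.relIndex B ∣ Nat.card B := Subgroup.relIndex_dvd_card A B
  obtain ⟨n, hn⟩ := (hT.to_subgroup B).exists_card_eq
  rw [hn] at hd
  obtain ⟨k, -, hk⟩ := (Nat.dvd_prime_pow Fact.out).1 hd
  exact ⟨k, hk⟩

theorem chain [Finite T] [Fact p.Prime] (S : Setup p E Φ N Ψ x t) :
    ∃ M₁ M₂ : Subgroup T, Φ ≤ M₁ ∧ M₁ ≤ M₂ ∧ M₂ ≤ E ∧ Φ.relIndex M₁ = p ∧ M₁.relIndex M₂ = p ∧
      M₂.relIndex E = p ∧ (∀ g ∈ E, ⁅g, t⁆ ∈ M₂) ∧ (∀ g ∈ M₂, ⁅g, t⁆ ∈ M₁) ∧ (∀ g ∈ M₁, ⁅g, t⁆ ∈ Φ) ∧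
      x ∉ M₂ ∧ ⁅x, t⁆ ∉ M₁ := by
  have hp : p.Prime := Fact.out
  have hEn := S.hEn
  have hΦn := S.hΦn
  have hΦt : ∀ z ∈ Φ, ⁅z, t⁆ ∈ Φ := fun z hz => comm_t_mem hΦn hz t
  let M₁ := up hEn S.comm Φ le_rfl t
  have hΦM₁ : Φ ≤ M₁ := fun z hz => ⟨S.hΦE hz, hΦt z hz⟩
  let M₂ := up hEn S.comm M₁ hΦM₁ t
  have hM₁M₂ : M₁ ≤ M₂ := fun z hz => ⟨hz.1, hΦM₁ hz.2⟩
  have hΦM₂ : Φ ≤ M₂ := hΦM₁.trans hM₁M₂
  let M₃ := up hEn S.comm M₂ hΦM₂ t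
  have hM₂M₃ : M₂ ≤ M₃ := fun z hz => ⟨hz.1, hM₁M₂ hz.2⟩
  have hM₂E : M₂ ≤ E := fun z hz => hz.1
  have hM₃E : M₃ ≤ E := fun z hz => hz.1
  have hxM₂ : x ∉ M₂ := fun h => S.hJ h.2.2
  have hcM₁ : ⁅x, t⁆ ∉ M₁ := fun h => S.hJ h.2
  have hxΦ : x ∉ Φ := fun h => hxM₂ (hΦM₂ h)
  have hxM₁ : x ∉ M₁ := fun h => hxM₂ (hM₁M₂ h)
  obtain ⟨v₁, hv₁E, hv₁, hv₁'⟩ := exists_fix (p := p) S.hT hEn Φ t S.hx hxΦ
  obtain ⟨v₂, hv₂E, hv₂, hv₂'⟩ := exists_fix (p := p) S.hT hEn M₁ t S.hx hxM₁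
  obtain ⟨v₃, hv₃E, hv₃, hv₃'⟩ := exists_fix (p := p) S.hT hEn M₂ t S.hx hxM₂
  obtain ⟨a, ha1, ha⟩ := strict_pow (p := p) (A := Φ) (B := M₁) S.hT
    (fun h => hv₁ (h ⟨hv₁E, hv₁'⟩))
  obtain ⟨b, hb1, hb⟩ := strict_pow (p := p) (A := M₁) (B := M₂) S.hT
    (fun h => hv₂ (h ⟨hv₂E, hv₂'⟩))
  obtain ⟨c, hc1, hc⟩ := strict_pow (p := p) (A := M₂) (B := M₃) S.hT
    (fun h => hv₃ (h ⟨hv₃E, hv₃'⟩))
  obtain ⟨e, he⟩ := weak_pow (p := p) S.hT M₃ E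
  have h1 := Subgroup.relIndex_mul_relIndex Φ M₁ M₂ hΦM₁ hM₁M₂
  have h2 := Subgroup.relIndex_mul_relIndex Φ M₂ M₃ hΦM₂ hM₂M₃
  have h3 := Subgroup.relIndex_mul_relIndex Φ M₃ E (hΦM₂.trans hM₂M₃) hM₃E
  rw [S.idx, ← h2, ← h1, ha, hb, hc, he, ← pow_add, ← pow_add, ← pow_add] at h3
  have h4 := Nat.pow_right_injective hp.two_le h3
  have ha' : a = 1 := by omega
  have hb' : b = 1 := by omega
  have hc' : c = 1 := by omega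
  have he' : e = 0 := by omega
  have hEM₃ : E ≤ M₃ := by
    apply Subgroup.relIndex_eq_one.1
    rw [he, he', pow_zero]
  have h5 := Subgroup.relIndex_mul_relIndex M₂ M₃ E hM₂M₃ hM₃E
  rw [hc, he, hc', he', pow_one, pow_zero, mul_one] at h5
  refine ⟨M₁, M₂, hΦM₁, hM₁M₂, hM₂E, ?_, ?_, h5.symm, fun g hg => (hEM₃ hg).2, fun g hg => hg.2,
    fun g hg => hg.2, hxM₂, hcM₁⟩
  · rw [ha, ha', pow_one]
  · rw [hb, hb', pow_one]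

theorem pow_mul_key [Fact p.Prime] (hp2 : p ≠ 2) (S : Setup p E Φ N Ψ x t)
    {u v : T} (hu : u ∈ E) (hv : v ∈ E) : ((u * v) ^ p : T) * (u ^ p * v ^ p)⁻¹ ∈ N := by
  have hp : p.Prime := Fact.out
  haveI := S.hNn
  have hcv : ⁅v, u⁆ ∈ Φ := S.comm v hv u hu
  have key : ((u * v) ^ p : T) * (u ^ p * v ^ p)⁻¹ ∈ N := by
    rw [← QuotientGroup.eq_one_iff]
    have hb : ∀ a b : T, ⁅a, b⁆ ∈ N → Commute (a : T ⧸ N) (b : T ⧸ N) := by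
      intro a b h
      rw [← commutatorElement_eq_one_iff_commute]
      have := (map_commutatorElement (QuotientGroup.mk' N) a b)
      simp only [QuotientGroup.mk'_apply] at this
      rw [← this, QuotientGroup.eq_one_iff]
      exact h
    have hc1 : ∀ a b : T, a ∈ Φ → b ∈ E → Commute (a : T ⧸ N) (b : T ⧸ N) := fun a b ha hb' =>
      hb a b (S.comm2 a ha b hb')
    have hcomm : ((⁅v, u⁆ : T) : T ⧸ N) = ⁅(v : T ⧸ N), (u : T ⧸ N)⁆ := by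
      have := (map_commutatorElement (QuotientGroup.mk' N) v u)
      simpa only [QuotientGroup.mk'_apply] using this
    have hxc : Commute (u : T ⧸ N) ⁅(v : T ⧸ N), (u : T ⧸ N)⁆ := by
      rw [← hcomm]; exact (hc1 _ _ hcv hu).symm
    have hyc : Commute (v : T ⧸ N) ⁅(v : T ⧸ N), (u : T ⧸ N)⁆ := by
      rw [← hcomm]; exact (hc1 _ _ hcv hv).symm
    have hf := Cfsg.Agent.Lib.PGroup.Basic.mul_pow_of_commutator_central hxc hyc p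
    have hdvd : p ∣ p.choose 2 := hp.dvd_choose_self (by norm_num) (lt_of_le_of_ne hp.two_le (Ne.symm hp2))
    obtain ⟨k, hk⟩ := hdvd
    have h1 : (⁅(v : T ⧸ N), (u : T ⧸ N)⁆) ^ p = 1 := by
      rw [← hcomm, ← QuotientGroup.mk_pow, QuotientGroup.eq_one_iff]
      exact S.pow2 _ hcv
    rw [hk, pow_mul, h1, one_pow, mul_one] at hf
    simp only [QuotientGroup.mk_mul, QuotientGroup.mk_pow, QuotientGroup.mk_inv]
    rw [hf]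
    group
  exact key

theorem pow_mul_mem [Fact p.Prime] (hp2 : p ≠ 2) (S : Setup p E Φ N Ψ x t) {A : Subgroup T} (hNA : N ≤ A)
    {u v : T} (hu : u ∈ E) (hv : v ∈ E) (hu' : u ^ p ∈ A) (hv' : v ^ p ∈ A) : (u * v) ^ p ∈ A := by
  have h2 : (u * v) ^ p = ((u * v) ^ p * (u ^ p * v ^ p)⁻¹) * (u ^ p * v ^ p) := by group
  rw [h2]
  exact A.mul_mem (hNA (pow_mul_key hp2 S hu hv)) (A.mul_mem hu' hv')


/-- independence of `x, c, d` -/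
theorem indep_of_chain [Fact p.Prime] (S : Setup p E Φ N Ψ x t) {M₁ M₂ : Subgroup T} (h1 : Φ ≤ M₁) (h2 : M₁ ≤ M₂)
    (hE : ∀ g ∈ E, ⁅g, t⁆ ∈ M₂) (hM₂ : ∀ g ∈ M₂, ⁅g, t⁆ ∈ M₁) (hxM : x ∉ M₂) (hcM : ⁅x, t⁆ ∉ M₁) (i j k : ℕ)
    (h : x ^ i * ⁅x, t⁆ ^ j * ⁅⁅x, t⁆, t⁆ ^ k ∈ Φ) : p ∣ i ∧ p ∣ j ∧ p ∣ k := by
  have hp : p.Prime := Fact.out
  have hcE : ⁅x, t⁆ ∈ E := comm_t_mem S.hEn S.hx t
  have hdE : ⁅⁅x, t⁆, t⁆ ∈ E := comm_t_mem S.hEn hcE t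
  have hcM₂ : ⁅x, t⁆ ∈ M₂ := hE _ S.hx
  have hdM₁ : ⁅⁅x, t⁆, t⁆ ∈ M₁ := hM₂ _ hcM₂
  have hi : p ∣ i := by
    by_contra hni
    apply hxM
    refine mem_of_pow_of_pow hp M₂ (h2 (h1 (S.pow x S.hx))) (i := i) ?_ hni
    have : x ^ i = (x ^ i * ⁅x, t⁆ ^ j * ⁅⁅x, t⁆, t⁆ ^ k) * ((⁅⁅x, t⁆, t⁆ ^ k)⁻¹ * (⁅x, t⁆ ^ j)⁻¹) := by group
    rw [this]
    exact M₂.mul_mem (h2 (h1 h)) (M₂.mul_mem (M₂.inv_mem (M₂.pow_mem (h2 hdM₁) k)) (M₂.inv_mem (M₂.pow_mem hcM₂ j)))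
  obtain ⟨i', rfl⟩ := hi
  have hxi : x ^ (p * i') ∈ Φ := by rw [pow_mul]; exact Φ.pow_mem (S.pow x S.hx) i'
  have h' : ⁅x, t⁆ ^ j * ⁅⁅x, t⁆, t⁆ ^ k ∈ Φ := by
    have : ⁅x, t⁆ ^ j * ⁅⁅x, t⁆, t⁆ ^ k = (x ^ (p * i'))⁻¹ * (x ^ (p * i') * ⁅x, t⁆ ^ j * ⁅⁅x, t⁆, t⁆ ^ k) := by group
    rw [this]; exact Φ.mul_mem (Φ.inv_mem hxi) h
  have hj : p ∣ j := by
    by_contra hnj
    apply hcM
    refine mem_of_pow_of_pow hp M₁ (h1 (S.pow _ hcE)) (i := j) ?_ hnj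
    have : ⁅x, t⁆ ^ j = (⁅x, t⁆ ^ j * ⁅⁅x, t⁆, t⁆ ^ k) * (⁅⁅x, t⁆, t⁆ ^ k)⁻¹ := by group
    rw [this]
    exact M₁.mul_mem (h1 h') (M₁.inv_mem (M₁.pow_mem hdM₁ k))
  obtain ⟨j', rfl⟩ := hj
  have hcj : ⁅x, t⁆ ^ (p * j') ∈ Φ := by rw [pow_mul]; exact Φ.pow_mem (S.pow _ hcE) j'
  have h'' : ⁅⁅x, t⁆, t⁆ ^ k ∈ Φ := by
    have : ⁅⁅x, t⁆, t⁆ ^ k = (⁅x, t⁆ ^ (p * j'))⁻¹ * (⁅x, t⁆ ^ (p * j') * ⁅⁅x, t⁆, t⁆ ^ k) := by group
    rw [this]; exact Φ.mul_mem (Φ.inv_mem hcj) h'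
  refine ⟨dvd_mul_right _ _, dvd_mul_right _ _, ?_⟩
  by_contra hnk
  exact S.hJ (mem_of_pow_of_pow hp Φ (S.pow _ hdE) h'' hnk)

theorem gen_of_chain [Fact p.Prime] (S : Setup p E Φ N Ψ x t) {M₁ M₂ : Subgroup T} (h1 : Φ ≤ M₁) (h2 : M₁ ≤ M₂)
    (h3 : M₂ ≤ E) (i1 : Φ.relIndex M₁ = p) (i2 : M₁.relIndex M₂ = p) (i3 : M₂.relIndex E = p)
    (hE : ∀ g ∈ E, ⁅g, t⁆ ∈ M₂) (hM₂ : ∀ g ∈ M₂, ⁅g, t⁆ ∈ M₁) (hxM : x ∉ M₂) (hcM : ⁅x, t⁆ ∉ M₁)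
    (C : Subgroup T) (hC : Φ ≤ C) (hx : x ∈ C) (hc : ⁅x, t⁆ ∈ C) (hd : ⁅⁅x, t⁆, t⁆ ∈ C) : E ≤ C := by
  have hp : p.Prime := Fact.out
  have hcM₂ : ⁅x, t⁆ ∈ M₂ := hE _ S.hx
  have hdM₁ : ⁅⁅x, t⁆, t⁆ ∈ M₁ := hM₂ _ hcM₂
  have a1 : M₁ ≤ C := by
    rcases le_or_le_of_relIndex_prime hp (A := Φ) (D := C ⊓ M₁) (B := M₁) (le_inf hC h1) inf_le_right i1 with h | h
    · exact absurd (h ⟨hd, hdM₁⟩) S.hJ
    · exact h.trans inf_le_left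
  have a2 : M₂ ≤ C := by
    rcases le_or_le_of_relIndex_prime hp (A := M₁) (D := C ⊓ M₂) (B := M₂) (le_inf a1 h2) inf_le_right i2 with h | h
    · exact absurd (h ⟨hc, hcM₂⟩) hcM
    · exact h.trans inf_le_left
  rcases le_or_le_of_relIndex_prime hp (A := M₂) (D := C ⊓ E) (B := E) (le_inf a2 h3) inf_le_right i3 with h | h
  · exact absurd (h ⟨hx, S.hx⟩) hxM
  · exact h.trans inf_le_left

/-- Case `K = Φ`. -/
theorem caseK_phi [Finite T] [Fact p.Prime] (hp2 : p ≠ 2) (S : Setup p E Φ N Ψ x t)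
    (hK : ∀ v ∈ E, v ^ p ∈ N → v ∈ Φ)
    (hind : ∀ i j k : ℕ, x ^ i * ⁅x, t⁆ ^ j * ⁅⁅x, t⁆, t⁆ ^ k ∈ Φ → p ∣ i ∧ p ∣ j ∧ p ∣ k) :
    ¬ SectionalPRankLE p 3 T := by
  have hp : p.Prime := Fact.out
  haveI := S.hNn
  haveI := S.hΨn
  have hcE : ⁅x, t⁆ ∈ E := comm_t_mem S.hEn S.hx t
  have hdE : ⁅⁅x, t⁆, t⁆ ∈ E := comm_t_mem S.hEn hcE t
  have hNΦ : N ≤ Φ := S.hNΨ.trans S.hΨΦ
  have hstep : ∀ v ∈ E, v ^ p ∈ Ψ → ⁅v, t⁆ ^ p ∈ Ψ := by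
    intro v hv hvp
    have h1 : ⁅v, t⁆ = v * (t * v⁻¹ * t⁻¹) := by rw [commutatorElement_def]; group
    rw [h1]
    refine pow_mul_mem hp2 S S.hNΨ hv (S.hEn.conj_mem _ (E.inv_mem hv) t) hvp ?_
    rw [conj_pow, inv_pow]
    exact S.hΨn.conj_mem _ (Ψ.inv_mem hvp) t
  have hcp : ⁅x, t⁆ ^ p ∈ Ψ := hstep x S.hx S.h2
  have hdp : ⁅⁅x, t⁆, t⁆ ^ p ∈ Ψ := hstep _ hcE hcp
  have hq : ⁅⁅x, t⁆, x⁆ ∈ Φ := S.comm _ hcE _ S.hx
  have hall : ∀ u ∈ ({x ^ p, ⁅x, t⁆ ^ p, ⁅⁅x, t⁆, t⁆ ^ p, ⁅⁅x, t⁆, x⁆} : Set T), u ∈ Φ := by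
    intro u hu
    simp only [Set.mem_insert_iff, Set.mem_singleton_iff] at hu
    rcases hu with rfl | rfl | rfl | rfl
    · exact S.pow _ S.hx
    · exact S.pow _ hcE
    · exact S.pow _ hdE
    · exact hq
  refine not_sectional_four (p := p) E N (hNΦ.trans S.hΦE) (fun h _ n hn => S.hNn.conj_mem n hn h)
    (S.hΦE (S.pow _ S.hx)) (S.hΦE (S.pow _ hcE)) (S.hΦE (S.pow _ hdE)) (S.hΦE hq)
    (fun u hu v hv => S.comm2 u (hall u hu) v (S.hΦE (hall v hv)))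
    (fun u hu => S.pow2 u (hall u hu)) ?_
  intro i j k m h
  -- first the last exponent
  have hmem : (x ^ p) ^ i * (⁅x, t⁆ ^ p) ^ j * (⁅⁅x, t⁆, t⁆ ^ p) ^ k ∈ Ψ :=
    Ψ.mul_mem (Ψ.mul_mem (Ψ.pow_mem S.h2 i) (Ψ.pow_mem hcp j)) (Ψ.pow_mem hdp k)
  have hm : p ∣ m := by
    by_contra hnm
    apply S.h1
    refine mem_of_pow_of_pow hp Ψ (S.hNΨ (S.pow2 _ hq)) (i := m) ?_ hnm
    have : ⁅⁅x, t⁆, x⁆ ^ m = ((x ^ p) ^ i * (⁅x, t⁆ ^ p) ^ j * (⁅⁅x, t⁆, t⁆ ^ p) ^ k)⁻¹ *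
        ((x ^ p) ^ i * (⁅x, t⁆ ^ p) ^ j * (⁅⁅x, t⁆, t⁆ ^ p) ^ k * ⁅⁅x, t⁆, x⁆ ^ m) := by group
    rw [this]
    exact Ψ.mul_mem (Ψ.inv_mem hmem) (S.hNΨ h)
  obtain ⟨m', rfl⟩ := hm
  have hqm : ⁅⁅x, t⁆, x⁆ ^ (p * m') ∈ N := by rw [pow_mul]; exact N.pow_mem (S.pow2 _ hq) m'
  have h3 : (x ^ p) ^ i * (⁅x, t⁆ ^ p) ^ j * (⁅⁅x, t⁆, t⁆ ^ p) ^ k ∈ N := by
    have : (x ^ p) ^ i * (⁅x, t⁆ ^ p) ^ j * (⁅⁅x, t⁆, t⁆ ^ p) ^ k =
        ((x ^ p) ^ i * (⁅x, t⁆ ^ p) ^ j * (⁅⁅x, t⁆, t⁆ ^ p) ^ k * ⁅⁅x, t⁆, x⁆ ^ (p * m')) *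
          (⁅⁅x, t⁆, x⁆ ^ (p * m'))⁻¹ := by group
    rw [this]; exact N.mul_mem h (N.inv_mem hqm)
  -- `(x^i c^j d^k)^p ∈ N`
  have hpw : ∀ (A : Subgroup T) (y : T) (n : ℕ), (y ^ n) ^ p = (y ^ p) ^ n := fun _ y n => by
    rw [← pow_mul, ← pow_mul, mul_comm]
  have h4 : (x ^ i * ⁅x, t⁆ ^ j * ⁅⁅x, t⁆, t⁆ ^ k) ^ p ∈ N := by
    -- use the quotient formula `(uv)^p ≡ u^p v^p`
    have hA : ∀ (u v : T), u ∈ E → v ∈ E → (u * v) ^ p * (u ^ p * v ^ p)⁻¹ ∈ N := by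
      intro u v hu hv
      exact pow_mul_key hp2 S hu hv
    have hiE : x ^ i ∈ E := E.pow_mem S.hx i
    have hjE : ⁅x, t⁆ ^ j ∈ E := E.pow_mem hcE j
    have hkE : ⁅⁅x, t⁆, t⁆ ^ k ∈ E := E.pow_mem hdE k
    have h5 := hA _ _ (E.mul_mem hiE hjE) hkE
    have h6 := hA _ _ hiE hjE
    have h7 : (x ^ i * ⁅x, t⁆ ^ j * ⁅⁅x, t⁆, t⁆ ^ k) ^ p =
        ((x ^ i * ⁅x, t⁆ ^ j * ⁅⁅x, t⁆, t⁆ ^ k) ^ p * ((x ^ i * ⁅x, t⁆ ^ j) ^ p * (⁅⁅x, t⁆, t⁆ ^ k) ^ p)⁻¹) *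
        ((x ^ i * ⁅x, t⁆ ^ j) ^ p * ((x ^ i) ^ p * (⁅x, t⁆ ^ j) ^ p)⁻¹) *
        ((x ^ i) ^ p * (⁅x, t⁆ ^ j) ^ p * (⁅⁅x, t⁆, t⁆ ^ k) ^ p) := by group
    rw [h7, hpw N x i, hpw N ⁅x, t⁆ j, hpw N ⁅⁅x, t⁆, t⁆ k]
    rw [hpw N ⁅⁅x, t⁆, t⁆ k] at h5
    rw [hpw N x i, hpw N ⁅x, t⁆ j] at h6
    exact N.mul_mem (N.mul_mem h5 h6) h3
  have h8 := hK _ (E.mul_mem (E.mul_mem (E.pow_mem S.hx i) (E.pow_mem hcE j)) (E.pow_mem hdE k)) h4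
  obtain ⟨a, b, c⟩ := hind i j k h8
  exact ⟨a, b, c, dvd_mul_right _ _⟩


/-! ### bilinear algebra -/

section AL
variable {E' W Z : Type*} [Group E'] [CommGroup W] [CommGroup Z]

theorem b_pow_left (b : E' → E' → Z) (hL : ∀ g g' h, b (g * g') h = b g h * b g' h)
    (hG : ∀ g, b g g = 1) (g h : E') (n : ℕ) : b (g ^ n) h = (b g h) ^ n := by
  have h1 : b 1 h = 1 := by
    have := hL 1 1 h
    rw [mul_one] at this
    exact mul_left_cancel (a := b 1 h) (by rw [← this, mul_one])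
  induction n with
  | zero => simpa using h1
  | succ n ih => rw [pow_succ, hL, ih, pow_succ]

theorem AL1 {p : ℕ} (hp : p.Prime) (π : E' →* W) (b : E' → E' → Z)
    (hL : ∀ g g' h, b (g * g') h = b g h * b g' h) (hA : ∀ g h, b g h = (b h g)⁻¹) (hG : ∀ g, b g g = 1)
    (hZ : ∀ z : Z, z ^ p = 1) (e₁ e₂ e₃ : E')
    (hind : ∀ i j k : ℕ, π e₁ ^ i * π e₂ ^ j * π e₃ ^ k = 1 → p ∣ i ∧ p ∣ j ∧ p ∣ k)
    {a b' e : ℕ} (hrel : (b e₂ e₃) ^ a * (b e₃ e₁) ^ b' * (b e₁ e₂) ^ e = 1) (ha : ¬ p ∣ a) :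
    ∃ s r : ℕ, b (e₂ * e₁ ^ s) (e₃ * e₁ ^ r) = 1 ∧
      ∀ i j : ℕ, π (e₂ * e₁ ^ s) ^ i * π (e₃ * e₁ ^ r) ^ j = 1 → p ∣ i ∧ p ∣ j := by
  have hcop : Nat.Coprime a p := ((Nat.Prime.coprime_iff_not_dvd hp).2 ha).symm
  obtain ⟨a', -, ha'⟩ := Nat.exists_mul_mod_eq_one_of_coprime hcop hp.one_lt
  set q₁ := b e₂ e₃ with hq₁
  set q₂ := b e₃ e₁ with hq₂
  set q₃ := b e₁ e₂ with hq₃
  have hq : ∀ z : Z, z ^ (a * a') = z := by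
    intro z
    conv_lhs => rw [← Nat.div_add_mod (a * a') p, ha', pow_add, pow_mul, hZ, one_pow, one_mul, pow_one]
  have hinv : ∀ (z : Z) (n : ℕ), (z ^ ((p - 1) * n))⁻¹ = z ^ n := by
    intro z n
    rw [inv_eq_iff_mul_eq_one, ← pow_add]
    have : (p - 1) * n + n = p * n := by
      have h1 := hp.one_lt
      obtain ⟨p', rfl⟩ : ∃ p', p = p' + 1 := ⟨p - 1, by omega⟩
      simp; ring
    rw [this, pow_mul, hZ, one_pow]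
  refine ⟨(p - 1) * (a' * b'), (p - 1) * (a' * e), ?_, ?_⟩
  · set s := (p - 1) * (a' * b') with hs
    set r := (p - 1) * (a' * e) with hr
    have h1 : b e₂ (e₃ * e₁ ^ r) = q₁ * (q₃ ^ r)⁻¹ := by
      rw [hA, hL, b_pow_left b hL hG, hA e₃ e₂, ← hq₁, ← hq₃]
      simp [mul_comm]
    have h2 : b e₁ (e₃ * e₁ ^ r) = q₂⁻¹ := by
      rw [hA, hL, b_pow_left b hL hG, hG, one_pow, mul_one]
    have h3 : b (e₁ ^ s) (e₃ * e₁ ^ r) = (q₂ ^ s)⁻¹ := by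
      rw [b_pow_left b hL hG, h2, inv_pow]
    rw [hL, h1, h3, hr, hs, hinv, hinv]
    have h4 := congrArg (· ^ a') hrel
    simp only [one_pow, mul_pow, ← pow_mul] at h4
    calc q₁ * q₃ ^ (a' * e) * q₂ ^ (a' * b')
        = q₁ ^ (a * a') * q₂ ^ (b' * a') * q₃ ^ (e * a') := by
          rw [hq q₁, mul_comm a' e, mul_comm a' b']
          simp only [mul_assoc, mul_comm, mul_left_comm]
      _ = 1 := h4
  · intro i j h
    have h5 : π e₁ ^ ((p - 1) * (a' * b') * i + (p - 1) * (a' * e) * j) * π e₂ ^ i * π e₃ ^ j = 1 := by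
      rw [← h]
      simp only [map_mul, map_pow, mul_pow, ← pow_mul, pow_add]
      simp only [mul_assoc, mul_comm, mul_left_comm]
    obtain ⟨-, hi, hj⟩ := hind _ _ _ h5
    exact ⟨hi, hj⟩

end AL

/-- Stage 2 of the case `K = E`. -/
theorem stage2 [Finite T] [Fact p.Prime] (S : Setup p E Φ N Ψ x t) (hKE : ∀ v ∈ E, v ^ p ∈ N)
    (hR : ∀ v ∈ E, (∀ g ∈ E, ⁅v, g⁆ ∈ N) → v ∈ Φ) {e₁ e₂ e₃ : T} (he₁ : e₁ ∈ E) (he₂ : e₂ ∈ E) (he₃ : e₃ ∈ E)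
    (hind : ∀ i j k : ℕ, e₁ ^ i * e₂ ^ j * e₃ ^ k ∈ Φ → p ∣ i ∧ p ∣ j ∧ p ∣ k)
    (hgen : ∀ C : Subgroup T, Φ ≤ C → e₁ ∈ C → e₂ ∈ C → e₃ ∈ C → E ≤ C)
    {a b' e : ℕ} (hrel : ⁅e₂, e₃⁆ ^ a * ⁅e₃, e₁⁆ ^ b' * ⁅e₁, e₂⁆ ^ e ∈ N) (ha : ¬ p ∣ a) :
    ¬ SectionalPRankLE p 3 T := by
  classical
  have hp : p.Prime := Fact.out
  haveI := S.hNn
  haveI := S.hΦn
  have hEn := S.hEn
  have hNΦ : N ≤ Φ := S.hNΨ.trans S.hΨΦ
  -- the commutative targets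
  letI cW : CommGroup (↥E ⧸ Φ.subgroupOf E) :=
    { (inferInstance : Group (↥E ⧸ Φ.subgroupOf E)) with
      mul_comm := by
        intro a b
        induction a using QuotientGroup.induction_on with
        | H a =>
          induction b using QuotientGroup.induction_on with
          | H b =>
            rw [← QuotientGroup.mk_mul, ← QuotientGroup.mk_mul, QuotientGroup.eq]
            rw [Subgroup.mem_subgroupOf]
            have : (((a * b)⁻¹ * (b * a) : ↥E) : T) = ⁅(b : T)⁻¹, (a : T)⁻¹⁆ := by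
              simp only [commutatorElement_def, Subgroup.coe_mul, Subgroup.coe_inv]; group
            rw [this]
            exact S.comm _ (E.inv_mem b.2) _ (E.inv_mem a.2) }
  letI cZ : CommGroup (↥Φ ⧸ N.subgroupOf Φ) :=
    { (inferInstance : Group (↥Φ ⧸ N.subgroupOf Φ)) with
      mul_comm := by
        intro a b
        induction a using QuotientGroup.induction_on with
        | H a =>
          induction b using QuotientGroup.induction_on with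
          | H b =>
            rw [← QuotientGroup.mk_mul, ← QuotientGroup.mk_mul, QuotientGroup.eq]
            rw [Subgroup.mem_subgroupOf]
            have : (((a * b)⁻¹ * (b * a) : ↥Φ) : T) = ⁅(b : T)⁻¹, (a : T)⁻¹⁆ := by
              simp only [commutatorElement_def, Subgroup.coe_mul, Subgroup.coe_inv]; group
            rw [this]
            exact S.comm2 _ (Φ.inv_mem b.2) _ (S.hΦE (Φ.inv_mem a.2)) }
  let mkZ : (z : T) → z ∈ Φ → (↥Φ ⧸ N.subgroupOf Φ) := fun z hz => ((⟨z, hz⟩ : ↥Φ) : ↥Φ ⧸ N.subgroupOf Φ)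
  have hmkZ1 : ∀ z hz, mkZ z hz = 1 ↔ z ∈ N := by
    intro z hz
    show ((⟨z, hz⟩ : ↥Φ) : ↥Φ ⧸ N.subgroupOf Φ) = 1 ↔ _
    rw [QuotientGroup.eq_one_iff, Subgroup.mem_subgroupOf]
  let b : ↥E → ↥E → (↥Φ ⧸ N.subgroupOf Φ) := fun g h => mkZ ⁅(g : T), (h : T)⁆ (S.comm _ g.2 _ h.2)
  have hbmem : ∀ g h : ↥E, b g h = 1 ↔ ⁅(g : T), (h : T)⁆ ∈ N := fun g h => hmkZ1 _ _
  have hbpow : ∀ (g h g' h' : ↥E) (i j : ℕ), (b g h) ^ i * (b g' h') ^ j = 1 ↔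
      ⁅(g : T), (h : T)⁆ ^ i * ⁅(g' : T), (h' : T)⁆ ^ j ∈ N := by
    intro g h g' h' i j
    show (((⟨⁅(g : T), (h : T)⁆, S.comm _ g.2 _ h.2⟩ : ↥Φ) : ↥Φ ⧸ N.subgroupOf Φ)) ^ i *
      ((⟨⁅(g' : T), (h' : T)⁆, S.comm _ g'.2 _ h'.2⟩ : ↥Φ) : ↥Φ ⧸ N.subgroupOf Φ) ^ j = 1 ↔ _
    rw [← QuotientGroup.mk_pow, ← QuotientGroup.mk_pow, ← QuotientGroup.mk_mul,
      QuotientGroup.eq_one_iff, Subgroup.mem_subgroupOf]
    rfl
  have hbpow3 : ∀ (g h g' h' g'' h'' : ↥E) (i j k : ℕ), (b g h) ^ i * (b g' h') ^ j * (b g'' h'') ^ k = 1 ↔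
      ⁅(g : T), (h : T)⁆ ^ i * ⁅(g' : T), (h' : T)⁆ ^ j * ⁅(g'' : T), (h'' : T)⁆ ^ k ∈ N := by
    intro g h g' h' g'' h'' i j k
    show (((⟨⁅(g : T), (h : T)⁆, S.comm _ g.2 _ h.2⟩ : ↥Φ) : ↥Φ ⧸ N.subgroupOf Φ)) ^ i *
      ((⟨⁅(g' : T), (h' : T)⁆, S.comm _ g'.2 _ h'.2⟩ : ↥Φ) : ↥Φ ⧸ N.subgroupOf Φ) ^ j *
      ((⟨⁅(g'' : T), (h'' : T)⁆, S.comm _ g''.2 _ h''.2⟩ : ↥Φ) : ↥Φ ⧸ N.subgroupOf Φ) ^ k = 1 ↔ _
    rw [← QuotientGroup.mk_pow, ← QuotientGroup.mk_pow, ← QuotientGroup.mk_pow, ← QuotientGroup.mk_mul,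
      ← QuotientGroup.mk_mul, QuotientGroup.eq_one_iff, Subgroup.mem_subgroupOf]
    rfl
  have hN1 : ∀ y ∈ E, ∀ z ∈ Φ, ⁅z, y⁆ ∈ N ∧ ⁅y, z⁆ ∈ N := by
    intro y hy z hz
    refine ⟨S.comm2 z hz y hy, ?_⟩
    rw [← commutatorElement_inv]
    exact N.inv_mem (S.comm2 z hz y hy)
  have hL : ∀ g g' h, b (g * g') h = b g h * b g' h := by
    intro g g' h
    show ((⟨_, _⟩ : ↥Φ) : ↥Φ ⧸ N.subgroupOf Φ) = ((⟨_, _⟩ : ↥Φ) : ↥Φ ⧸ N.subgroupOf Φ) * ((⟨_, _⟩ : ↥Φ) : ↥Φ ⧸ N.subgroupOf Φ)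
    rw [← QuotientGroup.mk_mul, QuotientGroup.eq, Subgroup.mem_subgroupOf]
    show (⁅((g * g' : ↥E) : T), (h : T)⁆)⁻¹ * (⁅(g : T), (h : T)⁆ * ⁅(g' : T), (h : T)⁆) ∈ N
    have hA : ⁅(g' : T), (h : T)⁆ ∈ Φ := S.comm _ g'.2 _ h.2
    have hB : ⁅(g : T), (h : T)⁆ ∈ Φ := S.comm _ g.2 _ h.2
    have i1 := (hN1 _ g.2 _ (Φ.inv_mem hA)).2
    have i3 : ⁅⁅(g : T), (h : T)⁆⁻¹, ⁅(g' : T), (h : T)⁆⁻¹⁆ ∈ N :=
      S.comm2 _ (Φ.inv_mem hB) _ (S.hΦE (Φ.inv_mem hA))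
    have e1 : (⁅((g * g' : ↥E) : T), (h : T)⁆)⁻¹ * (⁅(g : T), (h : T)⁆ * ⁅(g' : T), (h : T)⁆) =
        ((⁅(g : T), (h : T)⁆)⁻¹ * ⁅(g : T), ⁅(g' : T), (h : T)⁆⁻¹⁆ * ((⁅(g : T), (h : T)⁆)⁻¹)⁻¹) *
          ⁅⁅(g : T), (h : T)⁆⁻¹, ⁅(g' : T), (h : T)⁆⁻¹⁆ := by
      simp only [commutatorElement_def, Subgroup.coe_mul]; group
    rw [e1]
    exact N.mul_mem (S.hNn.conj_mem _ i1 _) i3
  have hA : ∀ g h, b g h = (b h g)⁻¹ := by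
    intro g h
    rw [eq_inv_iff_mul_eq_one]
    show ((⟨_, _⟩ : ↥Φ) : ↥Φ ⧸ N.subgroupOf Φ) * ((⟨_, _⟩ : ↥Φ) : ↥Φ ⧸ N.subgroupOf Φ) = 1
    rw [← QuotientGroup.mk_mul, QuotientGroup.eq_one_iff, Subgroup.mem_subgroupOf]
    show ⁅(g : T), (h : T)⁆ * ⁅(h : T), (g : T)⁆ ∈ N
    rw [← commutatorElement_inv (h : T) (g : T), inv_mul_cancel]
    exact N.one_mem
  have hG : ∀ g, b g g = 1 := by
    intro g
    rw [hbmem, commutatorElement_self]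
    exact N.one_mem
  have hZ : ∀ z : ↥Φ ⧸ N.subgroupOf Φ, z ^ p = 1 := by
    intro z
    induction z using QuotientGroup.induction_on with
    | H z =>
      rw [← QuotientGroup.mk_pow, QuotientGroup.eq_one_iff, Subgroup.mem_subgroupOf]
      exact S.pow2 _ z.2
  let π : ↥E →* (↥E ⧸ Φ.subgroupOf E) := QuotientGroup.mk' _
  have hπ : ∀ y : ↥E, π y = 1 ↔ (y : T) ∈ Φ := by
    intro y
    show ((y : ↥E) : ↥E ⧸ Φ.subgroupOf E) = 1 ↔ _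
    rw [QuotientGroup.eq_one_iff, Subgroup.mem_subgroupOf]
  let E₁ : ↥E := ⟨e₁, he₁⟩
  let E₂ : ↥E := ⟨e₂, he₂⟩
  let E₃ : ↥E := ⟨e₃, he₃⟩
  have hind' : ∀ i j k : ℕ, π E₁ ^ i * π E₂ ^ j * π E₃ ^ k = 1 → p ∣ i ∧ p ∣ j ∧ p ∣ k := by
    intro i j k h
    apply hind
    rw [← map_pow, ← map_pow, ← map_pow, ← map_mul, ← map_mul, hπ] at h
    exact h
  have hrel' : (b E₂ E₃) ^ a * (b E₃ E₁) ^ b' * (b E₁ E₂) ^ e = 1 := (hbpow3 _ _ _ _ _ _ _ _ _).2 hrel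
  obtain ⟨s, r, huv, hi⟩ := AL1 hp π b hL hA hG hZ E₁ E₂ E₃ hind' hrel' ha
  set U : ↥E := E₂ * E₁ ^ s with hU
  set V : ↥E := E₃ * E₁ ^ r with hV
  have hi' : ∀ i j : ℕ, (U : T) ^ i * (V : T) ^ j ∈ Φ → p ∣ i ∧ p ∣ j := by
    intro i j h
    apply hi
    rw [← map_pow, ← map_pow, ← map_mul, hπ]
    exact h
  have hUE : (U : T) ∈ E := U.2
  have hVE : (V : T) ∈ E := V.2
  by_cases hdep : ∃ i j : ℕ, ⁅(U : T), e₁⁆ ^ i * ⁅(V : T), e₁⁆ ^ j ∈ N ∧ ¬ (p ∣ i ∧ p ∣ j)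
  · obtain ⟨i, j, hij, hnd⟩ := hdep
    exfalso
    apply hnd
    apply hi'
    -- the radical element
    set R₀ : ↥E := U ^ i * V ^ j with hR₀
    have hbR : ∀ g : ↥E, b R₀ g = (b U g) ^ i * (b V g) ^ j := by
      intro g
      rw [hR₀, hL, b_pow_left b hL hG, b_pow_left b hL hG]
    let L₀ : ↥E →* (↥Φ ⧸ N.subgroupOf Φ) := MonoidHom.mk' (fun g => b g R₀) (fun g g' => hL g g' R₀)
    have hbE₁ : b E₁ R₀ = 1 := by
      rw [hA, hbR, inv_eq_one]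
      exact (hbpow _ _ _ _ _ _).2 hij
    have hbU : b U R₀ = 1 := by
      rw [hA, hbR, hG, one_pow, one_mul, inv_eq_one, hA V U, huv]
      simp
    have hbV : b V R₀ = 1 := by
      rw [hA, hbR, hG, one_pow, mul_one, inv_eq_one, huv, one_pow]
    have hE2 : L₀ E₂ = 1 := by
      have h1 : E₂ = U * (E₁ ^ s)⁻¹ := by rw [hU]; group
      rw [h1, map_mul, map_inv, map_pow]
      show b U R₀ * ((b E₁ R₀) ^ s)⁻¹ = 1
      rw [hbU, hbE₁]; simp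
    have hE3 : L₀ E₃ = 1 := by
      have h1 : E₃ = V * (E₁ ^ r)⁻¹ := by rw [hV]; group
      rw [h1, map_mul, map_inv, map_pow]
      show b V R₀ * ((b E₁ R₀) ^ r)⁻¹ = 1
      rw [hbV, hbE₁]; simp
    let C : Subgroup T := L₀.ker.map E.subtype
    have hCmem : ∀ g : ↥E, L₀ g = 1 → (g : T) ∈ C := fun g hg => ⟨g, hg, rfl⟩
    have hEC : E ≤ C := by
      refine hgen C ?_ (hCmem E₁ hbE₁) (hCmem E₂ hE2) (hCmem E₃ hE3)
      intro z hz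
      refine hCmem ⟨z, S.hΦE hz⟩ ?_
      show b ⟨z, S.hΦE hz⟩ R₀ = 1
      rw [hbmem]
      exact S.comm2 z hz _ R₀.2
    have hrad : (R₀ : T) ∈ Φ := by
      apply hR _ R₀.2
      intro g hg
      obtain ⟨g', hg', rfl⟩ := hEC hg
      have h1 : b g' R₀ = 1 := hg'
      rw [hA, inv_eq_one, hbmem] at h1
      exact h1
    exact hrad
  · push_neg at hdep
    have hαΦ : ⁅(U : T), e₁⁆ ∈ Φ := S.comm _ hUE _ he₁
    have hβΦ : ⁅(V : T), e₁⁆ ∈ Φ := S.comm _ hVE _ he₁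
    have hUV : ⁅(U : T), (V : T)⁆ ∈ N := (hbmem _ _).1 huv
    have hVU : ⁅(V : T), (U : T)⁆ ∈ N := by
      rw [← commutatorElement_inv]; exact N.inv_mem hUV
    have hself : ∀ y : T, ⁅y, y⁆ ∈ N := fun y => by rw [commutatorElement_self]; exact N.one_mem
    refine not_sectional_four (p := p) E N (hNΦ.trans S.hΦE) (fun h _ n hn => S.hNn.conj_mem n hn h)
      hUE hVE (S.hΦE hαΦ) (S.hΦE hβΦ) ?_ ?_ ?_
    · intro y hy z hz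
      simp only [Set.mem_insert_iff, Set.mem_singleton_iff] at hy hz
      rcases hy with rfl | rfl | rfl | rfl <;> rcases hz with rfl | rfl | rfl | rfl
      · exact hself _
      · exact hUV
      · exact (hN1 _ hUE _ hαΦ).2
      · exact (hN1 _ hUE _ hβΦ).2
      · exact hVU
      · exact hself _
      · exact (hN1 _ hVE _ hαΦ).2
      · exact (hN1 _ hVE _ hβΦ).2
      · exact (hN1 _ hUE _ hαΦ).1
      · exact (hN1 _ hVE _ hαΦ).1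
      · exact hself _
      · exact (hN1 _ (S.hΦE hαΦ) _ hβΦ).2
      · exact (hN1 _ hUE _ hβΦ).1
      · exact (hN1 _ hVE _ hβΦ).1
      · exact (hN1 _ (S.hΦE hαΦ) _ hβΦ).1
      · exact hself _
    · intro y hy
      simp only [Set.mem_insert_iff, Set.mem_singleton_iff] at hy
      rcases hy with rfl | rfl | rfl | rfl
      · exact hKE _ hUE
      · exact hKE _ hVE
      · exact S.pow2 _ hαΦ
      · exact S.pow2 _ hβΦ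
    · intro i j k m h
      have h1 : (U : T) ^ i * (V : T) ^ j ∈ Φ := by
        have e1 : (U : T) ^ i * (V : T) ^ j = ((U : T) ^ i * (V : T) ^ j * ⁅(U : T), e₁⁆ ^ k * ⁅(V : T), e₁⁆ ^ m) *
            ((⁅(V : T), e₁⁆ ^ m)⁻¹ * (⁅(U : T), e₁⁆ ^ k)⁻¹) := by group
        rw [e1]
        exact Φ.mul_mem (hNΦ h) (Φ.mul_mem (Φ.inv_mem (Φ.pow_mem hβΦ m)) (Φ.inv_mem (Φ.pow_mem hαΦ k)))
      obtain ⟨hpi, hpj⟩ := hi' i j h1
      have h2 : (U : T) ^ i * (V : T) ^ j ∈ N := by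
        obtain ⟨i', rfl⟩ := hpi
        obtain ⟨j', rfl⟩ := hpj
        rw [pow_mul, pow_mul]
        exact N.mul_mem (N.pow_mem (hKE _ hUE) _) (N.pow_mem (hKE _ hVE) _)
      have h3 : ⁅(U : T), e₁⁆ ^ k * ⁅(V : T), e₁⁆ ^ m ∈ N := by
        have e1 : ⁅(U : T), e₁⁆ ^ k * ⁅(V : T), e₁⁆ ^ m = ((U : T) ^ i * (V : T) ^ j)⁻¹ *
            ((U : T) ^ i * (V : T) ^ j * ⁅(U : T), e₁⁆ ^ k * ⁅(V : T), e₁⁆ ^ m) := by group
        rw [e1]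
        exact N.mul_mem (N.inv_mem h2) h
      have h4 := hdep k m h3
      exact ⟨hpi, hpj, h4.1, h4.2⟩

/-- Case `K = E`. -/
theorem caseK_E [Finite T] [Fact p.Prime] (S : Setup p E Φ N Ψ x t) (hKE : ∀ v ∈ E, v ^ p ∈ N)
    (hR : ∀ v ∈ E, (∀ g ∈ E, ⁅v, g⁆ ∈ N) → v ∈ Φ)
    (hind : ∀ i j k : ℕ, x ^ i * ⁅x, t⁆ ^ j * ⁅⁅x, t⁆, t⁆ ^ k ∈ Φ → p ∣ i ∧ p ∣ j ∧ p ∣ k)
    (hgen : ∀ C : Subgroup T, Φ ≤ C → x ∈ C → ⁅x, t⁆ ∈ C → ⁅⁅x, t⁆, t⁆ ∈ C → E ≤ C) :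
    ¬ SectionalPRankLE p 3 T := by
  haveI := S.hNn
  haveI := S.hΦn
  have hNΦ : N ≤ Φ := S.hNΨ.trans S.hΨΦ
  have hcE : ⁅x, t⁆ ∈ E := comm_t_mem S.hEn S.hx t
  have hdE : ⁅⁅x, t⁆, t⁆ ∈ E := comm_t_mem S.hEn hcE t
  set c := ⁅x, t⁆ with hc
  set d := ⁅c, t⁆ with hd
  by_cases hdep : ∃ a b e : ℕ, ⁅c, d⁆ ^ a * ⁅d, x⁆ ^ b * ⁅x, c⁆ ^ e ∈ N ∧ ¬ (p ∣ a ∧ p ∣ b ∧ p ∣ e)
  · obtain ⟨a, b, e, hrel, hnd⟩ := hdep
    by_cases ha : p ∣ a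
    · by_cases hb : p ∣ b
      · have he : ¬ p ∣ e := fun he => hnd ⟨ha, hb, he⟩
        refine stage2 S hKE hR hdE S.hx hcE (e := b) (a := e) (b' := a) ?_ ?_ ?_ he
        · intro i j k h
          have h' : x ^ j * c ^ k * d ^ i ∈ Φ := by
            have := (S.hΦn.mem_comm (a := d ^ i) (b := x ^ j * c ^ k) (by simpa [mul_assoc] using h))
            exact this
          obtain ⟨h1, h2, h3⟩ := hind j k i h'
          exact ⟨h3, h1, h2⟩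
        · intro C hC h1 h2 h3
          exact hgen C hC h2 h3 h1
        · have : ⁅x, c⁆ ^ e * ⁅c, d⁆ ^ a * ⁅d, x⁆ ^ b = ⁅x, c⁆ ^ e * (⁅c, d⁆ ^ a * ⁅d, x⁆ ^ b) := by group
          rw [this]
          exact S.hNn.mem_comm hrel
      · refine stage2 S hKE hR hcE hdE S.hx (a := b) (b' := e) (e := a) ?_ ?_ ?_ hb
        · intro i j k h
          have h' : x ^ k * c ^ i * d ^ j ∈ Φ := by
            have h2 : x ^ k * (c ^ i * d ^ j) ∈ Φ := S.hΦn.mem_comm h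
            simpa [mul_assoc] using h2
          obtain ⟨h1, h2, h3⟩ := hind k i j h'
          exact ⟨h2, h3, h1⟩
        · intro C hC h1 h2 h3
          exact hgen C hC h3 h1 h2
        · have h2 : ⁅d, x⁆ ^ b * ⁅x, c⁆ ^ e * ⁅c, d⁆ ^ a ∈ N := by
            have h3 : ⁅c, d⁆ ^ a * (⁅d, x⁆ ^ b * ⁅x, c⁆ ^ e) ∈ N := by simpa [mul_assoc] using hrel
            exact S.hNn.mem_comm h3
          exact h2
    · exact stage2 S hKE hR S.hx hcE hdE hind hgen hrel ha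
  · push_neg at hdep
    have hq1 : ⁅c, d⁆ ∈ Φ := S.comm _ hcE _ hdE
    have hq2 : ⁅d, x⁆ ∈ Φ := S.comm _ hdE _ S.hx
    have hq3 : ⁅x, c⁆ ∈ Φ := S.comm _ S.hx _ hcE
    have hall : ∀ y ∈ ({⁅c, d⁆, ⁅d, x⁆, ⁅x, c⁆} : Set T), y ∈ Φ := by
      intro y hy
      simp only [Set.mem_insert_iff, Set.mem_singleton_iff] at hy
      rcases hy with rfl | rfl | rfl
      · exact hq1
      · exact hq2
      · exact hq3
    have hN1 : ∀ y ∈ E, ∀ z ∈ Φ, ⁅y, z⁆ ∈ N := by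
      intro y hy z hz
      rw [← commutatorElement_inv]
      exact N.inv_mem (S.comm2 z hz y hy)
    have hself : ∀ y : T, ⁅y, y⁆ ∈ N := fun y => by rw [commutatorElement_self]; exact N.one_mem
    refine not_sectional_four (p := p) E N (hNΦ.trans S.hΦE) (fun h _ n hn => S.hNn.conj_mem n hn h)
      S.hx (S.hΦE hq1) (S.hΦE hq2) (S.hΦE hq3) ?_ ?_ ?_
    · intro y hy z hz
      simp only [Set.mem_insert_iff, Set.mem_singleton_iff] at hy hz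
      rcases hy with rfl | hy
      · rcases hz with rfl | hz
        · exact hself _
        · exact hN1 _ S.hx z (hall z (by simpa using hz))
      · have hyΦ : y ∈ Φ := hall y (by simpa using hy)
        rcases hz with rfl | hz
        · exact S.comm2 y hyΦ _ S.hx
        · exact S.comm2 y hyΦ z (S.hΦE (hall z (by simpa using hz)))
    · intro y hy
      simp only [Set.mem_insert_iff, Set.mem_singleton_iff] at hy
      rcases hy with rfl | hy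
      · exact hKE _ S.hx
      · exact S.pow2 y (hall y (by simpa using hy))
    · intro i a b e h
      have hxi : x ^ i ∈ Φ := by
        have e1 : x ^ i = (x ^ i * ⁅c, d⁆ ^ a * ⁅d, x⁆ ^ b * ⁅x, c⁆ ^ e) *
            ((⁅x, c⁆ ^ e)⁻¹ * (⁅d, x⁆ ^ b)⁻¹ * (⁅c, d⁆ ^ a)⁻¹) := by group
        rw [e1]
        exact Φ.mul_mem (hNΦ h) (Φ.mul_mem (Φ.mul_mem (Φ.inv_mem (Φ.pow_mem hq3 e))
          (Φ.inv_mem (Φ.pow_mem hq2 b))) (Φ.inv_mem (Φ.pow_mem hq1 a)))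
      have hpi : p ∣ i := by
        have h0 := hind i 0 0 (by simpa using hxi)
        exact h0.1
      have hxiN : x ^ i ∈ N := by
        obtain ⟨i', rfl⟩ := hpi
        rw [pow_mul]
        exact N.pow_mem (hKE _ S.hx) _
      have h3 : ⁅c, d⁆ ^ a * ⁅d, x⁆ ^ b * ⁅x, c⁆ ^ e ∈ N := by
        have e1 : ⁅c, d⁆ ^ a * ⁅d, x⁆ ^ b * ⁅x, c⁆ ^ e = (x ^ i)⁻¹ * (x ^ i * ⁅c, d⁆ ^ a * ⁅d, x⁆ ^ b * ⁅x, c⁆ ^ e) := by
          group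
        rw [e1]
        exact N.mul_mem (N.inv_mem hxiN) h
      have h4 := hdep a b e h3
      exact ⟨hpi, h4.1, h4.2.1, h4.2.2⟩


theorem frat_map_inj {G H : Type*} [Group G] [Group H] (f : G →* H) (hf : Function.Injective f) (S : Subgroup G) :
    Frat (S.map f) = (Frat S).map f := by
  unfold Frat
  let e : S ≃* S.map f := S.equivMapOfInjective f hf
  have h : (frattini S).map e.toMonoidHom = frattini (S.map f) :=
    e.mapSubgroup.map_radical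
  rw [← h, Subgroup.map_map, Subgroup.map_map]
  rfl

theorem map_conj_eq {S : Subgroup T} (hS : S.Normal) (g : T) :
    S.map (MulAut.conj g).toMonoidHom = S := by
  ext y
  constructor
  · rintro ⟨z, hz, rfl⟩
    exact hS.conj_mem z hz g
  · intro hy
    refine ⟨g⁻¹ * y * g⁻¹⁻¹, hS.conj_mem y hy g⁻¹, ?_⟩
    show g * (g⁻¹ * y * g⁻¹⁻¹) * g⁻¹ = y
    group

theorem frat_normal [Finite T] {S : Subgroup T} (hS : S.Normal) : (Frat S).Normal := by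
  refine ⟨fun n hn g => ?_⟩
  have h := frat_map S (MulAut.conj g)
  rw [map_conj_eq hS] at h
  rw [h]
  exact ⟨n, hn, rfl⟩

/-- `Frat2 E` is invariant under automorphisms of `E`. -/
theorem frat2_inv (E : Subgroup T) (a : MulAut E) (z : E) (hz : (z : T) ∈ Frat2 E) :
    ((a z : E) : T) ∈ Frat2 E := by
  let F₁ : Subgroup E := frattini E
  let Y : Subgroup E := ⁅F₁, (⊤ : Subgroup E)⁆ ⊔ Frat F₁
  have hFE : Frat E = F₁.map E.subtype := rfl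
  have htop : (⊤ : Subgroup E).map E.subtype = E := by
    rw [← MonoidHom.range_eq_map, Subgroup.range_subtype]
  have hY : Y.map E.subtype = Frat2 E := by
    show (⁅F₁, (⊤ : Subgroup E)⁆ ⊔ Frat F₁).map E.subtype = ⁅Frat E, E⁆ ⊔ Frat (Frat E)
    rw [Subgroup.map_sup, Subgroup.map_commutator, htop, hFE,
      frat_map_inj E.subtype E.subtype_injective F₁]
  have hF₁ : F₁.map a.toMonoidHom = F₁ :=
    (Subgroup.characteristic_iff_map_eq.1 (frattini_characteristic (G := E))) a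
  have hYa : Y.map a.toMonoidHom = Y := by
    show (⁅F₁, (⊤ : Subgroup E)⁆ ⊔ Frat F₁).map a.toMonoidHom = ⁅F₁, (⊤ : Subgroup E)⁆ ⊔ Frat F₁
    rw [Subgroup.map_sup, Subgroup.map_commutator, hF₁,
      ← frat_map_inj a.toMonoidHom a.injective F₁, hF₁,
      Subgroup.map_top_of_surjective _ a.surjective]
  rw [← hY] at hz ⊢
  obtain ⟨y, hy, hyz⟩ := hz
  have hyz' : y = z := Subtype.ext hyz
  subst hyz'
  refine ⟨a y, ?_, rfl⟩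
  rw [← hYa]
  exact ⟨y, hy, rfl⟩

end JEAux

universe u

open JEAux in
theorem caseJ_E {T : Type u} [Group T] [Finite T] {p : ℕ} [Fact p.Prime]
    (hp : 5 ≤ p) (hT : IsPGroup p T) (hsr : SectionalPRankLE p 3 T) {E : Subgroup T}
    (hEi : E.index = p) (hrk : (Frat E).relIndex E = p ^ 3) (A : Set (MulAut E))
    (hirr : ∀ M : Subgroup T, Frat E ≤ M → M ≤ E →
      (∀ a ∈ A, ∀ z : E, (z : T) ∈ M → ((a z : E) : T) ∈ M) → M = Frat E ∨ M = E)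
    {x t : T} {Ψ : Subgroup T} (hΨn : Ψ.Normal) (hΨ : Ψ ≤ Frat E) (hΨ2 : Frat2 E ≤ Ψ) (hx : x ∈ E)
    (ht : t ∉ E) (hJ : ⁅⁅x, t⁆, t⁆ ∉ Frat E) (h1 : ⁅⁅x, t⁆, x⁆ ∉ Ψ) (h2 : x ^ p ∈ Ψ) : False := by
  have hpp : p.Prime := Fact.out
  have hp2 : p ≠ 2 := by omega
  have hEn : E.Normal := by
    obtain ⟨n, hn⟩ := hT.exists_card_eq
    have hn0 : n ≠ 0 := by
      rintro rfl
      have h3 := E.card_mul_index
      rw [hn, hEi, pow_zero] at h3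
      have h4 : p ∣ 1 := ⟨_, by rw [← h3, mul_comm]⟩
      exact hpp.one_lt.ne' (Nat.dvd_one.1 h4)
    apply Subgroup.normal_of_index_eq_minFac_card
    rw [hEi, hn, hpp.pow_minFac hn0]
  have hEp : IsPGroup p E := hT.to_subgroup E
  have hFn : (Frat E).Normal := frat_normal hEn
  have hFFn : (Frat (Frat E)).Normal := frat_normal hFn
  haveI := hEn
  haveI := hFn
  haveI := hFFn
  have hNn : (Frat2 E).Normal := by
    unfold Frat2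
    exact Subgroup.sup_normal _ _
  haveI := hNn
  have S : Setup p E (Frat E) (Frat2 E) Ψ x t :=
    { hEn := hEn
      hΦn := hFn
      hNn := hNn
      hΨn := hΨn
      hNΨ := hΨ2
      hΨΦ := hΨ
      hΦE := frat_le E
      comm := fun u hu v hv => comm_mem_frat hEp hu hv
      pow := fun u hu => pow_mem_frat hEp hu
      comm2 := fun u hu v hv => Subgroup.mem_sup_left (Subgroup.commutator_mem_commutator hu hv)
      pow2 := fun u hu => Subgroup.mem_sup_right (pow_mem_frat (hT.to_subgroup (Frat E)) hu)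
      idx := hrk
      hT := hT
      hx := hx
      hJ := hJ
      h1 := h1
      h2 := h2 }
  obtain ⟨M₁, M₂, c1, c2, c3, i1, i2, i3, c4, c5, c6, c7, c8⟩ := chain S
  have hind := indep_of_chain S c1 c2 c4 c5 c7 c8
  have hgen := gen_of_chain S c1 c2 c3 i1 i2 i3 c4 c5 c7 c8
  -- the subgroup `K`
  let K : Subgroup T :=
    { carrier := {v | v ∈ E ∧ v ^ p ∈ Frat2 E}
      one_mem' := ⟨E.one_mem, by simp [(Frat2 E).one_mem]⟩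
      mul_mem' := by
        rintro u v ⟨hu, hu'⟩ ⟨hv, hv'⟩
        exact ⟨E.mul_mem hu hv, pow_mul_mem hp2 S le_rfl hu hv hu' hv'⟩
      inv_mem' := by
        rintro u ⟨hu, hu'⟩
        refine ⟨E.inv_mem hu, ?_⟩
        rw [inv_pow]
        exact (Frat2 E).inv_mem hu' }
  have hK := hirr K (fun z hz => ⟨frat_le E hz, S.pow2 z hz⟩) (fun v hv => hv.1) (by
    intro a _ z hz
    refine ⟨(a z).2, ?_⟩
    have h3 := frat2_inv E a (z ^ p) (by simpa using hz.2)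
    simpa using h3)
  rcases hK with hK | hK
  · refine caseK_phi hp2 S ?_ hind hsr
    intro v hv hvp
    have : v ∈ K := ⟨hv, hvp⟩
    rw [hK] at this
    exact this
  · have hKE : ∀ v ∈ E, v ^ p ∈ Frat2 E := by
      intro v hv
      have : v ∈ K := by rw [hK]; exact hv
      exact this.2
    let R : Subgroup T :=
      { carrier := {v | v ∈ E ∧ ∀ g ∈ E, ⁅v, g⁆ ∈ Frat2 E}
        one_mem' := ⟨E.one_mem, fun g _ => by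
          rw [commutatorElement_one_left]; exact (Frat2 E).one_mem⟩
        mul_mem' := by
          rintro u v ⟨hu, hu'⟩ ⟨hv, hv'⟩
          refine ⟨E.mul_mem hu hv, fun g hg => ?_⟩
          have e1 : ⁅u * v, g⁆ = (u * ⁅v, g⁆ * u⁻¹) * ⁅u, g⁆ := by
            simp only [commutatorElement_def]; group
          rw [e1]
          exact (Frat2 E).mul_mem (hNn.conj_mem _ (hv' g hg) u) (hu' g hg)
        inv_mem' := by
          rintro u ⟨hu, hu'⟩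
          refine ⟨E.inv_mem hu, fun g hg => ?_⟩
          have e1 : ⁅u⁻¹, g⁆ = u⁻¹ * ⁅u, g⁆⁻¹ * u⁻¹⁻¹ := by
            simp only [commutatorElement_def]; group
          rw [e1]
          exact hNn.conj_mem _ ((Frat2 E).inv_mem (hu' g hg)) u⁻¹ }
    have hR := hirr R (fun z hz => ⟨frat_le E hz, fun g hg => S.comm2 z hz g hg⟩) (fun v hv => hv.1) (by
      intro a _ z hz
      refine ⟨(a z).2, fun g hg => ?_⟩
      let g' : E := a⁻¹ ⟨g, hg⟩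
      have h3 : ⁅(z : T), (g' : T)⁆ ∈ Frat2 E := hz.2 _ g'.2
      have h4 := frat2_inv E a ⁅z, g'⁆ h3
      have h5 : a g' = ⟨g, hg⟩ := by
        show a (a⁻¹ ⟨g, hg⟩) = _
        simp
      rw [map_commutatorElement, h5] at h4
      exact h4)
    rcases hR with hR | hR
    · refine caseK_E S hKE ?_ hind hgen hsr
      intro v hv hvg
      have : v ∈ R := ⟨hv, hvg⟩
      rw [hR] at this
      exact this
    · have hxR : x ∈ R := by rw [hR]; exact hx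
      have hcE : ⁅x, t⁆ ∈ E := comm_t_mem hEn hx t
      have h3 := hxR.2 _ hcE
      apply h1
      rw [← commutatorElement_inv]
      exact hΨ2 ((Frat2 E).inv_mem h3)

end Cfsg.Agent.Lib.S5180
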