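import Mathlib
import Cfsg.Agent.Lib.S5180.Basic
import Cfsg.Agent.Lib.S5180.JE

set_option autoImplicit false
open scoped commutatorElement

namespace Cfsg.Agent.Lib.S5180
namespace JTFront

open JEAux

universe u

variable {T : Type u} [Group T] [Finite T] {p : ℕ} [Fact p.Prime]

theorem normal_of_index (hT : IsPGroup p T) {E : Subgroup T} (hEi : E.index = p) : E.Normal := by
  have hpp : p.Prime := Fact.out
  obtain ⟨n, hn⟩ := hT.exists_card_eq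
  have hn0 : n ≠ 0 := by
    rintro rfl
    have h3 := E.card_mul_index
    rw [hn, hEi, pow_zero] at h3
    have h4 : p ∣ 1 := ⟨_, by rw [← h3, mul_comm]⟩
    exact hpp.one_lt.ne' (Nat.dvd_one.1 h4)
  apply Subgroup.normal_of_index_eq_minFac_card
  rw [hEi, hn, hpp.pow_minFac hn0]

theorem comm_mem_of_index {M : Subgroup T} (hn : M.Normal) (hi : M.index = p) (u v : T) : ⁅u, v⁆ ∈ M := by
  haveI := hn
  have hc : Nat.card (T ⧸ M) = p := hi
  haveI : IsCyclic (T ⧸ M) := isCyclic_of_prime_card hc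
  obtain ⟨g, hg⟩ := IsCyclic.exists_generator (α := T ⧸ M)
  rw [← QuotientGroup.eq_one_iff]
  have hcomm : ∀ a b : T ⧸ M, a * b = b * a := by
    intro a b
    obtain ⟨i, rfl⟩ := Subgroup.mem_zpowers_iff.1 (hg a)
    obtain ⟨j, rfl⟩ := Subgroup.mem_zpowers_iff.1 (hg b)
    rw [← zpow_add, ← zpow_add, add_comm]
  have := map_commutatorElement (QuotientGroup.mk' M) u v
  simp only [QuotientGroup.mk'_apply] at this
  rw [this, commutatorElement_eq_one_iff_commute]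
  exact hcomm _ _

theorem index_map_aut (E : Subgroup T) (σ : MulAut T) : (E.map σ.toMonoidHom).index = E.index := by
  have h : (E.map σ.toMonoidHom) = E.comap σ.symm.toMonoidHom := by
    ext y
    constructor
    · rintro ⟨z, hz, rfl⟩
      simpa using hz
    · intro hy
      exact ⟨σ.symm y, hy, by simp⟩
  rw [h]
  exact Subgroup.index_comap_of_surjective _ σ.symm.surjective

theorem normal_map_aut {E : Subgroup T} (hE : E.Normal) (σ : MulAut T) : (E.map σ.toMonoidHom).Normal :=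
  hE.map _ σ.surjective

/-- rank bound -/
theorem rank_bound (hsr : SectionalPRankLE p 3 T) {D N₀ : Subgroup T} [hn : (N₀.subgroupOf D).Normal]
    (hc : ∀ u ∈ D, ∀ v ∈ D, ⁅u, v⁆ ∈ N₀) (hpw : ∀ u ∈ D, u ^ p ∈ N₀) : N₀.relIndex D ≤ p ^ 3 := by
  have h := hsr D (N₀.subgroupOf D) ⊤ ?_ ?_
  · rw [Subgroup.card_top] at h
    exact h
  · refine ⟨⟨?_⟩⟩
    rintro ⟨a, -⟩ ⟨b, -⟩
    apply Subtype.ext
    induction a using QuotientGroup.induction_on with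
    | H a =>
      induction b using QuotientGroup.induction_on with
      | H b =>
        show ((a : ↥D ⧸ N₀.subgroupOf D) * (b : ↥D ⧸ N₀.subgroupOf D)) = (b : ↥D ⧸ N₀.subgroupOf D) * a
        rw [← QuotientGroup.mk_mul, ← QuotientGroup.mk_mul, QuotientGroup.eq, Subgroup.mem_subgroupOf]
        have e1 : (((a * b)⁻¹ * (b * a) : ↥D) : T) = ⁅(b : T)⁻¹, (a : T)⁻¹⁆ := by
          simp only [commutatorElement_def, Subgroup.coe_mul, Subgroup.coe_inv]; group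
        rw [e1]
        exact hc _ (D.inv_mem b.2) _ (D.inv_mem a.2)
  · rintro a -
    induction a using QuotientGroup.induction_on with
    | H a =>
      rw [← QuotientGroup.mk_pow, QuotientGroup.eq_one_iff, Subgroup.mem_subgroupOf]
      exact hpw _ a.2


theorem cardrel {A B : Subgroup T} (h : A ≤ B) : Nat.card A * A.relIndex B = Nat.card B := by
  have := Subgroup.relIndex_mul_relIndex ⊥ A B bot_le h
  rwa [Subgroup.relIndex_bot_left, Subgroup.relIndex_bot_left] at this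

theorem sup_top_of_index {E Y : Subgroup T} (hi : E.index = p) (hY : Nat.card Y = Nat.card E) (hne : Y ≠ E) :
    E ⊔ Y = ⊤ := by
  have hpp : p.Prime := Fact.out
  rcases le_or_le_of_relIndex_prime hpp (A := E) (D := E ⊔ Y) (B := ⊤) le_sup_left le_top
    (by rw [Subgroup.relIndex_top_right]; exact hi) with h | h
  · exfalso
    apply hne
    exact Subgroup.eq_of_le_of_card_ge (le_sup_right.trans h) (by rw [hY])
  · exact top_le_iff.1 h

/-- The reduction of `caseJ_T` to the quotient statement. -/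
theorem caseJ_T_of_Q
    (hjt : ∀ (Q : Type u) [Group Q] [Finite Q] (_ : IsPGroup p Q) (g : MulAut Q) (τ : Q)
      (_ : g ^ p = MulAut.conj τ) {E D A : Subgroup Q} (_ : E.index = p)
      (_ : E ⊔ E.map g.toMonoidHom = ⊤) (_ : ∀ u, u ∈ D ↔ u ∈ E ∧ u ∈ E.map g.toMonoidHom)
      (_ : ∀ u, g u ∈ D ↔ u ∈ D) (_ : D.index = p ^ 2) (_ : A ≤ D) (_ : ∀ a ∈ A, ∀ w : Q, ⁅a, w⁆ = 1)
      (_ : ∀ u ∈ E, ∀ v ∈ E, ⁅u, v⁆ ∈ A) (_ : ∀ u ∈ E, u ^ p ∈ A) (_ : ∀ a ∈ A, g a ∈ A → a = 1)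
      (_ : (A ⊔ A.map g.toMonoidHom).relIndex D = p) (_ : Nat.card ↥(A ⊔ A.map g.toMonoidHom) = p ^ 2)
      {x t : Q} (_ : x ∈ E) (_ : t ∉ E) (_ : ⁅⁅x, t⁆, t⁆ ∉ A), ⁅⁅x, t⁆, x⁆ ≠ 1 ∧ x ^ p = 1)
    (hT : IsPGroup p T) (hsr : SectionalPRankLE p 3 T) {E : Subgroup T}
    (hEi : E.index = p) (hrk : (Frat E).relIndex E = p ^ 3) {σ : MulAut T} {τ : T}
    (hσ : E.map σ.toMonoidHom ≠ E) (hσp : σ ^ p = MulAut.conj τ) {x₀ t₀ : T} (hx₀ : x₀ ∈ E)
    (ht₀ : t₀ ∉ E) (hJ₀ : ⁅⁅x₀, t₀⁆, t₀⁆ ∉ Frat E) :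
    ∃ (x t : T) (Ψ : Subgroup T), Ψ.Normal ∧ Ψ ≤ Frat E ∧ Frat2 E ≤ Ψ ∧ x ∈ E ∧ t ∉ E ∧
      ⁅⁅x, t⁆, t⁆ ∉ Frat E ∧ ⁅⁅x, t⁆, x⁆ ∉ Ψ ∧ x ^ p ∈ Ψ := by
  classical
  have hpp : p.Prime := Fact.out
  have hp0 : 0 < p := hpp.pos
  have hEp : IsPGroup p E := hT.to_subgroup E
  have hEn : E.Normal := normal_of_index hT hEi
  set E₁ : Subgroup T := E.map σ.toMonoidHom with hE₁
  have hE₁i : E₁.index = p := by rw [hE₁, index_map_aut, hEi]
  have hE₁n : E₁.Normal := normal_of_index hT hE₁i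
  have hE₁p : IsPGroup p E₁ := hT.to_subgroup E₁
  set Φ : Subgroup T := Frat E with hΦdef
  set Φ₁ : Subgroup T := Φ.map σ.toMonoidHom with hΦ₁def
  have hΦ₁eq : Frat E₁ = Φ₁ := frat_map E σ
  have hΦn : Φ.Normal := frat_normal hEn
  have hΦ₁n : Φ₁.Normal := by rw [← hΦ₁eq]; exact frat_normal hE₁n
  haveI := hEn
  haveI := hE₁n
  haveI := hΦn
  haveI := hΦ₁n
  have hcE₁ : Nat.card E₁ = Nat.card E :=
    Nat.card_congr (E.equivMapOfInjective σ.toMonoidHom σ.injective).toEquiv.symm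
  have hcΦ₁ : Nat.card Φ₁ = Nat.card Φ :=
    Nat.card_congr (Φ.equivMapOfInjective σ.toMonoidHom σ.injective).toEquiv.symm
  have hΦE : Φ ≤ E := frat_le E
  have hsup : E ⊔ E₁ = ⊤ := sup_top_of_index hEi hcE₁ hσ
  set D : Subgroup T := E ⊓ E₁ with hDdef
  have hDE : D.relIndex E = p := by
    rw [hDdef, Subgroup.inf_relIndex_left, ← Subgroup.relIndex_sup_right, hsup,
      Subgroup.relIndex_top_right, hE₁i]
  have hDE₁ : D.relIndex E₁ = p := by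
    rw [hDdef, Subgroup.inf_relIndex_right, ← Subgroup.relIndex_sup_left, hsup,
      Subgroup.relIndex_top_right, hEi]
  have hΦD : Φ ≤ D := frat_le_of_relIndex hEp inf_le_left hDE
  have hΦ₁D : Φ₁ ≤ D := by
    rw [← hΦ₁eq]; exact frat_le_of_relIndex hE₁p inf_le_right hDE₁
  have hΦrelD : Φ.relIndex D = p ^ 2 := by
    have h := Subgroup.relIndex_mul_relIndex Φ D E hΦD inf_le_left
    rw [hDE, hrk] at h
    have : p ^ 3 = p ^ 2 * p := by ring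
    rw [this] at h
    exact Nat.eq_of_mul_eq_mul_right hp0 h
  have hDindex : D.index = p ^ 2 := by
    have h := Subgroup.relIndex_mul_relIndex D E ⊤ inf_le_left le_top
    rw [hDE, Subgroup.relIndex_top_right, Subgroup.relIndex_top_right, hEi] at h
    rw [← h]; ring
  have hΦ₁relD : Φ₁.relIndex D = p ^ 2 := by
    have h1 := cardrel hΦD
    have h2 := cardrel hΦ₁D
    rw [hΦrelD, ← h2, hcΦ₁] at h1
    exact (Nat.eq_of_mul_eq_mul_left Nat.card_pos h1).symm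
  have hDT : ∀ d ∈ D, ∀ z, ⁅d, z⁆ ∈ Φ ⊔ Φ₁ := by
    intro d hd z
    have hz : z ∈ E ⊔ E₁ := by rw [hsup]; trivial
    obtain ⟨a, ha, b, hb, rfl⟩ := Subgroup.mem_sup_of_normal_right.1 hz
    have e1 : ⁅d, a * b⁆ = ⁅d, a⁆ * (a * ⁅d, b⁆ * a⁻¹) := by
      simp only [commutatorElement_def]; group
    rw [e1]
    refine Subgroup.mul_mem _ (Subgroup.mem_sup_left (comm_mem_frat hEp hd.1 ha)) (Subgroup.mem_sup_right ?_)
    refine hΦ₁n.conj_mem _ ?_ a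
    rw [← hΦ₁eq]
    exact comm_mem_frat hE₁p hd.2 hb
  have hc0E : ⁅x₀, t₀⁆ ∈ E := comm_t_mem hEn hx₀ t₀
  have hcD : ⁅x₀, t₀⁆ ∈ D := ⟨hc0E, comm_mem_of_index hE₁n hE₁i _ _⟩
  have hne : Φ ≠ Φ₁ := by
    intro h
    apply hJ₀
    have := hDT _ hcD t₀
    rw [← h, sup_idem] at this
    exact this
  set Ψ : Subgroup T := Φ ⊓ Φ₁ with hΨdef
  have hΨn : Ψ.Normal := Subgroup.normal_inf_normal _ _
  haveI := hΨn
  have hDc : ∀ u ∈ D, ∀ v ∈ D, ⁅u, v⁆ ∈ Φ ∧ ⁅u, v⁆ ∈ Φ₁ := by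
    intro u hu v hv
    refine ⟨comm_mem_frat hEp hu.1 hv.1, ?_⟩
    rw [← hΦ₁eq]; exact comm_mem_frat hE₁p hu.2 hv.2
  have hDpw : ∀ u ∈ D, u ^ p ∈ Φ ∧ u ^ p ∈ Φ₁ := by
    intro u hu
    refine ⟨pow_mem_frat hEp hu.1, ?_⟩
    rw [← hΦ₁eq]; exact pow_mem_frat hE₁p hu.2
  have hrank : Ψ.relIndex D ≤ p ^ 3 :=
    rank_bound hsr (fun u hu v hv => hDc u hu v hv) (fun u hu => hDpw u hu)
  have hΨΦle : Ψ ≤ Φ := inf_le_left
  have hΨΦ₁le : Ψ ≤ Φ₁ := inf_le_right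
  have hnotΦ : ¬ Φ ≤ Ψ := by
    intro h
    apply hne
    exact Subgroup.eq_of_le_of_card_ge (h.trans hΨΦ₁le) (by rw [hcΦ₁])
  have hnotΦ₁ : ¬ Φ₁ ≤ Ψ := by
    intro h
    apply hne
    exact (Subgroup.eq_of_le_of_card_ge (h.trans hΨΦle) (by rw [hcΦ₁])).symm
  have hrelaux : ∀ {M : Subgroup T}, Ψ ≤ M → M.relIndex D = p ^ 2 → ¬ M ≤ Ψ → M ≤ D → Ψ.relIndex M = p := by
    intro M h1 h2 h3 h4
    obtain ⟨k, hk1, hk⟩ := strict_pow (p := p) hT h3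
    have h5 := Subgroup.relIndex_mul_relIndex Ψ M D h1 h4
    rw [hk, h2] at h5
    have h6 : p ^ k * p ^ 2 ≤ p ^ 3 := by rw [h5]; exact hrank
    rw [← pow_add] at h6
    have h7 := (Nat.pow_le_pow_iff_right hpp.one_lt).1 h6
    have : k = 1 := by omega
    rw [hk, this, pow_one]
  have hΨΦ : Ψ.relIndex Φ = p := hrelaux hΨΦle hΦrelD hnotΦ hΦD
  have hΨΦ₁ : Ψ.relIndex Φ₁ = p := hrelaux hΨΦ₁le hΦ₁relD hnotΦ₁ hΦ₁D
  have hΨD : Ψ.relIndex D = p ^ 3 := by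
    have h5 := Subgroup.relIndex_mul_relIndex Ψ Φ D hΨΦle hΦD
    rw [hΨΦ, hΦrelD] at h5
    rw [← h5]; ring
  -- centrality
  have hcentral : ∀ u ∈ Φ, ∀ w, ⁅u, w⁆ ∈ Ψ := by
    intro u hu w
    obtain ⟨v₀, hv₀, hv₀'⟩ := SetLike.not_le_iff_exists.1 hnotΦ
    obtain ⟨v, hv, hvΨ, hvw⟩ := exists_fix (p := p) hT hΦn Ψ w hv₀ hv₀'
    have hcommΨ : ∀ a ∈ Φ, ∀ b ∈ Φ, ⁅a, b⁆ ∈ Ψ := fun a ha b hb => hDc a (hΦD ha) b (hΦD hb)
    let M := up hΦn hcommΨ Ψ le_rfl w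
    have hΨM : Ψ ≤ M := fun z hz => ⟨hΨΦle hz, comm_t_mem hΨn hz w⟩
    rcases le_or_le_of_relIndex_prime hpp (A := Ψ) (D := M) (B := Φ) hΨM (fun z hz => hz.1) hΨΦ with h | h
    · exact absurd (h ⟨hv, hvw⟩) hvΨ
    · exact (h hu).2
  -- `D` lies in every maximal subgroup
  have hDY : ∀ Y : Subgroup T, Y.index = p → Nat.card Y = Nat.card E → D ≤ Y := by
    intro Y hYi hYc
    by_cases hYE : Y = E
    · rw [hYE]; exact inf_le_left
    have hYn : Y.Normal := normal_of_index hT hYi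
    haveI := hYn
    have hsupY : E ⊔ Y = ⊤ := sup_top_of_index hEi hYc hYE
    have hEYi : (E ⊓ Y).relIndex E = p := by
      rw [Subgroup.inf_relIndex_left, ← Subgroup.relIndex_sup_right, hsupY,
        Subgroup.relIndex_top_right, hYi]
    have hΦY : Φ ≤ Y := (frat_le_of_relIndex hEp inf_le_left hEYi).trans inf_le_right
    have hD''n : (D ⊓ Y).Normal := by
      have hDn : D.Normal := Subgroup.normal_inf_normal _ _
      haveI := hDn
      exact Subgroup.normal_inf_normal _ _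
    have hΦD'' : Φ ≤ D ⊓ Y := le_inf hΦD hΦY
    have hdD : ⁅⁅x₀, t₀⁆, t₀⁆ ∈ D := ⟨comm_t_mem hEn hc0E t₀, comm_mem_of_index hE₁n hE₁i _ _⟩
    have hdD'' : ⁅⁅x₀, t₀⁆, t₀⁆ ∈ D ⊓ Y := ⟨hdD, comm_mem_of_index hYn hYi _ _⟩
    have hcD'' : ⁅x₀, t₀⁆ ∈ D ⊓ Y := ⟨hcD, comm_mem_of_index hYn hYi _ _⟩
    by_contra hnot
    have hnot' : ¬ D ≤ D ⊓ Y := fun h => hnot (h.trans inf_le_right)
    obtain ⟨k, hk1, hk⟩ := strict_pow (p := p) hT hnot'
    have hnot2 : ¬ (D ⊓ Y) ≤ Φ := fun h => hJ₀ (h hdD'')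
    obtain ⟨k', hk1', hk'⟩ := strict_pow (p := p) hT hnot2
    have h5 := Subgroup.relIndex_mul_relIndex Φ (D ⊓ Y) D hΦD'' inf_le_left
    rw [hk, hk', hΦrelD, ← pow_add] at h5
    have h6 := Nat.pow_right_injective hpp.two_le h5
    have hk'1 : k' = 1 := by omega
    have hrel'' : Φ.relIndex (D ⊓ Y) = p := by rw [hk', hk'1, pow_one]
    obtain ⟨v, hv, hvΦ, hvw⟩ := exists_fix (p := p) hT hD''n Φ t₀ hdD'' hJ₀
    have hcommΦ : ∀ a ∈ D ⊓ Y, ∀ b ∈ D ⊓ Y, ⁅a, b⁆ ∈ Φ := fun a ha b hb => (hDc a ha.1 b hb.1).1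
    let M := up hD''n hcommΦ Φ le_rfl t₀
    have hΦM : Φ ≤ M := fun z hz => ⟨hΦD'' hz, comm_t_mem hΦn hz t₀⟩
    rcases le_or_le_of_relIndex_prime hpp (A := Φ) (D := M) (B := D ⊓ Y) hΦM (fun z hz => hz.1) hrel'' with h | h
    · exact hvΦ (h ⟨hv, hvw⟩)
    · exact hJ₀ (h hcD'').2
  set E₂ : Subgroup T := E₁.map σ.toMonoidHom with hE₂
  have hE₂i : E₂.index = p := by rw [hE₂, index_map_aut, hE₁i]
  have hcE₂ : Nat.card E₂ = Nat.card E := by
    rw [← hcE₁]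
    exact Nat.card_congr (E₁.equivMapOfInjective σ.toMonoidHom σ.injective).toEquiv.symm
  have hDE₂ : D ≤ E₂ := hDY E₂ hE₂i hcE₂
  have hDmap : D.map σ.toMonoidHom = D := by
    have h1 : D.map σ.toMonoidHom = E₁ ⊓ E₂ := Subgroup.map_inf _ _ _ σ.injective
    symm
    refine Subgroup.eq_of_le_of_card_ge ?_ ?_
    · rw [h1]; exact le_inf inf_le_right hDE₂
    · exact le_of_eq (Nat.card_congr (D.equivMapOfInjective σ.toMonoidHom σ.injective).toEquiv.symm)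
  have hσD : ∀ z, σ z ∈ D ↔ z ∈ D := by
    intro z
    constructor
    · intro h
      rw [← hDmap] at h
      obtain ⟨z', hz', hzz⟩ := h
      have : z' = z := σ.injective hzz
      rwa [← this]
    · intro h
      rw [← hDmap]
      exact ⟨z, h, rfl⟩
  -- `σ Ψ = Ψ`
  set Φ₂ : Subgroup T := Φ₁.map σ.toMonoidHom with hΦ₂def
  have hΦ₂eq : Frat E₂ = Φ₂ := by rw [hE₂, frat_map, hΦ₁eq]
  have hE₂p : IsPGroup p E₂ := hT.to_subgroup E₂
  have hΦ₂n : Φ₂.Normal := normal_map_aut hΦ₁n σ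
  haveI := hΦ₂n
  have hΨΦ₂ : Ψ ≤ Φ₂ := by
    have hNn : (Ψ ⊓ Φ₂).Normal := Subgroup.normal_inf_normal _ _
    haveI := hNn
    have h1 : (Ψ ⊓ Φ₂).relIndex D ≤ p ^ 3 := by
      refine rank_bound hsr (fun u hu v hv => ⟨hDc u hu v hv, ?_⟩) (fun u hu => ⟨hDpw u hu, ?_⟩)
      · rw [← hΦ₂eq]; exact comm_mem_frat hE₂p (hDE₂ hu) (hDE₂ hv)
      · rw [← hΦ₂eq]; exact pow_mem_frat hE₂p (hDE₂ hu)
    have h2 := Subgroup.relIndex_mul_relIndex (Ψ ⊓ Φ₂) Ψ D inf_le_left (hΨΦle.trans hΦD)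
    rw [hΨD] at h2
    have h3 : (Ψ ⊓ Φ₂).relIndex Ψ * p ^ 3 ≤ 1 * p ^ 3 := by rw [h2, one_mul]; exact h1
    have h4 := Nat.le_of_mul_le_mul_right h3 (by positivity)
    have h5 : (Ψ ⊓ Φ₂).relIndex Ψ = 1 := le_antisymm h4 (Nat.pos_of_ne_zero (by
      show ((Ψ ⊓ Φ₂).subgroupOf Ψ).index ≠ 0
      exact Subgroup.index_ne_zero_of_finite))
    exact (Subgroup.relIndex_eq_one.1 h5).trans inf_le_right
  have hΨmap : Ψ.map σ.toMonoidHom = Ψ := by
    have h1 : Ψ.map σ.toMonoidHom = Φ₁ ⊓ Φ₂ := Subgroup.map_inf _ _ _ σ.injective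
    symm
    refine Subgroup.eq_of_le_of_card_ge ?_ ?_
    · rw [h1]; exact le_inf hΨΦ₁le hΨΦ₂
    · exact le_of_eq (Nat.card_congr (Ψ.equivMapOfInjective σ.toMonoidHom σ.injective).toEquiv.symm)
  -- Frat2
  have hFrat2 : Frat2 E ≤ Ψ := by
    refine sup_le ?_ (frat_le_of_relIndex (hT.to_subgroup Φ) hΨΦle hΨΦ)
    rw [Subgroup.commutator_le]
    intro u hu v _
    exact hcentral u hu v
  -- the quotient
  let mk : T →* T ⧸ Ψ := QuotientGroup.mk' Ψ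
  have hker : mk.ker = Ψ := QuotientGroup.ker_mk' Ψ
  have hmk : ∀ z : T, mk z = (z : T ⧸ Ψ) := fun _ => rfl
  have hsurj : Function.Surjective mk := QuotientGroup.mk'_surjective Ψ
  let g : MulAut (T ⧸ Ψ) := QuotientGroup.congr Ψ Ψ σ hΨmap
  have hg : ∀ z : T, g (mk z) = mk (σ z) := fun _ => rfl
  have hgcomp : g.toMonoidHom.comp mk = mk.comp σ.toMonoidHom := by
    ext z; rfl
  have hgmap : ∀ M : Subgroup T, (M.map mk).map g.toMonoidHom = (M.map σ.toMonoidHom).map mk := by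
    intro M
    rw [Subgroup.map_map, Subgroup.map_map, hgcomp]
  have hgpow : ∀ (n : ℕ) (z : T), (g ^ n) (mk z) = mk ((σ ^ n) z) := by
    intro n
    induction n with
    | zero => intro z; rfl
    | succ n ih =>
      intro z
      rw [pow_succ, pow_succ, MulAut.mul_apply, MulAut.mul_apply, hg, ih]
  have hgp : g ^ p = MulAut.conj (mk τ) := by
    ext w
    obtain ⟨z, rfl⟩ := hsurj w
    rw [hgpow, hσp, MulAut.conj_apply, MulAut.conj_apply, map_mul, map_mul, map_inv]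
  have hmem : ∀ M : Subgroup T, Ψ ≤ M → ∀ z, mk z ∈ M.map mk ↔ z ∈ M := by
    intro M hM z
    constructor
    · rintro ⟨z', hz', h⟩
      have h1 : z'⁻¹ * z ∈ Ψ := QuotientGroup.eq.1 h
      have h2 : z = z' * (z'⁻¹ * z) := by group
      rw [h2]
      exact M.mul_mem hz' (hM h1)
    · intro h
      exact ⟨z, h, rfl⟩
  have hΨE : Ψ ≤ E := hΨΦle.trans hΦE
  have hΨE₁ : Ψ ≤ E₁ := hΨΦ₁le.trans (hΦ₁D.trans inf_le_right)
  have hΨDle : Ψ ≤ D := hΨΦle.trans hΦD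
  have hindex : ∀ M : Subgroup T, Ψ ≤ M → (M.map mk).index = M.index := by
    intro M hM
    rw [← Subgroup.index_comap_of_surjective (M.map mk) hsurj,
      Subgroup.comap_map_eq_self (by rw [hker]; exact hM)]
  have hΨsup : Ψ ≤ Φ ⊔ Φ₁ := hΨΦle.trans le_sup_left
  have hsupD : Φ ⊔ Φ₁ ≤ D := sup_le hΦD hΦ₁D
  have hΦrelsup : Φ.relIndex (Φ ⊔ Φ₁) = p := by
    rw [Subgroup.relIndex_sup_left, ← Subgroup.inf_relIndex_right]
    exact hΨΦ₁
  have hY1' : (Φ ⊔ Φ₁).relIndex D = p := by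
    have h := Subgroup.relIndex_mul_relIndex Φ (Φ ⊔ Φ₁) D le_sup_left hsupD
    rw [hΦrelsup, hΦrelD] at h
    have : p ^ 2 = p * p := by ring
    rw [this] at h
    exact Nat.eq_of_mul_eq_mul_left hp0 h
  have hY2' : Ψ.relIndex (Φ ⊔ Φ₁) = p ^ 2 := by
    have h := Subgroup.relIndex_mul_relIndex Ψ Φ (Φ ⊔ Φ₁) hΨΦle le_sup_left
    rw [hΨΦ, hΦrelsup] at h
    rw [← h]; ring
  have hYeq : (Φ.map mk) ⊔ (Φ.map mk).map g.toMonoidHom = (Φ ⊔ Φ₁).map mk := by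
    rw [hgmap, Subgroup.map_sup]
  obtain ⟨hr1, hr2⟩ := hjt (T ⧸ Ψ) (hT.to_quotient Ψ) g (mk τ) hgp
    (E := E.map mk) (D := D.map mk) (A := Φ.map mk) (x := mk x₀) (t := mk t₀)
    (by rw [hindex E hΨE, hEi])
    (by rw [hgmap, ← Subgroup.map_sup, hsup, Subgroup.map_top_of_surjective _ hsurj])
    (by
      intro u
      obtain ⟨z, rfl⟩ := hsurj u
      rw [hmem D hΨDle, hgmap, hmem E hΨE, hmem E₁ hΨE₁]
      rfl)
    (by
      intro u
      obtain ⟨z, rfl⟩ := hsurj u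
      rw [hg, hmem D hΨDle, hmem D hΨDle]
      exact hσD z)
    (by rw [hindex D hΨDle, hDindex])
    (Subgroup.map_mono hΦD)
    (by
      rintro _ ⟨z, hz, rfl⟩ w
      obtain ⟨w', rfl⟩ := hsurj w
      rw [← map_commutatorElement, ← MonoidHom.mem_ker, hker]
      exact hcentral z hz w')
    (by
      rintro _ ⟨a, ha, rfl⟩ _ ⟨b, hb, rfl⟩
      rw [← map_commutatorElement]
      exact ⟨_, comm_mem_frat hEp ha hb, rfl⟩)
    (by
      rintro _ ⟨a, ha, rfl⟩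
      rw [← map_pow]
      exact ⟨_, pow_mem_frat hEp ha, rfl⟩)
    (by
      rintro _ ⟨z, hz, rfl⟩ h
      rw [hg, hmem Φ hΨΦle] at h
      have h1 : σ z ∈ Ψ := ⟨h, ⟨z, hz, rfl⟩⟩
      rw [← hΨmap] at h1
      obtain ⟨z', hz', hzz⟩ := h1
      have : z' = z := σ.injective hzz
      rw [← MonoidHom.mem_ker, hker, ← this]
      exact hz')
    (by
      rw [hYeq, ← Subgroup.relIndex_comap, Subgroup.comap_map_eq_self (by rw [hker]; exact hΨsup)]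
      exact hY1')
    (by
      rw [hYeq, ← Subgroup.relIndex_bot_left, ← Subgroup.relIndex_comap, show (⊥ : Subgroup (T ⧸ Ψ)).comap mk = mk.ker from rfl]
      rw [hker]
      exact hY2')
    ⟨x₀, hx₀, rfl⟩
    (by rw [hmem E hΨE]; exact ht₀)
    (by
      rw [← map_commutatorElement, ← map_commutatorElement, hmem Φ hΨΦle]
      exact hJ₀)
  refine ⟨x₀, t₀, Ψ, hΨn, hΨΦle, hFrat2, hx₀, ht₀, hJ₀, ?_, ?_⟩
  · intro h
    apply hr1
    rw [← map_commutatorElement, ← map_commutatorElement, ← MonoidHom.mem_ker, hker]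
    exact h
  · rw [← map_pow, ← MonoidHom.mem_ker, hker] at hr2
    exact hr2

end JTFront
end Cfsg.Agent.Lib.S5180
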