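import Mathlib

/-! Piece JT2 of S5180: the commutator `⁅⁅x,t⁆,x⁆` does not vanish. -/

set_option autoImplicit false
set_option linter.unusedSectionVars false
set_option linter.style.haveILetI false
set_option linter.unusedVariables false
open scoped commutatorElement

namespace Cfsg.Agent.Lib.S5180

universe u

variable {T : Type u} [Group T] [Finite T] {p : ℕ} [Fact p.Prime]

namespace JTQ1Aux

theorem eq_of_between {H K M : Subgroup T} (hHM : H ≤ M) (hMK : M ≤ K) (hr : H.relIndex K = p)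
    {x : T} (hx : x ∈ M) (hxH : x ∉ H) : M = K := by
  have hpp : p.Prime := Fact.out
  have h := Subgroup.relIndex_mul_relIndex H M K hHM hMK
  rw [hr] at h
  have hdvd : H.relIndex M ∣ p := ⟨_, h.symm⟩
  rcases (Nat.dvd_prime hpp).mp hdvd with h1 | h1
  · exact absurd (Subgroup.relIndex_eq_one.mp h1 hx) hxH
  · rw [h1] at h
    have h2 : M.relIndex K = 1 := by
      have hp0 := hpp.pos
      nlinarith
    exact le_antisymm hMK (Subgroup.relIndex_eq_one.mp h2)

end JTQ1Aux

open JTQ1Aux in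
theorem jt_Q1 (hp5 : 5 ≤ p) (hQ : IsPGroup p T) (g : MulAut T) (τ : T) (hgp : g ^ p = MulAut.conj τ)
    {E D A : Subgroup T} (hEi : E.index = p) (hEE : E ⊔ E.map g.toMonoidHom = ⊤)
    (hD : ∀ u, u ∈ D ↔ u ∈ E ∧ u ∈ E.map g.toMonoidHom) (hgD : ∀ u, g u ∈ D ↔ u ∈ D)
    (hDi : D.index = p ^ 2) (hAD : A ≤ D) (hAc : ∀ a ∈ A, ∀ w : T, ⁅a, w⁆ = 1)
    (hEc : ∀ u ∈ E, ∀ v ∈ E, ⁅u, v⁆ ∈ A) (hEp : ∀ u ∈ E, u ^ p ∈ A)
    (hA1 : ∀ a ∈ A, g a ∈ A → a = 1) (hY1 : (A ⊔ A.map g.toMonoidHom).relIndex D = p)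
    (hY2 : Nat.card ↥(A ⊔ A.map g.toMonoidHom) = p ^ 2) {x t : T} (hx : x ∈ E) (ht : t ∉ E)
    (hJ : ⁅⁅x, t⁆, t⁆ ∉ A) : ⁅⁅x, t⁆, x⁆ ≠ 1 := by
  classical
  intro hcx
  have hpp : p.Prime := Fact.out
  -- `E` is normal
  have hEn : E.Normal := by
    apply Subgroup.normal_of_index_eq_minFac_card
    obtain ⟨n, hn⟩ := IsPGroup.iff_card.mp hQ
    have hn0 : n ≠ 0 := by
      rintro rfl
      rw [pow_zero] at hn
      have h1 : E.index ∣ Nat.card T := Subgroup.index_dvd_card E
      rw [hn, hEi] at h1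
      exact hpp.one_lt.ne' (Nat.dvd_one.mp h1)
    rw [hn, hEi, hpp.pow_minFac hn0]
  have hEab : ∀ a b : T, ⁅a, b⁆ ∈ E := by
    intro a b
    have hcard : Nat.card (T ⧸ E) = p := by rw [← Subgroup.index_eq_card]; exact hEi
    haveI : Fact (Nat.card (T ⧸ E)).Prime := ⟨hcard ▸ hpp⟩
    haveI : IsCyclic (T ⧸ E) := isCyclic_of_prime_card rfl
    have hc : (a : T ⧸ E) * b = b * a := by
      obtain ⟨y, hy⟩ := IsCyclic.exists_generator (α := T ⧸ E)
      obtain ⟨i, hi⟩ := Subgroup.mem_zpowers_iff.mp (hy (a : T ⧸ E))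
      obtain ⟨j, hj⟩ := Subgroup.mem_zpowers_iff.mp (hy (b : T ⧸ E))
      rw [← hi, ← hj, ← zpow_add, ← zpow_add, add_comm]
    rw [← QuotientGroup.eq_one_iff]
    rw [commutatorElement_def]
    simp only [QuotientGroup.mk_mul, QuotientGroup.mk_inv]
    rw [hc]
    group
  have hDE : D ≤ E := fun u hu => ((hD u).mp hu).1
  have hgmem : ∀ u, u ∈ E.map g.toMonoidHom ↔ g.symm u ∈ E := by
    intro u
    constructor
    · rintro ⟨v, hv, rfl⟩
      simpa using hv
    · intro hu
      exact ⟨g.symm u, hu, by simp⟩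
  have hgA : ∀ u, u ∈ A.map g.toMonoidHom ↔ g.symm u ∈ A := by
    intro u
    constructor
    · rintro ⟨v, hv, rfl⟩
      simpa using hv
    · intro hu
      exact ⟨g.symm u, hu, by simp⟩
  -- the commutator
  have hcD : ⁅x, t⁆ ∈ D := by
    refine (hD _).mpr ⟨hEab _ _, (hgmem _).mpr ?_⟩
    rw [map_commutatorElement]
    exact hEab _ _
  -- central subgroup
  let A₁ := A.map g.toMonoidHom
  let Y := A ⊔ A₁
  have hAcen : A ≤ Subgroup.center T := by
    intro a ha
    rw [Subgroup.mem_center_iff]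
    intro w
    have := hAc a ha w
    rw [commutatorElement_eq_one_iff_mul_comm] at this
    exact this.symm
  have hA₁cen : A₁ ≤ Subgroup.center T := by
    rintro _ ⟨b, hb, rfl⟩
    rw [Subgroup.mem_center_iff]
    intro w
    have hb' := Subgroup.mem_center_iff.mp (hAcen hb) (g.symm w)
    have := congrArg g hb'
    simpa using this
  have hYcen : Y ≤ Subgroup.center T := sup_le hAcen hA₁cen
  have hYD : Y ≤ D := by
    refine sup_le hAD ?_
    rintro _ ⟨b, hb, rfl⟩
    exact (hgD b).mpr (hAD hb)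
  -- `c` not in `Y`
  have hcnY : ⁅x, t⁆ ∉ Y := by
    intro h
    apply hJ
    have h1 := Subgroup.mem_center_iff.mp (hYcen h) t
    have h2 : ⁅⁅x, t⁆, t⁆ = 1 := by
      rw [commutatorElement_eq_one_iff_mul_comm]
      exact h1.symm
    rw [h2]
    exact A.one_mem
  -- `x` centralizes `D`
  let Cx : Subgroup T := Subgroup.centralizer ({x} : Set T)
  have hmemCx : ∀ u, u ∈ Cx ↔ u * x = x * u := by
    intro u
    rw [Subgroup.mem_centralizer_singleton_iff]
  have hDCx : D ≤ Cx := by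
    have hM : Cx ⊓ D = D := by
      refine eq_of_between (H := Y) (K := D) (M := Cx ⊓ D) (le_inf ?_ hYD) inf_le_right hY1
        (x := ⁅x, t⁆) ⟨?_, hcD⟩ hcnY
      · intro y hy
        exact (hmemCx y).mpr (Subgroup.mem_center_iff.mp (hYcen hy) x).symm
      · refine (hmemCx _).mpr ?_
        rw [commutatorElement_eq_one_iff_mul_comm] at hcx
        exact hcx
    exact inf_eq_right.mp hM
  -- `x ∉ D`
  have hxD : x ∉ D := by
    intro hxD
    apply hcnY
    have ht' : t ∈ E ⊔ E.map g.toMonoidHom := by rw [hEE]; trivial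
    have ht'' : t ∈ ((E ⊔ E.map g.toMonoidHom : Subgroup T) : Set T) := ht'
    rw [Subgroup.normal_mul] at ht''
    obtain ⟨a, ha, b, hb, rfl⟩ := Set.mem_mul.mp ht''
    have h1 : ⁅x, a⁆ ∈ A := hEc x hx a ha
    have h2 : ⁅x, b⁆ ∈ A₁ := by
      refine (hgA _).mpr ?_
      rw [map_commutatorElement]
      exact hEc _ ((hgmem _).mp ((hD x).mp hxD).2) _ ((hgmem _).mp hb)
    have h3 : ⁅x, a * b⁆ = ⁅x, a⁆ * (a * ⁅x, b⁆ * a⁻¹) := by
      simp only [commutatorElement_def]
      group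
    rw [h3]
    have h4 : a * ⁅x, b⁆ * a⁻¹ = ⁅x, b⁆ := by
      have := Subgroup.mem_center_iff.mp (hA₁cen h2) a
      rw [this]
      group
    rw [h4]
    exact Y.mul_mem (Subgroup.mem_sup_left h1) (Subgroup.mem_sup_right h2)
  -- `D` abelian
  have hDab : ∀ u ∈ D, ∀ v ∈ D, u * v = v * u := by
    intro u hu v hv
    have h1 : ⁅u, v⁆ ∈ A := hEc u (hDE hu) v (hDE hv)
    have h2 : g.symm ⁅u, v⁆ ∈ A := by
      rw [map_commutatorElement]
      exact hEc _ ((hgmem _).mp ((hD u).mp hu).2) _ ((hgmem _).mp ((hD v).mp hv).2)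
    have h3 : g.symm ⁅u, v⁆ = 1 := hA1 _ h2 (by simpa using h1)
    have h4 : ⁅u, v⁆ = 1 := by
      have := congrArg g h3
      simpa using this
    exact commutatorElement_eq_one_iff_mul_comm.mp h4
  -- centralizer of `D`
  let Cen : Subgroup T := Subgroup.centralizer (D : Set T)
  have hmemCen : ∀ u, u ∈ Cen ↔ ∀ d ∈ D, d * u = u * d := by
    intro u
    exact Subgroup.mem_centralizer_iff
  have hrel : D.relIndex E = p := by
    have h := Subgroup.relIndex_mul_index hDE
    rw [hDi, hEi] at h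
    have hp0 := hpp.pos
    have : D.relIndex E * p = p * p := by rw [h]; ring
    exact Nat.eq_of_mul_eq_mul_right hp0 this
  have hxCen : x ∈ Cen := by
    refine (hmemCen x).mpr fun d hd => ?_
    exact ((hmemCx d).mp (hDCx hd))
  have hECen : E ≤ Cen := by
    have hM : Cen ⊓ E = E := by
      refine eq_of_between (H := D) (K := E) (M := Cen ⊓ E) (le_inf ?_ hDE) inf_le_right hrel
        (x := x) ⟨hxCen, hx⟩ hxD
      intro u hu
      exact (hmemCen u).mpr fun d hd => hDab d hd u hu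
    exact inf_eq_right.mp hM
  have htCen : t ∉ Cen := by
    intro h
    have := (hmemCen t).mp h _ hcD
    apply hJ
    have h2 : ⁅⁅x, t⁆, t⁆ = 1 := commutatorElement_eq_one_iff_mul_comm.mpr this
    rw [h2]
    exact A.one_mem
  have hCenE : Cen = E := by
    refine le_antisymm ?_ hECen
    intro u hu
    by_contra huE
    have hrelT : E.relIndex ⊤ = p := by rw [Subgroup.relIndex_top_right]; exact hEi
    have hCtop : Cen = ⊤ := eq_of_between (H := E) (K := ⊤) (M := Cen) hECen le_top hrelT hu huE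
    exact htCen (by rw [hCtop]; trivial)
  -- `E` is `g`-invariant
  have hgCen : ∀ u, u ∈ Cen → g u ∈ Cen := by
    intro u hu
    refine (hmemCen _).mpr fun d hd => ?_
    have hd' : g.symm d ∈ D := by
      rw [← hgD]
      simpa using hd
    have := (hmemCen u).mp hu _ hd'
    have h2 := congrArg g this
    simpa using h2
  have hEg : E.map g.toMonoidHom ≤ E := by
    rintro _ ⟨v, hv, rfl⟩
    rw [← hCenE] at hv ⊢
    exact hgCen v hv
  apply ht
  have : E = ⊤ := by
    rw [← hEE]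
    exact (sup_eq_left.mpr hEg).symm
  rw [this]
  trivial

end Cfsg.Agent.Lib.S5180
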