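import Mathlib
import Cfsg.Agent.Lib.S5180.Defs
import Cfsg.Agent.Lib.S5180.Basic
import Cfsg.Agent.Lib.PGroup.ClassThree

set_option autoImplicit false
set_option linter.unusedVariables false

/-! S5180 piece JT4 (backup statement): the `p`-th power of `x` vanishes. -/

open scoped commutatorElement

namespace Cfsg.Agent.Lib.S5180
namespace JTQ3Aux
universe u
variable {T : Type u} [Group T]

/-- the elements whose commutator with `v` lies in the central subgroup `Y` -/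
def HH (Y : Subgroup T) (hYc : ∀ v ∈ Y, ∀ w : T, ⁅v, w⁆ = 1) (v : T) : Subgroup T where
  carrier := {w | ⁅w, v⁆ ∈ Y}
  one_mem' := by
    show ⁅(1 : T), v⁆ ∈ Y
    rw [commutatorElement_one_left]
    exact Y.one_mem
  mul_mem' := by
    intro a b ha hb
    have hb' : ∀ w : T, w * ⁅b, v⁆ = ⁅b, v⁆ * w :=
      fun w => (commutatorElement_eq_one_iff_mul_comm.1 (hYc _ hb w)).symm
    have h : ⁅a * b, v⁆ = ⁅b, v⁆ * ⁅a, v⁆ := by
      have e : ⁅a * b, v⁆ = a * ⁅b, v⁆ * a⁻¹ * ⁅a, v⁆ := by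
        simp only [commutatorElement_def]; group
      rw [e, hb' a, mul_inv_cancel_right]
    show ⁅a * b, v⁆ ∈ Y
    rw [h]
    exact Y.mul_mem hb ha
  inv_mem' := by
    intro a ha
    show ⁅a⁻¹, v⁆ ∈ Y
    have e : ⁅a⁻¹, v⁆ = a⁻¹ * ⁅a, v⁆⁻¹ * a := by
      simp only [commutatorElement_def]; group
    have ha' : ∀ w : T, w * ⁅a, v⁆⁻¹ = ⁅a, v⁆⁻¹ * w :=
      fun w => (commutatorElement_eq_one_iff_mul_comm.1 (hYc _ (Y.inv_mem ha) w)).symm
    rw [e, ha' a⁻¹, inv_mul_cancel_right]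
    exact Y.inv_mem ha

theorem max_aux {p : ℕ} (hp : p.Prime) {D F W : Subgroup T} (hDF : D ≤ F) (hi : D.relIndex F = p)
    {u : T} (huF : u ∈ F) (huD : u ∉ D) (hDW : D ≤ W) (huW : u ∈ W) : F ≤ W := by
  have h1 : D ≤ F ⊓ W := le_inf hDF hDW
  have h2 : F ⊓ W ≤ F := inf_le_left
  have h3 := Subgroup.relIndex_mul_relIndex D (F ⊓ W) F h1 h2
  rw [hi] at h3
  rcases (Nat.dvd_prime hp).1 (Dvd.intro _ h3) with h4 | h4
  · exfalso
    have : F ⊓ W ≤ D := Subgroup.relIndex_eq_one.1 h4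
    exact huD (this ⟨huF, huW⟩)
  · rw [h4] at h3
    have h5 : (F ⊓ W).relIndex F = 1 := by
      have : p * (F ⊓ W).relIndex F = p * 1 := by rw [h3, mul_one]
      exact Nat.eq_of_mul_eq_mul_left hp.pos this
    have h6 : F ≤ F ⊓ W := Subgroup.relIndex_eq_one.1 h5
    exact h6.trans inf_le_right

theorem comm_mul_left_central {v c w : T} (hv : ∀ z : T, z * v = v * z) : ⁅v * c, w⁆ = ⁅c, w⁆ := by
  have e : ⁅v * c, w⁆ = v * ⁅c, w⁆ * v⁻¹ * (v * w * v⁻¹ * w⁻¹) := by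
    simp only [commutatorElement_def]; group
  have h1 : v * w * v⁻¹ * w⁻¹ = 1 := by rw [← hv w]; group
  rw [e, h1, mul_one, ← hv ⁅c, w⁆, mul_inv_cancel_right]

end JTQ3Aux

open JTQ3Aux in
theorem jt_Q3 {T : Type*} [Group T] [Finite T] {p : ℕ} [Fact p.Prime]
    (hp5 : 5 ≤ p) (hQ : IsPGroup p T) (g : MulAut T) (τ : T) (hgp : g ^ p = MulAut.conj τ)
    {E D A : Subgroup T} (hEi : E.index = p) (hEE : E ⊔ E.map g.toMonoidHom = ⊤)
    (hD : ∀ u, u ∈ D ↔ u ∈ E ∧ u ∈ E.map g.toMonoidHom) (hgD : ∀ u, g u ∈ D ↔ u ∈ D)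
    (hDi : D.index = p ^ 2) (hAD : A ≤ D) (hAc : ∀ a ∈ A, ∀ w : T, ⁅a, w⁆ = 1)
    (hEc : ∀ u ∈ E, ∀ v ∈ E, ⁅u, v⁆ ∈ A) (hEp : ∀ u ∈ E, u ^ p ∈ A)
    (hA1 : ∀ a ∈ A, g a ∈ A → a = 1) (hY1 : (A ⊔ A.map g.toMonoidHom).relIndex D = p)
    {x t : T} (hx : x ∈ E) (ht : t ∉ E) (hJ : ⁅⁅x, t⁆, t⁆ ∉ A)
    (hN1 : ⁅⁅x, t⁆, x⁆ ≠ 1)
    (hF : ∀ d ∈ D, g d * d⁻¹ ∈ A ⊔ A.map g.toMonoidHom)
    (h1 : (g ^ p) (x⁻¹ * g x) = x⁻¹ * g x)
    (h2 : (g ^ p) x = x * (x⁻¹ * g x) ^ p) : x ^ p = 1 := by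
  have hp : p.Prime := Fact.out
  obtain ⟨Y, hYdef⟩ : ∃ Y : Subgroup T, Y = A ⊔ A.map g.toMonoidHom := ⟨_, rfl⟩
  rw [← hYdef] at hY1 hF
  have hmemg : ∀ u, u ∈ E.map g.toMonoidHom ↔ g.symm u ∈ E := fun u => Subgroup.mem_map_equiv
  have hYcent : Y ≤ Subgroup.center T := by
    rw [hYdef]
    refine sup_le ?_ ?_
    · intro a ha
      rw [Subgroup.mem_center_iff]
      intro w
      exact (commutatorElement_eq_one_iff_mul_comm.1 (hAc a ha w)).symm
    · rintro _ ⟨a, ha, rfl⟩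
      rw [Subgroup.mem_center_iff]
      intro w
      have h3 := commutatorElement_eq_one_iff_mul_comm.1 (hAc a ha (g.symm w))
      have h4 := congrArg g h3
      simp only [map_mul, MulEquiv.apply_symm_apply] at h4
      exact h4.symm
  have hYz : ∀ v ∈ Y, ∀ w : T, w * v = v * w := fun v hv w => Subgroup.mem_center_iff.1 (hYcent hv) w
  have hYc : ∀ v ∈ Y, ∀ w : T, ⁅v, w⁆ = 1 :=
    fun v hv w => commutatorElement_eq_one_iff_mul_comm.2 (hYz v hv w).symm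
  have hYD : Y ≤ D := by
    rw [hYdef]
    refine sup_le hAD ?_
    rintro _ ⟨a, ha, rfl⟩
    exact (hgD a).2 (hAD ha)
  have hAY : A ≤ Y := by rw [hYdef]; exact le_sup_left
  have hgAY : ∀ a ∈ A, g a ∈ Y := by
    intro a ha
    rw [hYdef]
    exact Subgroup.mem_sup_right ⟨a, ha, rfl⟩
  have hTp : IsPGroup p ↥(⊤ : Subgroup T) := hQ.to_subgroup ⊤
  have hFE : Frat (⊤ : Subgroup T) ≤ E :=
    frat_le_of_relIndex hTp le_top (by rw [Subgroup.relIndex_top_right]; exact hEi)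
  have hcE : ∀ u v : T, ⁅u, v⁆ ∈ E :=
    fun u v => hFE (comm_mem_frat hTp (Subgroup.mem_top u) (Subgroup.mem_top v))
  have hpE : ∀ u : T, u ^ p ∈ E := fun u => hFE (pow_mem_frat hTp (Subgroup.mem_top u))
  have hcommD : ∀ u v : T, ⁅u, v⁆ ∈ D := fun u v =>
    (hD _).2 ⟨hcE u v, (hmemg _).2 (by rw [map_commutatorElement]; exact hcE _ _)⟩
  have hpowD : ∀ u : T, u ^ p ∈ D := fun u =>
    (hD _).2 ⟨hpE u, (hmemg _).2 (by rw [map_pow]; exact hpE _)⟩
  have hDE : D ≤ E := fun u hu => ((hD u).1 hu).1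
  have hDgE : D ≤ E.map g.toMonoidHom := fun u hu => ((hD u).1 hu).2
  have hDexp : ∀ u ∈ D, u ^ p = 1 := by
    intro u hu
    have hu1 := (hD u).1 hu
    have ha : (g.symm u) ^ p ∈ A := hEp _ ((hmemg u).1 hu1.2)
    have hb : g ((g.symm u) ^ p) = u ^ p := by rw [map_pow, MulEquiv.apply_symm_apply]
    have hc := hA1 _ ha (by rw [hb]; exact hEp u hu1.1)
    rw [← hb, hc, map_one]
  have hDab : ∀ u ∈ D, ∀ v ∈ D, ⁅u, v⁆ = 1 := by
    intro u hu v hv
    have hu1 := (hD u).1 hu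
    have hv1 := (hD v).1 hv
    have ha : ⁅g.symm u, g.symm v⁆ ∈ A := hEc _ ((hmemg u).1 hu1.2) _ ((hmemg v).1 hv1.2)
    have hb : g ⁅g.symm u, g.symm v⁆ = ⁅u, v⁆ := by
      rw [map_commutatorElement, MulEquiv.apply_symm_apply, MulEquiv.apply_symm_apply]
    have hc := hA1 _ ha (by rw [hb]; exact hEc u hu1.1 v hv1.1)
    rw [← hb, hc, map_one]
  have hDT : ∀ d ∈ D, ∀ z : T, ⁅z, d⁆ ∈ Y := by
    intro d hd z
    have hle : E ⊔ E.map g.toMonoidHom ≤ HH Y hYc d := by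
      refine sup_le ?_ ?_
      · intro z hz
        exact hAY (hEc z hz d (hDE hd))
      · intro z hz
        show ⁅z, d⁆ ∈ Y
        have h3 := hEc _ ((hmemg z).1 hz) _ ((hmemg d).1 (hDgE hd))
        have h4 : g ⁅g.symm z, g.symm d⁆ = ⁅z, d⁆ := by
          rw [map_commutatorElement, MulEquiv.apply_symm_apply, MulEquiv.apply_symm_apply]
        rw [← h4]
        exact hgAY _ h3
    rw [hEE] at hle
    exact hle (Subgroup.mem_top z)
  have hDT' : ∀ d ∈ D, ∀ z : T, ⁅d, z⁆ ∈ Y := by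
    intro d hd z
    rw [← commutatorElement_inv]
    exact Y.inv_mem (hDT d hd z)
  have hc1 : commutator T ≤ D := by
    rw [commutator_def]
    exact Subgroup.commutator_le.2 fun u _ v _ => hcommD u v
  have hc2 : ⁅commutator T, (⊤ : Subgroup T)⁆ ≤ Y :=
    Subgroup.commutator_le.2 fun d hd z _ => hDT' d (hc1 hd) z
  have hcl : ⁅⁅commutator T, (⊤ : Subgroup T)⁆, (⊤ : Subgroup T)⁆ = ⊥ := by
    rw [eq_bot_iff]
    exact Subgroup.commutator_le.2 fun v hv z _ => Subgroup.mem_bot.2 (hYc v (hc2 hv) z)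
  have hp2 : p ≠ 2 := by omega
  have hpowf : ∀ u v : T, (u * v) ^ p = u ^ p * v ^ p := fun u v =>
    Cfsg.Agent.Lib.PGroup.ClassThree.mul_pow_eq_of_comm hcl hp hp2 u v (Or.inl (by omega))
      (hDexp _ (hcommD _ _)) (hDexp _ (hcommD _ _)) (hDexp _ (hcommD _ _))
  obtain ⟨c, hcdef⟩ : ∃ c : T, c = ⁅x, t⁆ := ⟨_, rfl⟩
  rw [← hcdef] at hJ hN1
  have hcD : c ∈ D := by rw [hcdef]; exact hcommD x t
  have hcY : c ∉ Y := by
    intro h
    apply hJ
    rw [hYc c h t]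
    exact A.one_mem
  have hxD : x ∉ D := fun h => hN1 (hDab _ hcD _ h)
  have hDrelE : D.relIndex E = p := by
    have h3 := Subgroup.relIndex_mul_index hDE
    rw [hEi, hDi] at h3
    exact Nat.eq_of_mul_eq_mul_right hp.pos (by rw [h3, sq])
  have hgEi : (E.map g.toMonoidHom).index = p := by
    rw [Subgroup.index_map_of_bijective (f := g.toMonoidHom) g.bijective E]
    exact hEi
  have hDrelgE : D.relIndex (E.map g.toMonoidHom) = p := by
    have h3 := Subgroup.relIndex_mul_index hDgE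
    rw [hgEi, hDi] at h3
    exact Nat.eq_of_mul_eq_mul_right hp.pos (by rw [h3, sq])
  have hkey : ∀ d ∈ D, ∀ v : T, ⁅d, v⁆ = 1 → ⁅c, v⁆ ≠ 1 → d ∈ Y := by
    intro d hd v hdv hcv
    by_contra hdY
    have hWmem : ∀ z : T, z ∈ Subgroup.centralizer ({v} : Set T) ↔ ⁅z, v⁆ = 1 := by
      intro z
      rw [Subgroup.mem_centralizer_singleton_iff, commutatorElement_eq_one_iff_mul_comm]
    have hW : D ≤ Subgroup.centralizer ({v} : Set T) :=
      max_aux hp hYD hY1 hd hdY (fun z hz => (hWmem z).2 (hYc z hz v)) ((hWmem d).2 hdv)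
    exact hcv ((hWmem c).1 (hW hcD))
  obtain ⟨y, hydef⟩ : ∃ y : T, y = x⁻¹ * g x := ⟨_, rfl⟩
  rw [← hydef] at h1 h2
  have hgx : g x = x * y := by rw [hydef, mul_inv_cancel_left]
  -- `c` does not commute with `y`
  have hcy : ⁅c, y⁆ ≠ 1 := by
    intro hcy
    have hcomm_cy : Commute c y := commutatorElement_eq_one_iff_mul_comm.1 hcy
    have h3 : y * c⁻¹ * y⁻¹ = c⁻¹ := by
      have h5 : c⁻¹ * y = y * c⁻¹ := (hcomm_cy.inv_left).eq
      rw [← h5, mul_inv_cancel_right]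
    have e2 : ⁅c, x * y⁆ = ⁅c, x⁆ := by
      simp only [commutatorElement_def]
      calc c * (x * y) * c⁻¹ * (x * y)⁻¹ = c * x * (y * c⁻¹ * y⁻¹) * x⁻¹ := by group
        _ = c * x * c⁻¹ * x⁻¹ := by rw [h3]
    have hgc : g c = (g c * c⁻¹) * c := by group
    have hfix : g ⁅c, x⁆ = ⁅c, x⁆ := by
      rw [map_commutatorElement, hgx, hgc, comm_mul_left_central (hYz _ (hF c hcD)), e2]
    have ha : ⁅c, x⁆ ∈ A := hEc c (hDE hcD) x hx
    exact hN1 (hA1 _ ha (by rw [hfix]; exact ha))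
  -- `y ^ p` commutes with `x`
  have hxyx : x * y ^ p * x⁻¹ = y ^ p := by
    have e : x * y * x⁻¹ = ⁅x, y⁆ * y := by
      simp only [commutatorElement_def]; group
    rw [← conj_pow, e, hpowf, hDexp _ (hcommD x y), one_mul]
  have hypx : ⁅y ^ p, x⁆ = 1 := by
    rw [commutatorElement_eq_one_iff_mul_comm]
    have := mul_inv_eq_iff_eq_mul.1 hxyx
    exact this.symm
  have hypY : y ^ p ∈ Y := hkey _ (hpowD y) x hypx hN1
  -- the subgroup `HH x`
  have hDW : ∀ v : T, D ≤ HH Y hYc v := fun v d hd => hDT' d hd v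
  have hxW : x ∈ HH Y hYc x := by
    show ⁅x, x⁆ ∈ Y
    rw [commutatorElement_self]
    exact Y.one_mem
  have hEW : E ≤ HH Y hYc x := max_aux hp hDE hDrelE hx hxD (hDW x) hxW
  have htW : t ∉ HH Y hYc x := by
    intro h
    apply hcY
    rw [hcdef, ← commutatorElement_inv]
    exact Y.inv_mem h
  have hxyY : ⁅x, y⁆ ∉ Y := by
    intro hxy
    have hyW : y ∈ HH Y hYc x := by
      show ⁅y, x⁆ ∈ Y
      rw [← commutatorElement_inv]
      exact Y.inv_mem hxy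
    have hgxW : g x ∈ HH Y hYc x := by
      rw [hgx]
      exact (HH Y hYc x).mul_mem hxW hyW
    have hgxE : g x ∈ E.map g.toMonoidHom := ⟨x, hx, rfl⟩
    have hgxD : g x ∉ D := fun h => hxD ((hgD x).1 h)
    have hgEW : E.map g.toMonoidHom ≤ HH Y hYc x :=
      max_aux hp hDgE hDrelgE hgxE hgxD (hDW x) hgxW
    have htop : E ⊔ E.map g.toMonoidHom ≤ HH Y hYc x := sup_le hEW hgEW
    rw [hEE] at htop
    exact htW (htop (Subgroup.mem_top t))
  have hgpv : ∀ v : T, (g ^ p) v = τ * v * τ⁻¹ := fun v => by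
    rw [hgp]
    rfl
  rw [hgpv] at h1 h2
  have hτy : ⁅τ, y⁆ = 1 := by
    rw [commutatorElement_def, h1, mul_inv_cancel]
  have hτx : ⁅τ, x⁆ = y ^ p := by
    rw [commutatorElement_def, h2, hxyx]
  have hτW : τ ∈ HH Y hYc x := by
    show ⁅τ, x⁆ ∈ Y
    rw [hτx]
    exact hypY
  have hτE : τ ∈ E := by
    by_contra hne
    have hi : E.relIndex ⊤ = p := by rw [Subgroup.relIndex_top_right]; exact hEi
    have htop : (⊤ : Subgroup T) ≤ HH Y hYc x :=
      max_aux hp le_top hi (Subgroup.mem_top τ) hne hEW hτW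
    exact htW (htop (Subgroup.mem_top t))
  have hτD : τ ∈ D := by
    by_contra hne
    have hτWy : τ ∈ HH Y hYc y := by
      show ⁅τ, y⁆ ∈ Y
      rw [hτy]
      exact Y.one_mem
    have hEWy : E ≤ HH Y hYc y := max_aux hp hDE hDrelE hτE hne (hDW y) hτWy
    exact hxyY (hEWy hx)
  have hτY : τ ∈ Y := hkey τ hτD y hτy hcy
  have hyp1 : y ^ p = 1 := by
    rw [← hτx]
    exact hYc τ hτY x
  have ha : x ^ p ∈ A := hEp x hx
  refine hA1 _ ha ?_
  rw [map_pow, hgx, hpowf, hyp1, mul_one]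
  exact ha

end Cfsg.Agent.Lib.S5180
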