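import Cfsg.Agent.Lib.S5180.JTQD
import Cfsg.Agent.Lib.S5180.JTQ1
import Cfsg.Agent.Lib.S5180.JTQ3
import Cfsg.Agent.Lib.S5180.JTFront

/-! S5180 JT: assembly of the quotient lemma and `caseJ_T`. -/

set_option autoImplicit false
open scoped commutatorElement
open Cfsg

namespace Cfsg.Agent.Lib.S5180
universe u

section JT

theorem jt_Q {T : Type u} [Group T] [Finite T] {p : ℕ} [Fact p.Prime]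
    (hp5 : 5 ≤ p) (hQ : IsPGroup p T) (g : MulAut T) (τ : T) (hgp : g ^ p = MulAut.conj τ)
    {E D A : Subgroup T} (hEi : E.index = p) (hEE : E ⊔ E.map g.toMonoidHom = ⊤)
    (hD : ∀ u, u ∈ D ↔ u ∈ E ∧ u ∈ E.map g.toMonoidHom) (hgD : ∀ u, g u ∈ D ↔ u ∈ D)
    (hDi : D.index = p ^ 2) (hAD : A ≤ D) (hAc : ∀ a ∈ A, ∀ w : T, ⁅a, w⁆ = 1)
    (hEc : ∀ u ∈ E, ∀ v ∈ E, ⁅u, v⁆ ∈ A) (hEp : ∀ u ∈ E, u ^ p ∈ A)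
    (hA1 : ∀ a ∈ A, g a ∈ A → a = 1) (hY1 : (A ⊔ A.map g.toMonoidHom).relIndex D = p)
    (hY2 : Nat.card ↥(A ⊔ A.map g.toMonoidHom) = p ^ 2) {x t : T} (hx : x ∈ E) (ht : t ∉ E)
    (hJ : ⁅⁅x, t⁆, t⁆ ∉ A) : ⁅⁅x, t⁆, x⁆ ≠ 1 ∧ x ^ p = 1 := by
  have hN1 := jt_Q1 hp5 hQ g τ hgp hEi hEE hD hgD hDi hAD hAc hEc hEp hA1 hY1 hY2 hx ht hJ
  obtain ⟨hF, h1, h2⟩ := jt_Qdata hp5 hQ g τ hgp hEi hEE hD hgD hDi hAD hAc hEc hEp hA1 hY1 hY2 ht hJ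
  exact ⟨hN1, jt_Q3 hp5 hQ g τ hgp hEi hEE hD hgD hDi hAD hAc hEc hEp hA1 hY1 hx ht hJ hN1 hF h1 h2⟩

end JT

section Pure
variable {T : Type u} [Group T] [Finite T] {p : ℕ} [Fact p.Prime]

theorem caseJ_T (hp : 5 ≤ p) (hT : IsPGroup p T) (hsr : SectionalPRankLE p 3 T) {E : Subgroup T}
    (hEi : E.index = p) (hrk : (Frat E).relIndex E = p ^ 3) {σ : MulAut T} {τ : T}
    (hσ : E.map σ.toMonoidHom ≠ E) (hσp : σ ^ p = MulAut.conj τ) {x₀ t₀ : T} (hx₀ : x₀ ∈ E)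
    (ht₀ : t₀ ∉ E) (hJ₀ : ⁅⁅x₀, t₀⁆, t₀⁆ ∉ Frat E) :
    ∃ (x t : T) (Ψ : Subgroup T), Ψ.Normal ∧ Ψ ≤ Frat E ∧ Frat2 E ≤ Ψ ∧ x ∈ E ∧ t ∉ E ∧
      ⁅⁅x, t⁆, t⁆ ∉ Frat E ∧ ⁅⁅x, t⁆, x⁆ ∉ Ψ ∧ x ^ p ∈ Ψ :=
  JTFront.caseJ_T_of_Q (fun Q _ _ hQ g τ hgp _ _ _ hEi hEE hD hgD hDi hAD hAc hEc hEp hA1 hY1 hY2 _ _ hx ht hJ =>
    jt_Q hp hQ g τ hgp hEi hEE hD hgD hDi hAD hAc hEc hEp hA1 hY1 hY2 hx ht hJ)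
    hT hsr hEi hrk hσ hσp hx₀ ht₀ hJ₀

end Pure
end Cfsg.Agent.Lib.S5180
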