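import Mathlib

/-! S5180 JT core: the `p`-th power of an automorphism on a class three configuration. -/

set_option autoImplicit false

namespace Cfsg.Agent.Lib.S5180.JTCore

section
variable {A : Type*} [CommGroup A] (n a : A →* A)

def Gk (k : ℕ) (v : A) : A := v * (n v) ^ k * (n (n v)) ^ (k.choose 2)

def Zc (z : A) (k : ℕ) : A := z ^ k * (n z) ^ (k.choose 2) * (n (n z)) ^ (k.choose 3)

def Vc (z d : A) (k : ℕ) : A :=
  d ^ k * (z * n d * a d) ^ (k.choose 2) * (n z * n (n d) * a z) ^ (k.choose 3) *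
    (n (n z)) ^ (k.choose 4)

variable {n a}

theorem Gk_succ (hnnn : ∀ v, n (n (n v)) = 1) (k : ℕ) (v : A) :
    Gk n (k + 1) v = Gk n k (v * n v) := by
  unfold Gk
  have h2 : (k + 1).choose 2 = k + k.choose 2 := by
    rw [Nat.choose_succ_succ' k 1, Nat.choose_one_right]
  rw [h2]
  simp only [map_mul, hnnn, mul_one, pow_add, mul_pow, pow_one]
  ac_rfl

theorem Zc_succ (z : A) (k : ℕ) : Zc n z (k + 1) = Zc n z k * Gk n k z := by
  unfold Zc Gk
  have h2 : (k + 1).choose 2 = k + k.choose 2 := by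
    rw [Nat.choose_succ_succ' k 1, Nat.choose_one_right]
  have h3 : (k + 1).choose 3 = k.choose 2 + k.choose 3 := Nat.choose_succ_succ' k 2
  rw [h2, h3]
  simp only [pow_add, pow_succ, pow_one]
  ac_rfl

theorem Vc_succ (hane : ∀ v, a (n v) = 1) (haa : ∀ v, a (a v) = 1) (z d : A) (k : ℕ) :
    Vc n a z d (k + 1) =
      Vc n a z d k * a (Vc n a z d k) * Zc n z k * Gk n k d := by
  unfold Vc Zc Gk
  have h2 : (k + 1).choose 2 = k + k.choose 2 := by
    rw [Nat.choose_succ_succ' k 1, Nat.choose_one_right]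
  have h3 : (k + 1).choose 3 = k.choose 2 + k.choose 3 := Nat.choose_succ_succ' k 2
  have h4 : (k + 1).choose 4 = k.choose 3 + k.choose 4 := Nat.choose_succ_succ' k 3
  rw [h2, h3, h4]
  simp only [map_mul, map_pow, hane, haa, one_pow, mul_one, pow_add, pow_succ, mul_pow]
  generalize z ^ k = z1
  generalize z ^ k.choose 2 = z2
  generalize n z ^ k.choose 2 = z3
  generalize n z ^ k.choose 3 = z4
  generalize n d ^ k = z5
  generalize n d ^ k.choose 2 = z6
  generalize n (n d) ^ k.choose 2 = z7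
  generalize n (n d) ^ k.choose 3 = z8
  generalize a z ^ k.choose 2 = z9
  generalize a z ^ k.choose 3 = z10
  generalize a d ^ k = z11
  generalize a d ^ k.choose 2 = z12
  generalize d ^ k = z13
  generalize n (n z) ^ k.choose 3 = z14
  generalize n (n z) ^ k.choose 4 = z15
  ac_rfl

end

variable {Q : Type*} [Group Q] {A : Type*} [CommGroup A] {n a : A →* A}

theorem g_pow (ι : A →* Q) (g : MulAut Q) (t x : Q) (z d : A)
    (hg : ∀ v, g (ι v) = ι (v * n v)) (ht : ∀ v, t⁻¹ * ι v * t = ι (v * a v))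
    (hnnn : ∀ v, n (n (n v)) = 1) (hane : ∀ v, a (n v) = 1) (haa : ∀ v, a (a v) = 1)
    (hgt : g t = t * ι z) (hgx : g x = x * t * ι d) (k : ℕ) :
    (∀ v, (g ^ k) (ι v) = ι (Gk n k v)) ∧ (g ^ k) t = t * ι (Zc n z k) ∧
      (g ^ k) x = x * t ^ k * ι (Vc n a z d k) := by
  have h1 : ∀ k v, (g ^ k) (ι v) = ι (Gk n k v) := by
    intro k
    induction k with
    | zero =>
      intro v
      simp [Gk]
    | succ k ih =>
      intro v
      rw [pow_succ, MulAut.mul_apply, hg, ih, Gk_succ hnnn]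
  refine ⟨h1 k, ?_⟩
  induction k with
  | zero => simp [Zc, Vc]
  | succ k ih =>
    obtain ⟨ih1, ih2⟩ := ih
    constructor
    · rw [pow_succ, MulAut.mul_apply, hgt, map_mul, ih1, h1, Zc_succ, map_mul, mul_assoc]
    · rw [pow_succ, MulAut.mul_apply, hgx, map_mul, map_mul, ih1, ih2, h1, Vc_succ hane haa, map_mul,
        map_mul, map_mul]
      have h5 : ι (Vc n a z d k) * t = t * (ι (Vc n a z d k) * ι (a (Vc n a z d k))) := by
        have := ht (Vc n a z d k)
        rw [map_mul] at this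
        rw [← this]
        group
      calc x * t ^ k * ι (Vc n a z d k) * (t * ι (Zc n z k)) * ι (Gk n k d)
          = x * t ^ k * (ι (Vc n a z d k) * t) * ι (Zc n z k) * ι (Gk n k d) := by group
        _ = _ := by rw [h5, pow_succ]; group

/-- Exponent `p`, `p ≥ 5`: the automorphism `g` satisfies `g^p t = t`, `g^p x = x t^p`. -/
theorem g_pow_p (ι : A →* Q) (g : MulAut Q) (t x : Q) (z d : A) {p : ℕ} (hp : p.Prime) (hp5 : 5 ≤ p)
    (hexp : ∀ v : A, v ^ p = 1)
    (hg : ∀ v, g (ι v) = ι (v * n v)) (ht : ∀ v, t⁻¹ * ι v * t = ι (v * a v))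
    (hnnn : ∀ v, n (n (n v)) = 1) (hane : ∀ v, a (n v) = 1) (haa : ∀ v, a (a v) = 1)
    (hgt : g t = t * ι z) (hgx : g x = x * t * ι d) :
    (g ^ p) t = t ∧ (g ^ p) x = x * t ^ p := by
  obtain ⟨-, h2, h3⟩ := g_pow ι g t x z d hg ht hnnn hane haa hgt hgx p
  have hdvd : ∀ j, 0 < j → j < p → ∀ v : A, v ^ (p.choose j) = 1 := by
    intro j h0 hj v
    obtain ⟨l, hl⟩ := hp.dvd_choose_self h0.ne' hj
    rw [hl, pow_mul, hexp, one_pow]
  have hZ : Zc n z p = 1 := by
    unfold Zc
    rw [hexp, hdvd 2 (by omega) (by omega), hdvd 3 (by omega) (by omega)]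
    simp
  have hV : Vc n a z d p = 1 := by
    unfold Vc
    rw [hexp, hdvd 2 (by omega) (by omega), hdvd 3 (by omega) (by omega),
      hdvd 4 (by omega) (by omega)]
    simp
  rw [hZ, map_one, mul_one] at h2
  rw [hV, map_one, mul_one] at h3
  exact ⟨h2, h3⟩

end Cfsg.Agent.Lib.S5180.JTCore
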