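import Cfsg.Agent.Lib.S5180.Basic

/-! S5180 JT2 (second author's version): `⁅⁅x, t⁆, x⁆ ≠ 1` under the hypotheses of the quotient. -/

set_option autoImplicit false
open scoped commutatorElement

namespace Cfsg.Agent.Lib.S5180.JTQ1Alt
universe u
variable {T : Type u} [Group T] [Finite T] {p : ℕ} [Fact p.Prime]

theorem le_of_relIndex_prime {M K H : Subgroup T} (hi : M.relIndex K = p) {c : T} (hcK : c ∈ K)
    (hcM : c ∉ M) (hMH : M ≤ H) (hcH : c ∈ H) : K ≤ H := by
  have hp : p.Prime := Fact.out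
  have h1 : (M.subgroupOf K).index = p := hi
  have hle : M.subgroupOf K ≤ H.subgroupOf K :=
    fun z hz => Subgroup.mem_subgroupOf.2 (hMH (Subgroup.mem_subgroupOf.1 hz))
  have hdvd : (H.subgroupOf K).index ∣ (M.subgroupOf K).index := Subgroup.index_dvd_of_le hle
  rw [h1] at hdvd
  rcases (Nat.dvd_prime hp).1 hdvd with h2 | h2
  · have h3 := Subgroup.index_eq_one.1 h2
    intro z hz
    have : (⟨z, hz⟩ : K) ∈ H.subgroupOf K := by rw [h3]; trivial
    exact Subgroup.mem_subgroupOf.1 this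
  · exfalso
    have h3 := Subgroup.card_mul_index (M.subgroupOf K)
    have h4 := Subgroup.card_mul_index (H.subgroupOf K)
    rw [h1] at h3
    rw [h2] at h4
    have h5 : Nat.card (M.subgroupOf K) = Nat.card (H.subgroupOf K) :=
      Nat.eq_of_mul_eq_mul_right hp.pos (h3.trans h4.symm)
    have h6 := Subgroup.eq_of_le_of_card_ge hle h5.ge
    have : (⟨c, hcK⟩ : K) ∈ M.subgroupOf K := by
      rw [h6]; exact Subgroup.mem_subgroupOf.2 hcH
    exact hcM (Subgroup.mem_subgroupOf.1 this)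

theorem jt_Q1 (hp5 : 5 ≤ p) (hQ : IsPGroup p T) (g : MulAut T) (τ : T) (hgp : g ^ p = MulAut.conj τ)
    {E D A : Subgroup T} (hEi : E.index = p) (hEE : E ⊔ E.map g.toMonoidHom = ⊤)
    (hD : ∀ u, u ∈ D ↔ u ∈ E ∧ u ∈ E.map g.toMonoidHom) (hgD : ∀ u, g u ∈ D ↔ u ∈ D)
    (hDi : D.index = p ^ 2) (hAD : A ≤ D) (hAc : ∀ a ∈ A, ∀ w : T, ⁅a, w⁆ = 1)
    (hEc : ∀ u ∈ E, ∀ v ∈ E, ⁅u, v⁆ ∈ A) (hEp : ∀ u ∈ E, u ^ p ∈ A)
    (hA1 : ∀ a ∈ A, g a ∈ A → a = 1) (hY1 : (A ⊔ A.map g.toMonoidHom).relIndex D = p)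
    (hY2 : Nat.card ↥(A ⊔ A.map g.toMonoidHom) = p ^ 2) {x t : T} (hx : x ∈ E) (ht : t ∉ E)
    (hJ : ⁅⁅x, t⁆, t⁆ ∉ A) : ⁅⁅x, t⁆, x⁆ ≠ 1 := by
  classical
  intro hcx
  have hp : p.Prime := Fact.out
  set Y := A ⊔ A.map g.toMonoidHom with hYdef
  -- `gE` membership
  have hgE : ∀ u, u ∈ E.map g.toMonoidHom ↔ g⁻¹ u ∈ E := by
    intro u
    constructor
    · rintro ⟨v, hv, rfl⟩
      simpa using hv
    · intro h
      exact ⟨g⁻¹ u, h, by simp⟩
  -- `Y` is central
  have hgAc : ∀ a ∈ A.map g.toMonoidHom, ∀ w : T, ⁅a, w⁆ = 1 := by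
    rintro _ ⟨a, ha, rfl⟩ w
    have h := hAc a ha (g⁻¹ w)
    have h2 := congrArg g h
    rw [map_commutatorElement] at h2
    simpa using h2
  have hYc : ∀ a ∈ Y, ∀ w : T, a * w = w * a := by
    have hle : Y ≤ Subgroup.center T := by
      refine sup_le ?_ ?_
      · intro a ha
        rw [Subgroup.mem_center_iff]
        intro w
        have := hAc a ha w
        rw [commutatorElement_eq_one_iff_mul_comm] at this
        exact this.symm
      · intro a ha
        rw [Subgroup.mem_center_iff]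
        intro w
        have := hgAc a ha w
        rw [commutatorElement_eq_one_iff_mul_comm] at this
        exact this.symm
    intro a ha w
    exact ((Subgroup.mem_center_iff.1 (hle ha)) w).symm
  -- normality of `E`
  have hEn : E.Normal := by
    obtain ⟨n, hn⟩ := IsPGroup.iff_card.1 hQ
    apply Subgroup.normal_of_index_eq_minFac_card
    rw [hEi, hn]
    have hn0 : n ≠ 0 := by
      rintro rfl
      have h1 : E.index ∣ Nat.card T := Subgroup.index_dvd_card E
      rw [hEi, hn, pow_zero] at h1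
      exact hp.one_lt.ne' (Nat.dvd_one.1 h1)
    exact (hp.pow_minFac hn0).symm
  have hgEn : (E.map g.toMonoidHom).Normal := Subgroup.Normal.map hEn g.toMonoidHom g.surjective
  -- all commutators lie in `E`, hence in `D`
  have hEcomm : ∀ u v : T, ⁅u, v⁆ ∈ E := by
    intro u v
    haveI : IsCyclic (T ⧸ E) := isCyclic_of_prime_card (p := p) (by rw [← Subgroup.index, hEi])
    have h1 : (QuotientGroup.mk' E u) * (QuotientGroup.mk' E v) =
        (QuotientGroup.mk' E v) * (QuotientGroup.mk' E u) :=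
      (IsCyclic.commGroup (α := T ⧸ E)).mul_comm _ _
    have h2 : QuotientGroup.mk' E ⁅u, v⁆ = 1 := by
      rw [map_commutatorElement, commutatorElement_eq_one_iff_mul_comm]
      exact h1
    exact (QuotientGroup.eq_one_iff _).1 h2
  have hDcomm : ∀ u v : T, ⁅u, v⁆ ∈ D := fun u v => (hD _).2 ⟨hEcomm u v, (hgE _).2 (by
    have : (g⁻¹ : MulAut T) ⁅u, v⁆ = ⁅(g⁻¹ : MulAut T) u, (g⁻¹ : MulAut T) v⁆ :=
      map_commutatorElement _ _ _
    rw [this]
    exact hEcomm _ _)⟩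
  have hEc' : ∀ u ∈ E.map g.toMonoidHom, ∀ v ∈ E.map g.toMonoidHom, ⁅u, v⁆ ∈ A.map g.toMonoidHom := by
    intro u hu v hv
    refine ⟨⁅(g⁻¹ : MulAut T) u, (g⁻¹ : MulAut T) v⁆, hEc _ ((hgE _).1 hu) _ ((hgE _).1 hv), ?_⟩
    have : g ⁅(g⁻¹ : MulAut T) u, (g⁻¹ : MulAut T) v⁆ = ⁅g ((g⁻¹ : MulAut T) u), g ((g⁻¹ : MulAut T) v)⁆ :=
      map_commutatorElement _ _ _
    simpa using this
  -- `⁅D, T⁆ ≤ Y`
  have hDTY : ∀ d ∈ D, ∀ z : T, ⁅d, z⁆ ∈ Y := by
    intro d hd z
    have hz : z ∈ ((E ⊔ E.map g.toMonoidHom : Subgroup T) : Set T) := by rw [hEE]; trivial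
    rw [Subgroup.mul_normal] at hz
    obtain ⟨a, ha, b, hb, rfl⟩ := Set.mem_mul.1 hz
    obtain ⟨hdE, hdgE⟩ := (hD d).1 hd
    have h1 : ⁅d, a⁆ ∈ A := hEc d hdE a ha
    have h2 : ⁅d, b⁆ ∈ A.map g.toMonoidHom := hEc' d hdgE b hb
    have hq : ⁅d, b⁆ ∈ Y := (le_sup_right : A.map g.toMonoidHom ≤ Y) h2
    have hq2 := hYc _ hq a
    have h3 : ⁅d, a * b⁆ = ⁅d, a⁆ * ⁅d, b⁆ := by
      calc ⁅d, a * b⁆ = ⁅d, a⁆ * (a * ⁅d, b⁆ * a⁻¹) := by
            simp only [commutatorElement_def]; group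
        _ = ⁅d, a⁆ * ⁅d, b⁆ := by rw [← hq2]; group
    rw [h3]
    exact Y.mul_mem ((le_sup_left : A ≤ Y) h1) hq
  -- `D` is abelian
  have hDab : ∀ u ∈ D, ∀ v ∈ D, u * v = v * u := by
    intro u hu v hv
    obtain ⟨huE, hugE⟩ := (hD u).1 hu
    obtain ⟨hvE, hvgE⟩ := (hD v).1 hv
    have h1 := hEc u huE v hvE
    obtain ⟨a, ha, hae⟩ := hEc' u hugE v hvgE
    have hae' : g a = ⁅u, v⁆ := hae
    have h2 : a = 1 := hA1 a ha (by rw [hae']; exact h1)
    rw [h2, map_one] at hae'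
    exact (commutatorElement_eq_one_iff_mul_comm).1 hae'.symm
  have hcD : ⁅x, t⁆ ∈ D := hDcomm x t
  have hcY : ⁅x, t⁆ ∉ Y := by
    intro h
    apply hJ
    have := hYc _ h t
    rw [(commutatorElement_eq_one_iff_mul_comm).2 this]
    exact A.one_mem
  -- `D` centralizes `x`
  have hDx : D ≤ Subgroup.centralizer ({x} : Set T) := by
    refine le_of_relIndex_prime hY1 hcD hcY ?_ ?_
    · intro a ha
      rw [Subgroup.mem_centralizer_iff]
      rintro _ rfl
      exact (hYc a ha _).symm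
    · rw [Subgroup.mem_centralizer_iff]
      rintro _ rfl
      exact ((commutatorElement_eq_one_iff_mul_comm).1 hcx).symm
  have hxD : x ∉ D := fun h => hcY (hDTY x h t)
  have hDE : D ≤ E := fun u hu => ((hD u).1 hu).1
  have hDEi : D.relIndex E = p := by
    have h1 := Subgroup.relIndex_mul_index hDE
    rw [hEi, hDi, pow_two] at h1
    exact Nat.eq_of_mul_eq_mul_right hp.pos h1
  -- `E` centralizes `D`
  have hEC : E ≤ Subgroup.centralizer (D : Set T) := by
    refine le_of_relIndex_prime hDEi hx hxD ?_ ?_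
    · intro u hu
      rw [Subgroup.mem_centralizer_iff]
      intro h hh
      exact hDab h hh u hu
    · rw [Subgroup.mem_centralizer_iff]
      intro h hh
      have := hDx hh
      rw [Subgroup.mem_centralizer_iff] at this
      exact (this x rfl).symm
  have htC : t ∉ Subgroup.centralizer (D : Set T) := by
    intro h
    rw [Subgroup.mem_centralizer_iff] at h
    have h2 := h _ hcD
    apply hJ
    rw [(commutatorElement_eq_one_iff_mul_comm).2 h2]
    exact A.one_mem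
  have hCE : ∀ w ∈ Subgroup.centralizer (D : Set T), w ∈ E := by
    intro w hw
    by_contra hwE
    have hi : E.relIndex ⊤ = p := by rw [Subgroup.relIndex_top_right]; exact hEi
    have := le_of_relIndex_prime (K := ⊤) (H := Subgroup.centralizer (D : Set T)) hi
      (Subgroup.mem_top w) hwE hEC hw
    exact htC (this (Subgroup.mem_top t))
  have hgEE : E.map g.toMonoidHom ≤ E := by
    rintro _ ⟨u, hu, rfl⟩
    apply hCE
    rw [Subgroup.mem_centralizer_iff]
    intro h hh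
    have hh' : (g⁻¹ : MulAut T) h ∈ D := (hgD _).1 (by simpa using hh)
    have h1 := hEC hu
    rw [Subgroup.mem_centralizer_iff] at h1
    have h2 := congrArg g (h1 _ hh')
    simpa using h2
  apply ht
  have h3 : E = ⊤ := by
    have : E ⊔ E.map g.toMonoidHom = E := sup_eq_left.2 hgEE
    rw [← this]; exact hEE
  rw [h3]; trivial

end Cfsg.Agent.Lib.S5180.JTQ1Alt
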