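import Cfsg.Agent.Lib.S5180.JTUnip

/-! S5180 JT: the `p`-th power of `g` on the pair `x, y`. -/

set_option autoImplicit false
open scoped commutatorElement
open Cfsg

namespace Cfsg.Agent.Lib.S5180
universe u

section JTQ2
variable {T : Type u} [Group T] [Finite T] {p : ℕ} [Fact p.Prime]

theorem jt_Q2core (hp5 : 5 ≤ p) (g : MulAut T) {D Y : Subgroup T} (hDn : D.Normal)
    (hDcomm : ∀ u ∈ D, ∀ v ∈ D, ⁅u, v⁆ = 1) (hDp : ∀ d ∈ D, d ^ p = 1) (hgD : ∀ u, g u ∈ D ↔ u ∈ D)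
    (hYc : ∀ v ∈ Y, ∀ w : T, ⁅v, w⁆ = 1) (hDY : ∀ d ∈ D, ∀ w : T, ⁅d, w⁆ ∈ Y)
    (hF : ∀ d ∈ D, d⁻¹ * g d ∈ Y) (hUY : ∀ v ∈ Y, g (v⁻¹ * g v) = v⁻¹ * g v)
    {x y : T} (hU : y⁻¹ * g y ∈ D) (hxy : g x = x * y) :
    (g ^ p) y = y ∧ (g ^ p) x = x * y ^ p := by
  have hp : p.Prime := Fact.out
  letI cD : CommGroup D := { (inferInstance : Group D) with
    mul_comm := fun a b => Subtype.ext (commutatorElement_eq_one_iff_mul_comm.1 (hDcomm a a.2 b b.2)) }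
  let G : D →* D := (g.toMonoidHom.comp D.subtype).codRestrict D (fun v => (hgD _).2 v.2)
  let C : D →* D := ((MulAut.conj y⁻¹).toMonoidHom.comp D.subtype).codRestrict D
    (fun v => hDn.conj_mem _ v.2 y⁻¹)
  let n : D →* D := (MonoidHom.id D)⁻¹ * G
  let a : D →* D := (MonoidHom.id D)⁻¹ * C
  have hnv : ∀ v : D, ((n v : D) : T) = (v : T)⁻¹ * g v := fun v => rfl
  have hav : ∀ v : D, ((a v : D) : T) = (v : T)⁻¹ * (y⁻¹ * v * y⁻¹⁻¹) := fun v => rfl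
  have h1 : ∀ v : D, ((n v : D) : T) ∈ Y := fun v => hF v v.2
  have h2 : ∀ u : D, (u : T) ∈ Y → n (n u) = 1 := by
    intro u hu
    apply Subtype.ext
    rw [hnv, hnv, hUY u hu]
    simp
  have h3 : ∀ u : D, (u : T) ∈ Y → a u = 1 := by
    intro u hu
    apply Subtype.ext
    rw [hav]
    have h4 := hYc u hu y⁻¹
    rw [commutatorElement_eq_one_iff_mul_comm] at h4
    have h5 : y⁻¹ * (u : T) * y⁻¹⁻¹ = u := by
      rw [← h4]; group
    rw [h5]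
    simp
  have h4 : ∀ v : D, ((a v : D) : T) ∈ Y := by
    intro v
    rw [hav]
    have h5 := hDY _ (D.inv_mem v.2) y⁻¹
    rw [commutatorElement_def] at h5
    have h6 : (v : T)⁻¹ * y⁻¹ * (v : T)⁻¹⁻¹ * y⁻¹⁻¹ = (v : T)⁻¹ * (y⁻¹ * v * y⁻¹⁻¹) := by group
    rwa [h6] at h5
  exact JTCore.g_pow_p (A := D) (n := n) (a := a) D.subtype g y x ⟨y⁻¹ * g y, hU⟩ 1 hp hp5
    (fun v => Subtype.ext (hDp v v.2))
    (fun v => by show g (v : T) = (v : T) * ((v : T)⁻¹ * g v); group)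
    (fun v => by
      show y⁻¹ * (v : T) * y = (v : T) * ((v : T)⁻¹ * (y⁻¹ * v * y⁻¹⁻¹)); group)
    (fun v => h2 (n v) (h1 v))
    (fun v => h3 (n v) (h1 v))
    (fun v => h3 (a v) (h4 v))
    (by show g y = y * (y⁻¹ * g y); group)
    (by rw [hxy]; simp)

end JTQ2
end Cfsg.Agent.Lib.S5180
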