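import Cfsg.Agent.Lib.S5180.JTQ2

/-! S5180 JT: glue for the quotient lemma. -/

set_option autoImplicit false
open scoped commutatorElement
open Cfsg

namespace Cfsg.Agent.Lib.S5180
universe u

section JTQD
variable {T : Type u} [Group T] [Finite T] {p : ℕ} [Fact p.Prime]

theorem jt_Qdata (hp5 : 5 ≤ p) (hQ : IsPGroup p T) (g : MulAut T) (τ : T) (hgp : g ^ p = MulAut.conj τ)
    {E D A : Subgroup T} (hEi : E.index = p) (hEE : E ⊔ E.map g.toMonoidHom = ⊤)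
    (hD : ∀ u, u ∈ D ↔ u ∈ E ∧ u ∈ E.map g.toMonoidHom) (hgD : ∀ u, g u ∈ D ↔ u ∈ D)
    (hDi : D.index = p ^ 2) (hAD : A ≤ D) (hAc : ∀ a ∈ A, ∀ w : T, ⁅a, w⁆ = 1)
    (hEc : ∀ u ∈ E, ∀ v ∈ E, ⁅u, v⁆ ∈ A) (hEp : ∀ u ∈ E, u ^ p ∈ A)
    (hA1 : ∀ a ∈ A, g a ∈ A → a = 1) (hY1 : (A ⊔ A.map g.toMonoidHom).relIndex D = p)
    (hY2 : Nat.card ↥(A ⊔ A.map g.toMonoidHom) = p ^ 2) {x t : T} (ht : t ∉ E)
    (hJ : ⁅⁅x, t⁆, t⁆ ∉ A) :
    (∀ d ∈ D, g d * d⁻¹ ∈ A ⊔ A.map g.toMonoidHom) ∧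
    (g ^ p) (x⁻¹ * g x) = x⁻¹ * g x ∧ (g ^ p) x = x * (x⁻¹ * g x) ^ p := by
  classical
  have hp : p.Prime := Fact.out
  haveI hEn : E.Normal := jt_normal hQ hEi
  have hE1i : (E.map g.toMonoidHom).index = p := by
    rw [Subgroup.index_map_of_bijective g.bijective, hEi]
  haveI hE1n : (E.map g.toMonoidHom).Normal := jt_normal hQ hE1i
  have hcommD : ∀ u v : T, ⁅u, v⁆ ∈ D := fun u v =>
    (hD _).2 ⟨jt_comm hEi u v, jt_comm hE1i u v⟩
  have hpowD : ∀ u : T, u ^ p ∈ D := fun u =>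
    (hD _).2 ⟨jt_pow hEi u, jt_pow hE1i u⟩
  have hDn : D.Normal := by
    have : D = E ⊓ E.map g.toMonoidHom := by
      ext u
      rw [hD, Subgroup.mem_inf]
    rw [this]
    infer_instance
  have ha1 : ∀ u ∈ E.map g.toMonoidHom, ∀ v ∈ E.map g.toMonoidHom, ⁅u, v⁆ ∈ A.map g.toMonoidHom := by
    rintro _ ⟨u, hu, rfl⟩ _ ⟨v, hv, rfl⟩
    exact ⟨⁅u, v⁆, hEc u hu v hv, map_commutatorElement _ _ _⟩
  have hap : ∀ u ∈ E.map g.toMonoidHom, u ^ p ∈ A.map g.toMonoidHom := by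
    rintro _ ⟨u, hu, rfl⟩
    exact ⟨u ^ p, hEp u hu, map_pow _ _ _⟩
  have hAinf : ∀ a ∈ A, a ∈ A.map g.toMonoidHom → a = 1 := by
    rintro a ha ⟨a₀, ha₀, rfl⟩
    have h1 : a₀ = 1 := hA1 a₀ ha₀ ha
    rw [h1]
    exact map_one _
  have hDE : ∀ u ∈ D, u ∈ E := fun u hu => ((hD u).1 hu).1
  have hDE1 : ∀ u ∈ D, u ∈ E.map g.toMonoidHom := fun u hu => ((hD u).1 hu).2
  have hDcomm : ∀ u ∈ D, ∀ v ∈ D, ⁅u, v⁆ = 1 := fun u hu v hv =>
    hAinf _ (hEc u (hDE u hu) v (hDE v hv)) (ha1 u (hDE1 u hu) v (hDE1 v hv))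
  have hDp : ∀ d ∈ D, d ^ p = 1 := fun d hd =>
    hAinf _ (hEp d (hDE d hd)) (hap d (hDE1 d hd))
  -- `Y`
  have hcen : A ⊔ A.map g.toMonoidHom ≤ Subgroup.center T := by
    refine sup_le ?_ ?_
    · intro a ha
      rw [Subgroup.mem_center_iff]
      intro w
      exact (commutatorElement_eq_one_iff_mul_comm.1 (hAc a ha w)).symm
    · rintro _ ⟨a, ha, rfl⟩
      rw [Subgroup.mem_center_iff]
      intro w
      have h1 := commutatorElement_eq_one_iff_mul_comm.1 (hAc a ha (g⁻¹ w))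
      have h2 := congrArg g h1
      rw [map_mul, map_mul] at h2
      have h3 : g (g⁻¹ w) = w := by simp
      rw [h3] at h2
      exact h2.symm
  have hYc : ∀ v ∈ A ⊔ A.map g.toMonoidHom, ∀ w : T, ⁅v, w⁆ = 1 := fun v hv w =>
    commutatorElement_eq_one_iff_mul_comm.2 ((Subgroup.mem_center_iff.1 (hcen hv) w).symm)
  have hYn : (A ⊔ A.map g.toMonoidHom).Normal := by
    refine ⟨fun n hn w => ?_⟩
    have h1 : w * n * w⁻¹ = n := by
      rw [Subgroup.mem_center_iff.1 (hcen hn) w]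
      group
    rwa [h1]
  have hYD : A ⊔ A.map g.toMonoidHom ≤ D := by
    refine sup_le hAD ?_
    rintro _ ⟨a, ha, rfl⟩
    exact (hgD a).2 (hAD ha)
  have hDY : ∀ d ∈ D, ∀ w : T, ⁅d, w⁆ ∈ A ⊔ A.map g.toMonoidHom := by
    intro d hd w
    have hw : w ∈ (↑(E ⊔ E.map g.toMonoidHom) : Set T) := by rw [hEE]; trivial
    rw [Subgroup.mul_normal, Set.mem_mul] at hw
    obtain ⟨a, ha, b, hb, rfl⟩ := hw
    have h1 : ⁅d, a * b⁆ = ⁅d, a⁆ * (a * ⁅d, b⁆ * a⁻¹) := by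
      simp only [commutatorElement_def]
      group
    rw [h1]
    exact Subgroup.mul_mem _ (Subgroup.mem_sup_left (hEc d (hDE d hd) a ha))
      (hYn.conj_mem _ (Subgroup.mem_sup_right (ha1 d (hDE1 d hd) b hb)) a)
  -- the element `c`
  have hc1 : ⁅⁅x, t⁆, t⁆ ≠ 1 := fun h => hJ (by rw [h]; exact A.one_mem)
  have hcY : ⁅x, t⁆ ∉ A ⊔ A.map g.toMonoidHom := fun h => hc1 (hYc _ h t)
  have hform : ∀ d ∈ D, ∃ i : ℕ, d * (⁅x, t⁆ ^ i)⁻¹ ∈ A ⊔ A.map g.toMonoidHom := by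
    have hle : D ≤ (A ⊔ A.map g.toMonoidHom) ⊔ Subgroup.zpowers ⁅x, t⁆ := by
      have h1 : A ⊔ A.map g.toMonoidHom ≤ (A ⊔ A.map g.toMonoidHom) ⊔ Subgroup.zpowers ⁅x, t⁆ := le_sup_left
      by_contra hnot
      -- intermediate subgroup
      let M : Subgroup T := (A ⊔ A.map g.toMonoidHom) ⊔ Subgroup.zpowers ⁅x, t⁆
      have hMD : M ≤ D := sup_le hYD (by rw [Subgroup.zpowers_le]; exact hcommD _ _)
      have h3 := Subgroup.relIndex_mul_relIndex _ M D h1 hMD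
      rw [hY1] at h3
      have h4 : (A ⊔ A.map g.toMonoidHom).relIndex M ≠ 1 := by
        intro h
        exact hcY (Subgroup.relIndex_eq_one.1 h (Subgroup.mem_sup_right (Subgroup.mem_zpowers _)))
      have h5 : M.relIndex D ≠ 1 := fun h => hnot (Subgroup.relIndex_eq_one.1 h)
      rcases (Nat.dvd_prime hp).1 (Dvd.intro _ h3) with h | h
      · exact h4 h
      · rw [h] at h3
        apply h5
        have : p * M.relIndex D = p * 1 := by rw [h3, mul_one]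
        exact Nat.eq_of_mul_eq_mul_left hp.pos this
    intro d hd
    have h1 := hle hd
    rw [← SetLike.mem_coe, Subgroup.normal_mul, Set.mem_mul] at h1
    obtain ⟨a, ha, w, hw, rfl⟩ := h1
    obtain ⟨e, rfl⟩ := (mem_powers_iff_mem_zpowers.2 (SetLike.mem_coe.1 hw))
    refine ⟨e, ?_⟩
    simpa [mul_assoc] using ha
  have hY1' : ∀ d ∈ D, ⁅d, t⁆ = 1 → d ∈ A ⊔ A.map g.toMonoidHom := by
    intro d hd hdt
    obtain ⟨i, hi⟩ := hform d hd
    by_cases hpi : p ∣ i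
    · obtain ⟨k, rfl⟩ := hpi
      have h1 : ⁅x, t⁆ ^ (p * k) = 1 := by
        rw [pow_mul, hDp _ (hcommD _ _), one_pow]
      rw [h1, inv_one, mul_one] at hi
      exact hi
    · exfalso
      have hco : Nat.Coprime i p := ((Nat.Prime.coprime_iff_not_dvd hp).2 hpi).symm
      obtain ⟨m, hm⟩ := Nat.exists_mul_mod_eq_one_of_coprime hco hp.one_lt
      let H : Subgroup T := Subgroup.centralizer {t}
      have hmemH : ∀ u, ⁅u, t⁆ = 1 → u ∈ H := by
        intro u hu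
        rw [Subgroup.mem_centralizer_singleton_iff]
        exact commutatorElement_eq_one_iff_mul_comm.1 hu
      have h1 : ⁅x, t⁆ ^ i ∈ H := by
        have h2 := hYc _ hi t
        have h3 : d * (⁅x, t⁆ ^ i)⁻¹ ∈ H := hmemH _ h2
        have h4 := H.mul_mem (H.inv_mem h3) (hmemH d hdt)
        have h5 : (d * (⁅x, t⁆ ^ i)⁻¹)⁻¹ * d = ⁅x, t⁆ ^ i := by group
        rwa [h5] at h4
      have h2 : (⁅x, t⁆ ^ i) ^ m = ⁅x, t⁆ := by
        rw [← pow_mul]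
        conv_lhs => rw [← Nat.div_add_mod (i * m) p, hm.2, pow_add, pow_mul, hDp _ (hcommD _ _), one_pow, one_mul, pow_one]
      have h3 : ⁅x, t⁆ ∈ H := by
        rw [← h2]
        exact H.pow_mem h1 m
      rw [Subgroup.mem_centralizer_singleton_iff] at h3
      exact hc1 (commutatorElement_eq_one_iff_mul_comm.2 h3)
  have hgY : ∀ v ∈ A ⊔ A.map g.toMonoidHom, g v ∈ A ⊔ A.map g.toMonoidHom := by
    intro v hv
    apply hY1' _ ((hgD v).2 (hYD hv))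
    have h1 := hYc v hv (g⁻¹ t)
    have h2 := congrArg g h1
    rw [map_commutatorElement, map_one] at h2
    simpa using h2
  have hgpc : ∀ b : T, (g ^ p) b * b⁻¹ = ⁅τ, b⁆ := by
    intro b
    rw [hgp, MulAut.conj_apply, commutatorElement_def]
  have hF' : ∀ d ∈ D, g d * d⁻¹ ∈ A ⊔ A.map g.toMonoidHom := by
    intro d hd
    refine jt_fermat hYD hYn hY1 g hgY (fun b hb => (hgD b).2 hb)
      (fun a ha b hb => ?_) (fun b hb => ?_) hd
    · rw [hDcomm a ha b hb]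
      exact Subgroup.one_mem _
    · rw [hgpc]
      have h1 := Subgroup.inv_mem _ (hDY b hb τ)
      rwa [commutatorElement_inv] at h1
  have hF : ∀ d ∈ D, d⁻¹ * g d ∈ A ⊔ A.map g.toMonoidHom := by
    intro d hd
    have h1 : d⁻¹ * g d = g d * d⁻¹ :=
      commutatorElement_eq_one_iff_mul_comm.1 (hDcomm _ (D.inv_mem hd) _ ((hgD d).2 hd))
    rw [h1]
    exact hF' d hd
  have hUY : ∀ v ∈ A ⊔ A.map g.toMonoidHom, g (v⁻¹ * g v) = v⁻¹ * g v := by
    intro v hv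
    have h1 := jt_unip (A := (⊥ : Subgroup T)) (B := A ⊔ A.map g.toMonoidHom) bot_le
      (inferInstance) (by rw [Subgroup.relIndex_bot_left, hY2]) g
      (fun a ha => by
        rw [Subgroup.mem_bot] at ha ⊢
        rw [ha, map_one])
      hgY
      (fun b hb w => by rw [hYc b hb w]; exact Subgroup.one_mem _)
      (fun b hb => by rw [hDp b (hYD hb)]; exact Subgroup.one_mem _)
      (fun b hb => by
        rw [hgpc]
        have h2 : ⁅τ, b⁆ = 1 := by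
          have h3 := hYc b hb τ
          have h4 := congrArg (·⁻¹) h3
          simpa [commutatorElement_inv] using h4
        rw [h2]
        exact Subgroup.one_mem _) hv
    rw [Subgroup.mem_bot] at h1
    exact mul_inv_eq_one.1 h1
  have hU : (x⁻¹ * g x)⁻¹ * g (x⁻¹ * g x) ∈ D := by
    have h1 := jt_unip (A := D) (B := ⊤) le_top hDn (by rw [Subgroup.relIndex_top_right, hDi]) g
      (fun a ha => (hgD a).2 ha) (fun _ _ => trivial) (fun b _ w => hcommD b w)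
      (fun b _ => hpowD b) (fun b _ => by rw [hgpc]; exact hcommD _ _) (Subgroup.mem_top x)
    have h2 := hDn.conj_mem _ h1 (x⁻¹ * g x)⁻¹
    have h3 : (x⁻¹ * g x)⁻¹ * (g (x⁻¹ * g x) * (x⁻¹ * g x)⁻¹) * (x⁻¹ * g x)⁻¹⁻¹ =
        (x⁻¹ * g x)⁻¹ * g (x⁻¹ * g x) := by group
    rwa [h3] at h2
  exact ⟨hF', jt_Q2core hp5 g hDn hDcomm hDp hgD hYc hDY hF hUY hU (by group)⟩

end JTQD
end Cfsg.Agent.Lib.S5180
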