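import Cfsg.Agent.Lib.S5180.Basic
import Cfsg.Agent.Lib.S5180.JTCore
import Cfsg.Agent.Lib.PGroup.Basic

set_option autoImplicit false
open scoped commutatorElement
open Cfsg

namespace Cfsg.Agent.Lib.S5180
universe u

section JTAux
variable {T : Type u} [Group T] [Finite T] {p : ℕ} [Fact p.Prime]

theorem jt_normal (hT : IsPGroup p T) {Y : Subgroup T} (h : Y.index = p) : Y.Normal := by
  have hp : p.Prime := Fact.out
  obtain ⟨k, hk⟩ := (IsPGroup.iff_card.1 hT)
  apply Subgroup.normal_of_index_eq_minFac_card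
  have hk0 : k ≠ 0 := by
    rintro rfl
    have h1 := Y.index_dvd_card
    rw [h, hk, pow_zero] at h1
    exact hp.one_lt.ne' (Nat.dvd_one.1 h1)
  rw [h, hk, Nat.Prime.pow_minFac hp hk0]

theorem jt_comm {Y : Subgroup T} [hY : Y.Normal] (h : Y.index = p) (a b : T) : ⁅a, b⁆ ∈ Y := by
  have hp : p.Prime := Fact.out
  have hc : Nat.card (T ⧸ Y) = p := h
  haveI : IsCyclic (T ⧸ Y) := isCyclic_of_prime_card hc
  have h1 : ((a : T ⧸ Y) * (b : T ⧸ Y)) = (b : T ⧸ Y) * (a : T ⧸ Y) :=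
    (IsCyclic.commGroup (α := T ⧸ Y)).mul_comm _ _
  rw [← QuotientGroup.eq_one_iff, commutatorElement_def, QuotientGroup.mk_mul, QuotientGroup.mk_mul,
    QuotientGroup.mk_mul, QuotientGroup.mk_inv, QuotientGroup.mk_inv, h1]
  group

theorem jt_pow {Y : Subgroup T} [hY : Y.Normal] (h : Y.index = p) (a : T) : a ^ p ∈ Y := by
  rw [← h]
  exact Subgroup.pow_index_mem Y a

theorem jt_map_conj {Y : Subgroup T} (hY : Y.Normal) (g : T) : Y.map (MulAut.conj g).toMonoidHom = Y := by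
  apply le_antisymm
  · rintro _ ⟨y, hy, rfl⟩
    exact hY.conj_mem y hy g
  · intro y hy
    refine ⟨g⁻¹ * y * g, ?_, ?_⟩
    · simpa using hY.conj_mem y hy g⁻¹
    · simp [MulAut.conj_apply]; group

theorem jt_frat_normal {Y : Subgroup T} (hY : Y.Normal) : (Frat Y).Normal := by
  refine ⟨fun n hn g => ?_⟩
  have h1 := frat_map Y (MulAut.conj g)
  rw [jt_map_conj hY] at h1
  rw [h1]
  exact ⟨n, hn, by simp [MulAut.conj_apply]⟩

/-- A section of order `p` of a normal series in a `p`-group is central. -/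
theorem jt_central (hT : IsPGroup p T) {M N : Subgroup T} (hM : M.Normal) (hN : N.Normal) (hMN : M ≤ N)
    (hi : M.relIndex N = p) {n : T} (hn : n ∈ N) (z : T) : ⁅n, z⁆ ∈ M := by
  have hp : p.Prime := Fact.out
  have hQ : IsPGroup p (T ⧸ M) := hT.to_quotient M
  have hNh : (N.map (QuotientGroup.mk' M)).Normal := Subgroup.Normal.map hN _ (QuotientGroup.mk'_surjective M)
  have hne : N.map (QuotientGroup.mk' M) ≠ ⊥ := by
    intro h
    have h1 : N ≤ M := by
      intro y hy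
      have h2 : (QuotientGroup.mk' M) y ∈ N.map (QuotientGroup.mk' M) := ⟨y, hy, rfl⟩
      rw [h, Subgroup.mem_bot] at h2
      exact (QuotientGroup.eq_one_iff y).1 h2
    have h3 := Subgroup.relIndex_eq_one.2 h1
    rw [h3] at hi
    exact hp.one_lt.ne hi
  have h1 := Cfsg.Agent.Lib.PGroup.Basic.inf_center_ne_bot hQ hne
  obtain ⟨nh, hnh, hnh1⟩ := (Subgroup.bot_or_exists_ne_one _).resolve_left h1
  obtain ⟨⟨n₁, hn₁, rfl⟩, hc⟩ := hnh
  let Z' : Subgroup T := N ⊓ (Subgroup.center (T ⧸ M)).comap (QuotientGroup.mk' M)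
  have hMZ : M ≤ Z' := by
    intro y hy
    refine ⟨hMN hy, ?_⟩
    have : (QuotientGroup.mk' M) y = 1 := (QuotientGroup.eq_one_iff y).2 hy
    show (QuotientGroup.mk' M) y ∈ Subgroup.center (T ⧸ M)
    rw [this]
    exact Subgroup.one_mem _
  have hZN : Z' ≤ N := inf_le_left
  have hne1 : M.relIndex Z' ≠ 1 := by
    intro h
    have h2 := Subgroup.relIndex_eq_one.1 h
    have h3 : n₁ ∈ M := h2 ⟨hn₁, hc⟩
    exact hnh1 ((QuotientGroup.eq_one_iff n₁).2 h3)
  have h2 := Subgroup.relIndex_mul_relIndex M Z' N hMZ hZN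
  rw [hi] at h2
  have h3 : Z'.relIndex N = 1 := by
    rcases (Nat.dvd_prime hp).1 (Dvd.intro_left _ h2) with h | h
    · exact h
    · exfalso
      rw [h] at h2
      have h4 : M.relIndex Z' = 1 := by
        have := hp.pos
        nlinarith
      exact hne1 h4
  have h4 : N ≤ Z' := Subgroup.relIndex_eq_one.1 h3
  have h5 : (QuotientGroup.mk' M) n ∈ Subgroup.center (T ⧸ M) := (h4 hn).2
  rw [Subgroup.mem_center_iff] at h5
  have h6 := h5 ((QuotientGroup.mk' M) z)
  rw [← QuotientGroup.eq_one_iff, commutatorElement_def]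
  simp only [QuotientGroup.mk'_apply] at h6
  rw [QuotientGroup.mk_mul, QuotientGroup.mk_mul, QuotientGroup.mk_mul, QuotientGroup.mk_inv,
    QuotientGroup.mk_inv, ← h6]
  group

/-- Sectional rank bound: an elementary abelian section of `D` has order at most `p^3`. -/
theorem jt_rank (hsr : SectionalPRankLE p 3 T) {D N : Subgroup T} (hND : N ≤ D)
    (hc : ∀ a ∈ D, ∀ b ∈ D, ⁅a, b⁆ ∈ N) (hpw : ∀ a ∈ D, a ^ p ∈ N) : N.relIndex D ≤ p ^ 3 := by
  have hn : (N.subgroupOf D).Normal := by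
    refine ⟨fun n hn g => ?_⟩
    rw [Subgroup.mem_subgroupOf] at hn ⊢
    have h1 := hc g g.2 _ (hND hn)
    have h2 : ((g * n * g⁻¹ : D) : T) = ⁅(g : T), (n : T)⁆ * n := by
      simp [commutatorElement_def]
    rw [h2]
    exact N.mul_mem h1 hn
  have h1 := hsr D (N.subgroupOf D) (⊤ : Subgroup (D ⧸ N.subgroupOf D))
    ⟨⟨fun a b => Subtype.ext (by
      obtain ⟨a, ha⟩ := a
      obtain ⟨b, hb⟩ := b
      induction a using QuotientGroup.induction_on with
      | H a =>
        induction b using QuotientGroup.induction_on with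
        | H b =>
          show ((a : D ⧸ N.subgroupOf D) * (b : D ⧸ N.subgroupOf D)) = b * a
          have h3 : ((⁅a, b⁆ : D) : D ⧸ N.subgroupOf D) = 1 := by
            rw [QuotientGroup.eq_one_iff, Subgroup.mem_subgroupOf]
            exact hc a a.2 b b.2
          rw [commutatorElement_def, QuotientGroup.mk_mul, QuotientGroup.mk_mul, QuotientGroup.mk_mul,
            QuotientGroup.mk_inv, QuotientGroup.mk_inv] at h3
          have h4 := mul_inv_eq_one.1 h3
          rw [mul_inv_eq_iff_eq_mul] at h4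
          exact h4)⟩⟩
    (by
      intro a _
      induction a using QuotientGroup.induction_on with
      | H a =>
        rw [← QuotientGroup.mk_pow, QuotientGroup.eq_one_iff, Subgroup.mem_subgroupOf]
        exact hpw a a.2)
  rw [Subgroup.card_top] at h1
  exact h1

/-- Fermat on a section of order `p`: an automorphism with `g^p` trivial on `B/A` is trivial on `B/A`. -/
theorem jt_fermat {A B : Subgroup T} (hAB : A ≤ B) (hAn : A.Normal) (hi : A.relIndex B = p) (g : MulAut T)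
    (hgA : ∀ a ∈ A, g a ∈ A) (hgB : ∀ b ∈ B, g b ∈ B)
    (hcomm : ∀ a ∈ B, ∀ b ∈ B, ⁅a, b⁆ ∈ A)
    (hgp : ∀ b ∈ B, (g ^ p) b * b⁻¹ ∈ A) {b : T} (hb : b ∈ B) : g b * b⁻¹ ∈ A := by
  classical
  have hp : p.Prime := Fact.out
  by_cases hbA : b ∈ A
  · exact A.mul_mem (hgA b hbA) (A.inv_mem hbA)
  -- `B = A ⟨b⟩`
  have hW : B ≤ A ⊔ Subgroup.zpowers b := by
    have h1 : A ≤ A ⊔ Subgroup.zpowers b := le_sup_left
    have h2 : A ⊔ Subgroup.zpowers b ≤ B := sup_le hAB (by
      rw [Subgroup.zpowers_le]; exact hb)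
    have h3 := Subgroup.relIndex_mul_relIndex A _ B h1 h2
    rw [hi] at h3
    have h4 : A.relIndex (A ⊔ Subgroup.zpowers b) ≠ 1 := by
      intro h
      have h5 := Subgroup.relIndex_eq_one.1 h
      exact hbA (h5 (Subgroup.mem_sup_right (Subgroup.mem_zpowers b)))
    have h6 : (A ⊔ Subgroup.zpowers b).relIndex B = 1 := by
      rcases (Nat.dvd_prime hp).1 (Dvd.intro_left _ h3) with h | h
      · exact h
      · exfalso
        rw [h] at h3
        have : A.relIndex (A ⊔ Subgroup.zpowers b) = 1 := by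
          have := hp.pos
          nlinarith
        exact h4 this
    exact Subgroup.relIndex_eq_one.1 h6
  -- `g b ≡ b^e`
  have hform : ∀ y ∈ B, ∃ e : ℕ, y * (b ^ e)⁻¹ ∈ A := by
    intro y hy
    have h1 := hW hy
    rw [← SetLike.mem_coe, Subgroup.normal_mul, Set.mem_mul] at h1
    obtain ⟨a, ha, w, hw, rfl⟩ := h1
    obtain ⟨e, rfl⟩ := (mem_powers_iff_mem_zpowers.2 (SetLike.mem_coe.1 hw))
    refine ⟨e, ?_⟩
    simpa [mul_assoc] using ha
  obtain ⟨e, he⟩ := hform (g b) (hgB b hb)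
  -- powers
  have hpowb : ∀ k : ℕ, ∀ y z : T, y ∈ B → z ∈ B → y * z⁻¹ ∈ A → y ^ k * (z ^ k)⁻¹ ∈ A := by
    intro k y z hy hz hyz
    induction k with
    | zero => simp [A.one_mem]
    | succ k ih =>
      have h1 : y ^ (k + 1) * (z ^ (k + 1))⁻¹ =
          y ^ k * (y * z⁻¹) * (y ^ k)⁻¹ * (y ^ k * (z ^ k)⁻¹) := by
        rw [pow_succ, pow_succ]; group
      rw [h1]
      exact A.mul_mem (hAn.conj_mem _ hyz _) ih
  have hit : ∀ k : ℕ, (g ^ k) b * (b ^ (e ^ k))⁻¹ ∈ A := by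
    intro k
    induction k with
    | zero => simp [A.one_mem]
    | succ k ih =>
      have hb1 : (g ^ k) b ∈ B := by
        clear ih
        induction k with
        | zero => simpa using hb
        | succ k ih2 =>
          rw [pow_succ', MulAut.mul_apply]
          exact hgB _ ih2
      have h1 : g ((g ^ k) b) * (g (b ^ (e ^ k)))⁻¹ ∈ A := by
        have := hgA _ ih
        simpa using this
      have h2 : g (b ^ (e ^ k)) * ((b ^ e) ^ (e ^ k))⁻¹ ∈ A := by
        rw [map_pow]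
        exact hpowb _ _ _ (hgB b hb) (B.pow_mem hb e) he
      have h3 := A.mul_mem h1 h2
      have h4 : g ((g ^ k) b) * (g (b ^ (e ^ k)))⁻¹ * (g (b ^ (e ^ k)) * ((b ^ e) ^ (e ^ k))⁻¹) =
          (g ^ (k + 1)) b * (b ^ (e ^ (k + 1)))⁻¹ := by
        rw [pow_succ' g, MulAut.mul_apply, pow_succ' e, ← pow_mul]
        group
      rw [← h4]
      exact h3
  -- Fermat
  have h5 := hit p
  have h6 := hgp b hb
  have h7 : b ^ (e ^ p) * b⁻¹ ∈ A := by
    have h8 := A.mul_mem (A.inv_mem h5) h6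
    have h9 : (((g ^ p) b) * (b ^ (e ^ p))⁻¹)⁻¹ * ((g ^ p) b * b⁻¹) = b ^ (e ^ p) * b⁻¹ := by group
    rwa [h9] at h8
  -- order of `b` modulo `A`
  have hdiv : ∀ k : ℕ, b ^ k ∈ A → p ∣ k := by
    intro k hk
    by_contra hnd
    have hco : Nat.Coprime k p := ((Nat.Prime.coprime_iff_not_dvd hp).2 hnd).symm
    have hbp : b ^ p ∈ A := by
      -- `B/A` has order `p`
      haveI : (A.subgroupOf B).Normal := by
        refine ⟨fun n hn g => ?_⟩
        rw [Subgroup.mem_subgroupOf] at hn ⊢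
        exact hAn.conj_mem _ hn _
      have h1 := Subgroup.pow_index_mem (A.subgroupOf B) (⟨b, hb⟩ : B)
      rw [Subgroup.mem_subgroupOf] at h1
      have h2 : (A.subgroupOf B).index = p := hi
      rw [h2] at h1
      simpa using h1
    obtain ⟨m, hm⟩ := Nat.exists_mul_mod_eq_one_of_coprime hco hp.one_lt
    obtain ⟨q, hq⟩ : ∃ q, k * m = p * q + 1 := ⟨k * m / p, by
      have := Nat.div_add_mod (k * m) p
      rw [hm.2] at this
      exact this.symm⟩
    have h1 : (b ^ k) ^ m * ((b ^ p) ^ q)⁻¹ = b := by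
      rw [← pow_mul, ← pow_mul, hq, pow_add, pow_one]
      group
    apply hbA
    rw [← h1]
    exact A.mul_mem (A.pow_mem hk m) (A.inv_mem (A.pow_mem hbp _))
  have hbp : b ^ p ∈ A := by
    haveI : (A.subgroupOf B).Normal := by
      refine ⟨fun n hn g => ?_⟩
      rw [Subgroup.mem_subgroupOf] at hn ⊢
      exact hAn.conj_mem _ hn _
    have h1 := Subgroup.pow_index_mem (A.subgroupOf B) (⟨b, hb⟩ : B)
    rw [Subgroup.mem_subgroupOf] at h1
    have h2 : (A.subgroupOf B).index = p := hi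
    rw [h2] at h1
    simpa using h1
  have he0 : 1 ≤ e := by
    rcases Nat.eq_zero_or_pos e with rfl | h
    · exfalso
      rw [zero_pow hp.ne_zero, pow_zero, one_mul] at h7
      exact hbA (by simpa using A.inv_mem h7)
    · exact h
  have hep : 1 ≤ e ^ p := Nat.one_le_pow _ _ he0
  have h8 : b ^ (e ^ p - 1) ∈ A := by
    have : b ^ (e ^ p) * b⁻¹ = b ^ (e ^ p - 1) := by
      conv_lhs => rw [← Nat.sub_add_cancel hep, pow_succ]
      group
    rwa [this] at h7
  have h9 : p ∣ e ^ p - 1 := hdiv _ h8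
  have h10 : p ∣ e - 1 := by
    rw [← ZMod.natCast_eq_zero_iff] at h9 ⊢
    rw [Nat.cast_sub hep, Nat.cast_pow, ZMod.pow_card, Nat.cast_one] at h9
    rw [Nat.cast_sub he0, Nat.cast_one]
    exact h9
  obtain ⟨k, hk⟩ := h10
  have h11 : b ^ e * b⁻¹ ∈ A := by
    have : b ^ e * b⁻¹ = (b ^ p) ^ k := by
      rw [← pow_mul, ← hk]
      conv_lhs => rw [← Nat.sub_add_cancel he0, pow_succ]
      group
    rw [this]
    exact A.pow_mem hbp k
  have h12 := A.mul_mem he h11
  have h13 : g b * (b ^ e)⁻¹ * (b ^ e * b⁻¹) = g b * b⁻¹ := by group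
  rwa [h13] at h12

theorem jt_relIndex_adjoin {A : Subgroup T} (hAn : A.Normal) {v : T} (hv : v ∉ A) (hvp : v ^ p ∈ A) :
    A.relIndex (A ⊔ Subgroup.zpowers v) = p := by
  have hp : p.Prime := Fact.out
  haveI := hAn
  rw [Subgroup.relIndex_sup_left]
  let π := QuotientGroup.mk' A
  have h1 : A.relIndex (Subgroup.zpowers v) = Nat.card ((Subgroup.zpowers v).map π) := by
    have h2 := Subgroup.relIndex_comap (H := (⊥ : Subgroup (T ⧸ A))) π (Subgroup.zpowers v)
    rw [Subgroup.relIndex_bot_left, MonoidHom.comap_bot, QuotientGroup.ker_mk'] at h2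
    exact h2
  rw [h1, MonoidHom.map_zpowers, Nat.card_zpowers]
  apply orderOf_eq_prime
  · rw [← map_pow]
    exact (QuotientGroup.eq_one_iff _).2 hvp
  · intro h
    exact hv ((QuotientGroup.eq_one_iff _).1 h)

/-- Unipotence on a section of order `p^2`. -/
theorem jt_unip {A B : Subgroup T} (hAB : A ≤ B) (hAn : A.Normal) (hi : A.relIndex B = p ^ 2) (g : MulAut T)
    (hgA : ∀ a ∈ A, g a ∈ A) (hgB : ∀ b ∈ B, g b ∈ B)
    (hc : ∀ b ∈ B, ∀ w : T, ⁅b, w⁆ ∈ A) (hpw : ∀ b ∈ B, b ^ p ∈ A)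
    (hgp : ∀ b ∈ B, (g ^ p) b * b⁻¹ ∈ A) {b : T} (hb : b ∈ B) :
    g (b⁻¹ * g b) * (b⁻¹ * g b)⁻¹ ∈ A := by
  classical
  have hp : p.Prime := Fact.out
  haveI := hAn
  -- the action on `B/A`
  let gB : B →* B := (g.toMonoidHom.comp B.subtype).codRestrict B (fun b => hgB b b.2)
  have hsub : A.subgroupOf B ≤ (A.subgroupOf B).comap gB := by
    intro a ha
    rw [Subgroup.mem_comap, Subgroup.mem_subgroupOf] at *
    exact hgA _ ha
  let S := B ⧸ A.subgroupOf B
  let F : S →* S := QuotientGroup.map _ _ gB hsub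
  have hgk : ∀ (k : ℕ) (u : T), u ∈ B → (g ^ k) u ∈ B := by
    intro k u hu
    induction k with
    | zero => simpa using hu
    | succ k ih =>
      rw [pow_succ', MulAut.mul_apply]
      exact hgB _ ih
  have hFmk : ∀ (k : ℕ) (u : B), F^[k] (u : S) = (((⟨(g ^ k) u, hgk k u u.2⟩ : B)) : S) := by
    intro k u
    induction k with
    | zero => rfl
    | succ k ih =>
      rw [Function.iterate_succ_apply', ih]
      apply congrArg (QuotientGroup.mk (s := A.subgroupOf B))
      apply Subtype.ext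
      show g ((g ^ k) (u : T)) = (g ^ (k + 1)) (u : T)
      rw [pow_succ', MulAut.mul_apply]
  have hper : ∀ s : S, F^[p] s = s := by
    intro s
    induction s using QuotientGroup.induction_on with
    | H u =>
      rw [hFmk]
      apply QuotientGroup.eq.2
      rw [Subgroup.mem_subgroupOf]
      have h1 := hgp u u.2
      have h2 := A.inv_mem h1
      have h3 : ((g ^ p) (u : T) * (u : T)⁻¹)⁻¹ = (u : T) * ((g ^ p) (u : T))⁻¹ := by group
      rw [h3] at h2
      have h4 := hAn.conj_mem _ h2 ((g ^ p) (u : T))⁻¹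
      have h5 : ((g ^ p) (u : T))⁻¹ * ((u : T) * ((g ^ p) (u : T))⁻¹) * ((g ^ p) (u : T))⁻¹⁻¹ =
          ((g ^ p) (u : T))⁻¹ * (u : T) := by group
      rw [h5] at h4
      simpa using h4
  let f : Function.End S := ⇑F
  haveI : Fintype S := Fintype.ofFinite S
  have hfpow : ∀ (k : ℕ) (s : S), (f ^ k) s = F^[k] s := by
    intro k
    induction k with
    | zero => intro s; rfl
    | succ k ih =>
      intro s
      rw [pow_succ]
      show (f ^ k) (f s) = _
      rw [ih]
      rfl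
  have hf : f ^ p ^ 1 = 1 := by
    rw [pow_one]
    funext s
    rw [hfpow]
    exact hper s
  have hcount := Equiv.Perm.card_fixedPoints_modEq (α := S) (f := f) (p := p) (n := 1) hf
  rw [← Nat.card_eq_fintype_card, ← Nat.card_eq_fintype_card] at hcount
  have hcardS : Nat.card S = p ^ 2 := hi
  have hdvd : p ∣ Nat.card f.fixedPoints := by
    have h1 : p ∣ Nat.card S := by rw [hcardS]; exact dvd_pow_self p (by norm_num)
    exact (Nat.modEq_zero_iff_dvd.1 (hcount.symm.trans (Nat.modEq_zero_iff_dvd.2 h1)))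
  have hfix1 : (1 : S) ∈ f.fixedPoints := by
    show f 1 = 1
    exact map_one F
  obtain ⟨⟨s, hs⟩, hs1⟩ : ∃ s : f.fixedPoints, s ≠ ⟨1, hfix1⟩ := by
    by_contra hne
    push_neg at hne
    have h1 : Nat.card f.fixedPoints = 1 := by
      haveI : Subsingleton f.fixedPoints := ⟨fun a b => by rw [hne a, hne b]⟩
      haveI : Nonempty f.fixedPoints := ⟨⟨1, hfix1⟩⟩
      exact Nat.card_unique
    rw [h1] at hdvd
    exact hp.one_lt.ne' (Nat.dvd_one.1 hdvd)
  have hs2 : s ≠ 1 := fun h => hs1 (Subtype.ext h)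
  obtain ⟨v, rfl⟩ := QuotientGroup.mk_surjective s
  have hvA : (v : T) ∉ A := by
    intro h
    apply hs2
    exact (QuotientGroup.eq_one_iff _).2 ((Subgroup.mem_subgroupOf).2 h)
  have hgv : g (v : T) * (v : T)⁻¹ ∈ A := by
    have h1 : F (v : S) = (v : S) := hs
    have h2 : ((gB v : B) : S) = (v : S) := h1
    have h3 := QuotientGroup.eq.1 h2
    rw [Subgroup.mem_subgroupOf] at h3
    have h4 : (((gB v)⁻¹ * v : B) : T) = (g (v : T))⁻¹ * (v : T) := rfl
    rw [h4] at h3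
    have h5 := A.inv_mem h3
    have h7 : ((g (v : T))⁻¹ * (v : T))⁻¹ = (v : T)⁻¹ * g (v : T) := by group
    rw [h7] at h5
    have h8 := hAn.conj_mem _ h5 (v : T)
    have h9 : (v : T) * ((v : T)⁻¹ * g (v : T)) * (v : T)⁻¹ = g (v : T) * (v : T)⁻¹ := by group
    rwa [h9] at h8
  -- the intermediate subgroup
  let B₁ : Subgroup T := A ⊔ Subgroup.zpowers (v : T)
  have hAB₁ : A ≤ B₁ := le_sup_left
  have hB₁B : B₁ ≤ B := sup_le hAB (by rw [Subgroup.zpowers_le]; exact v.2)
  have hvB₁ : (v : T) ∈ B₁ := Subgroup.mem_sup_right (Subgroup.mem_zpowers _)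
  have hi1 : A.relIndex B₁ = p := jt_relIndex_adjoin hAn hvA (hpw _ v.2)
  have hi2 : B₁.relIndex B = p := by
    have h1 := Subgroup.relIndex_mul_relIndex A B₁ B hAB₁ hB₁B
    rw [hi1, hi] at h1
    have h2 : p * B₁.relIndex B = p * p := by rw [h1]; ring
    exact Nat.eq_of_mul_eq_mul_left hp.pos h2
  have hB₁n : B₁.Normal := by
    refine ⟨fun n hn w => ?_⟩
    have h1 : w * n * w⁻¹ = ⁅w, n⁆ * n := by rw [commutatorElement_def]; group
    rw [h1]
    refine B₁.mul_mem (hAB₁ ?_) hn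
    have h2 := hc n (hB₁B hn) w
    have h3 := A.inv_mem h2
    rwa [commutatorElement_inv] at h3
  have hgB₁ : ∀ u ∈ B₁, g u ∈ B₁ := by
    intro u hu
    have : B₁ ≤ B₁.comap g.toMonoidHom := by
      refine sup_le ?_ ?_
      · intro a ha
        exact hAB₁ (hgA a ha)
      · rw [Subgroup.zpowers_le]
        show g (v : T) ∈ B₁
        have h1 : g (v : T) = (g (v : T) * (v : T)⁻¹) * (v : T) := by group
        rw [h1]
        exact B₁.mul_mem (hAB₁ hgv) hvB₁
    exact this hu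
  have hstep1 : ∀ u ∈ B, ∀ w ∈ B, ⁅u, w⁆ ∈ B₁ := fun u hu w _ => hAB₁ (hc u hu w)
  have hb1 : g b * b⁻¹ ∈ B₁ := by
    by_cases hbB₁ : b ∈ B₁
    · exact B₁.mul_mem (hgB₁ b hbB₁) (B₁.inv_mem hbB₁)
    · exact jt_fermat hB₁B hB₁n hi2 g hgB₁ hgB hstep1 (fun u hu => hAB₁ (hgp u hu)) hb
  have hu : b⁻¹ * g b ∈ B₁ := by
    have h1 := hB₁n.conj_mem _ hb1 b⁻¹
    have h2 : b⁻¹ * (g b * b⁻¹) * b⁻¹⁻¹ = b⁻¹ * g b := by group
    rwa [h2] at h1
  exact jt_fermat hAB₁ hAn hi1 g hgA hgB₁ (fun a ha c _ => hc a (hB₁B ha) c)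
    (fun u hu' => hgp u (hB₁B hu')) hu

end JTAux
end Cfsg.Agent.Lib.S5180
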