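import Cfsg.Agent.Lib.S5180.RH1Lin

/-! PLAN §T step Y, part RH1: for the `p`-group `PP ≤ Aut T` with `Stab_PP(E) ≤ Inn T`: `π^p` is inner,
`π` fixes `w` modulo `Φ(T)`, and `PP = ⟨σ⟩ Inn T` for any `σ ∈ PP` moving `E`. -/

set_option autoImplicit false

open scoped commutatorElement
open Cfsg

namespace Cfsg.Agent.Lib.S5180

universe u x

namespace RH1Aux

open RH1Lin

theorem pow_add {p : ℕ} [hp : Fact p.Prime] {B : Type u} [AddCommGroup B] [Finite B] (hp3 : 3 ≤ p)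
    (hexp : ∀ a : B, p • a = 0) (y₀ t₀ w₀ : B)
    (hgen : ∀ a : B, ∃ i j k : ℕ, a = i • y₀ + j • t₀ + k • w₀) (β : B →+ B) (m : ℕ)
    (hβ : ∀ a, β^[p ^ m] a = a) : ∀ a, β^[p] a = a := by
  classical
  letI hmod : Module (ZMod p) B := AddCommGroup.zmodModule (n := p) hexp
  haveI : Module.Finite (ZMod p) B := Module.Finite.of_finite
  let g : Module.End (ZMod p) B := β.toZModLinearMap p
  have hg : ∀ a : B, g a = β a := fun a => rfl
  have hiter : ∀ (n : ℕ) (a : B), (g ^ n) a = β^[n] a := by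
    intro n
    induction n with
    | zero => intro a; rfl
    | succ n ih =>
      intro a
      rw [pow_succ', Module.End.mul_apply, ih, Function.iterate_succ_apply', hg]
  have hgp : g ^ (p ^ m) = 1 := by
    ext v
    have := hiter (p ^ m) v
    rw [hβ] at this
    exact this
  have htop : Submodule.span (ZMod p) (({y₀, t₀, w₀} : Finset B) : Set B) = ⊤ := by
    rw [eq_top_iff]
    intro v _
    obtain ⟨i, j, k, rfl⟩ := hgen v
    refine add_mem (add_mem (Submodule.smul_of_tower_mem _ _ (Submodule.subset_span ?_))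
      (Submodule.smul_of_tower_mem _ _ (Submodule.subset_span ?_)))
      (Submodule.smul_of_tower_mem _ _ (Submodule.subset_span ?_))
      <;> simp
  have hfin : Module.finrank (ZMod p) B ≤ 3 := by
    have h1 := finrank_span_finset_le_card (R := ZMod p) ({y₀, t₀, w₀} : Finset B)
    have h2 : (({y₀, t₀, w₀} : Finset B) : Set B).finrank (ZMod p) = Module.finrank (ZMod p) B := by
      rw [Set.finrank, htop, finrank_top]
    have h3 : ({y₀, t₀, w₀} : Finset B).card ≤ 3 := Finset.card_le_three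
    omega
  have key := pow_eq_one_of_ppow hp3 hfin g m hgp
  intro a
  have := hiter p a
  rw [key] at this
  exact this.symm

theorem pow_comm {p : ℕ} [hp : Fact p.Prime] {A : Type u} [Group A] [Finite A] (hp3 : 3 ≤ p)
    (hcomm : ∀ a b : A, a * b = b * a) (hexp : ∀ a : A, a ^ p = 1) (y₀ t₀ w₀ : A)
    (hgen : ∀ a : A, ∃ i j k : ℕ, a = y₀ ^ i * t₀ ^ j * w₀ ^ k) (β : A →* A) (m : ℕ)
    (hβ : ∀ a, β^[p ^ m] a = a) : ∀ a, β^[p] a = a := by
  letI cg : CommGroup A := { (inferInstance : Group A) with mul_comm := hcomm }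
  let β' : Additive A →+ Additive A :=
    { toFun := fun v => Additive.ofMul (β v.toMul)
      map_zero' := by
        show Additive.ofMul (β 1) = 0
        rw [map_one]; rfl
      map_add' := fun a b => by
        show Additive.ofMul (β (a.toMul * b.toMul)) = _
        rw [map_mul]; rfl }
  have hiter : ∀ (n : ℕ) (v : Additive A), β'^[n] v = Additive.ofMul (β^[n] v.toMul) := by
    intro n
    induction n with
    | zero => intro a; rfl
    | succ n ih =>
      intro a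
      rw [Function.iterate_succ_apply', ih, Function.iterate_succ_apply']
      rfl
  have key := pow_add (B := Additive A) hp3
    (fun a => by
      show Additive.ofMul (a.toMul ^ p) = 0
      rw [hexp]; rfl)
    (Additive.ofMul y₀) (Additive.ofMul t₀) (Additive.ofMul w₀)
    (fun a => by
      obtain ⟨i, j, k, h⟩ := hgen a.toMul
      refine ⟨i, j, k, ?_⟩
      show a = Additive.ofMul (y₀ ^ i * t₀ ^ j * w₀ ^ k)
      rw [← h]; rfl)
    β' m (fun a => by rw [hiter, hβ]; rfl)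
  intro a
  have := key (Additive.ofMul a)
  rw [hiter] at this
  exact Additive.ofMul.injective this

theorem cyc_add {p : ℕ} [hp : Fact p.Prime] {B : Type u} [AddCommGroup B] [Finite B]
    (hexp : ∀ a : B, p • a = 0) {Γ : Type x} [Group Γ] [Finite Γ] (hΓ : IsPGroup p Γ)
    (ρ : Γ → (B →+ B)) (hρ1 : ∀ a, ρ 1 a = a) (hρm : ∀ γ δ a, ρ (γ * δ) a = ρ γ (ρ δ a))
    (U : AddSubgroup B) (y₀ t₀ : B) (hy : y₀ ∈ U) (ht : t₀ ∉ U)
    (hgen : ∀ a : B, ∃ i j : ℕ, a = i • y₀ + j • t₀) (σ : Γ) (hσ : ¬ ∀ u ∈ U, ρ σ u ∈ U) (π : Γ) :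
    ∃ k : ℕ, ∀ u ∈ U, ρ π u = ρ (σ ^ k) u := by
  letI hmod : Module (ZMod p) B := AddCommGroup.zmodModule (n := p) hexp
  let ρ' : Γ → Module.End (ZMod p) B := fun γ => (ρ γ).toZModLinearMap p
  have hgen' : ∀ v : B, ∃ i j : ZMod p, v = i • y₀ + j • t₀ := by
    intro v
    obtain ⟨i, j, h⟩ := hgen v
    refine ⟨(i : ZMod p), (j : ZMod p), ?_⟩
    rw [Nat.cast_smul_eq_nsmul, Nat.cast_smul_eq_nsmul]
    exact h
  exact cyc_lin hΓ ρ' (by ext v; exact hρ1 v) (by intro γ δ; ext v; exact hρm γ δ v)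
    (AddSubgroup.toZModSubmodule p U) y₀ t₀ hy ht hgen' σ hσ π

theorem cyc_comm {p : ℕ} [hp : Fact p.Prime] {A : Type u} [Group A] [Finite A]
    (hcomm : ∀ a b : A, a * b = b * a) (hexp : ∀ a : A, a ^ p = 1) {Γ : Type x} [Group Γ] [Finite Γ]
    (hΓ : IsPGroup p Γ) (ρ : Γ → (A →* A)) (hρ1 : ∀ a, ρ 1 a = a)
    (hρm : ∀ γ δ a, ρ (γ * δ) a = ρ γ (ρ δ a)) (U : Subgroup A) (y₀ t₀ : A) (hy : y₀ ∈ U) (ht : t₀ ∉ U)
    (hgen : ∀ a : A, ∃ i j : ℕ, a = y₀ ^ i * t₀ ^ j) (σ : Γ) (hσ : ¬ ∀ u ∈ U, ρ σ u ∈ U) (π : Γ) :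
    ∃ k : ℕ, ∀ u ∈ U, ρ π u = ρ (σ ^ k) u := by
  letI cg : CommGroup A := { (inferInstance : Group A) with mul_comm := hcomm }
  let ρ' : Γ → (Additive A →+ Additive A) := fun γ =>
    { toFun := fun v => Additive.ofMul (ρ γ v.toMul)
      map_zero' := by
        show Additive.ofMul (ρ γ 1) = 0
        rw [map_one]; rfl
      map_add' := fun a b => by
        show Additive.ofMul (ρ γ (a.toMul * b.toMul)) = _
        rw [map_mul]; rfl }
  obtain ⟨k, hk⟩ := cyc_add (B := Additive A)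
    (fun a => by
      show Additive.ofMul (a.toMul ^ p) = 0
      rw [hexp]; rfl)
    hΓ ρ'
    (fun a => by
      show Additive.ofMul (ρ 1 a.toMul) = a
      rw [hρ1]; rfl)
    (fun γ δ a => by
      show Additive.ofMul (ρ (γ * δ) a.toMul) = Additive.ofMul (ρ γ (ρ δ a.toMul))
      rw [hρm])
    (Subgroup.toAddSubgroup U) (Additive.ofMul y₀) (Additive.ofMul t₀) hy ht
    (fun a => by
      obtain ⟨i, j, h⟩ := hgen a.toMul
      refine ⟨i, j, ?_⟩
      show a = Additive.ofMul (y₀ ^ i * t₀ ^ j)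
      rw [← h]; rfl)
    σ (fun h => hσ (fun u hu => h (Additive.ofMul u) hu)) π
  exact ⟨k, fun u hu => Additive.ofMul.injective (hk (Additive.ofMul u) hu)⟩

end RH1Aux

section Main
variable {T : Type u} [Group T] [Finite T] {p : ℕ} [Fact p.Prime]
variable {E : Subgroup T} {l y w t : T} {ah as' : MulAut E} {lam lam' : ℕ} {hat : MulAut T}

/-- `PP` is a `p`-group when it is a Sylow subgroup of `AA`. -/
theorem isPGroup_of_sylow {AA PP : Subgroup (MulAut T)} (hPP : PP ≤ AA)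
    (hsyl : ∃ R : Sylow p AA, (R : Subgroup AA) = PP.subgroupOf AA) : IsPGroup p PP := by
  obtain ⟨R, hR⟩ := hsyl
  rintro ⟨π, hπ⟩
  have hmem : (⟨π, hPP hπ⟩ : AA) ∈ (R : Subgroup AA) := by
    rw [hR]; exact hπ
  obtain ⟨m, hm⟩ := R.isPGroup' ⟨⟨π, hPP hπ⟩, hmem⟩
  refine ⟨m, ?_⟩
  apply Subtype.ext
  have h1 := congrArg (fun z => ((z : AA) : MulAut T)) (congrArg Subtype.val hm)
  simpa using h1

/-- RH1: `π^p` inner, `π` fixes `w̄`, `PP = ⟨σ⟩ Inn T`. -/
theorem Tv.rh1_core (h : Tv p E l y w t ah as' lam lam' hat) (hp : 5 ≤ p) (hT : IsPGroup p T)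
    (hgen' : ∀ z : T, ∃ a b c d : ℕ, z * (y ^ a * t ^ b * l ^ c * w ^ d)⁻¹ ∈ Frat E)
    (hFe : frattini T = Subgroup.zpowers l ⊔ Frat E)
    (hDD : ∀ σ : MulAut T, E.map σ.toMonoidHom ≠ E → w ∈ E.map σ.toMonoidHom ∨ σ w ∈ E)
    (PP : Subgroup (MulAut T)) (hPPp : IsPGroup p PP)
    (hfix : ∀ π ∈ PP, E.map (π : MulAut T).toMonoidHom = E → ∃ τ : T, π = MulAut.conj τ)
    (σ : MulAut T) (hσPP : σ ∈ PP) (hσ : E.map σ.toMonoidHom ≠ E) :
    (∀ π ∈ PP, ∃ τ : T, π ^ p = MulAut.conj τ) ∧ (∀ π ∈ PP, π w * w⁻¹ ∈ frattini T) ∧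
      (∀ π ∈ PP, ∃ (k : ℕ) (τ : T), π = σ ^ k * MulAut.conj τ) := by
  classical
  have hFratE : Frat E ≤ E := Subgroup.map_subtype_le _
  have hΦE : frattini T ≤ E := by
    rw [hFe]
    exact sup_le ((Subgroup.zpowers_le).mpr h.hl) hFratE
  have hFratΦ : Frat E ≤ frattini T := by rw [hFe]; exact le_sup_right
  have hlΦ : l ∈ frattini T := by
    rw [hFe]; exact Subgroup.mem_sup_left (Subgroup.mem_zpowers l)
  have hcomΦ : ∀ a b : T, ⁅a, b⁆ ∈ frattini T :=
    Cfsg.Agent.Lib.PGroup.Basic.commutatorElement_mem_frattini hT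
  have hpowΦ : ∀ a : T, a ^ p ∈ frattini T := Cfsg.Agent.Lib.PGroup.Basic.pow_mem_frattini hT
  have hle : ∀ α : MulAut T, frattini T ≤ (frattini T).comap α.toMonoidHom :=
    Subgroup.characteristic_iff_le_comap.mp inferInstance
  -- `E` invariant from a map of `E` into `E`
  have hmapE : ∀ α : MulAut T, (∀ z ∈ E, α z ∈ E) → E.map α.toMonoidHom = E := by
    intro α hα
    apply Subgroup.eq_of_le_of_card_ge
    · rintro _ ⟨e, he, rfl⟩
      exact hα e he
    · rw [Subgroup.card_map_of_injective (MulEquiv.injective α)]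
  -- Part 1: `π^p` inner
  have hcm : ∀ a b : T ⧸ frattini T, a * b = b * a := by
    intro a b
    obtain ⟨a, rfl⟩ := QuotientGroup.mk_surjective a
    obtain ⟨b, rfl⟩ := QuotientGroup.mk_surjective b
    have h2 : ((⁅a, b⁆ : T) : T ⧸ frattini T) = 1 := (QuotientGroup.eq_one_iff _).mpr (hcomΦ a b)
    rw [commutatorElement_def, QuotientGroup.mk_mul, QuotientGroup.mk_mul, QuotientGroup.mk_mul,
      QuotientGroup.mk_inv, QuotientGroup.mk_inv] at h2
    exact mul_inv_eq_one.mp (by rw [← h2]; group)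
  have hex : ∀ a : T ⧸ frattini T, a ^ p = 1 := by
    intro a
    obtain ⟨a, rfl⟩ := QuotientGroup.mk_surjective a
    rw [← QuotientGroup.mk_pow]
    exact (QuotientGroup.eq_one_iff _).mpr (hpowΦ a)
  have hmkl : (l : T ⧸ frattini T) = 1 := (QuotientGroup.eq_one_iff _).mpr hlΦ
  have hmkgen : ∀ z : T, ∃ i j c k : ℕ, (z : T ⧸ frattini T) =
      (y : T ⧸ frattini T) ^ i * (t : T ⧸ frattini T) ^ j * (l : T ⧸ frattini T) ^ c *
        (w : T ⧸ frattini T) ^ k := by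
    intro z
    obtain ⟨i, j, c, k, hz⟩ := hgen' z
    refine ⟨i, j, c, k, ?_⟩
    have h2 : ((z * (y ^ i * t ^ j * l ^ c * w ^ k)⁻¹ : T) : T ⧸ frattini T) = 1 :=
      (QuotientGroup.eq_one_iff _).mpr (hFratΦ hz)
    rw [QuotientGroup.mk_mul, QuotientGroup.mk_inv] at h2
    rw [mul_inv_eq_one.mp h2]
    simp only [QuotientGroup.mk_mul, QuotientGroup.mk_pow]
  have hpart1 : ∀ π ∈ PP, ∃ τ : T, π ^ p = MulAut.conj τ := by
    intro π hπ
    obtain ⟨m, hm⟩ := hPPp ⟨π, hπ⟩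
    have hm' : π ^ (p ^ m) = 1 := by
      have := congrArg Subtype.val hm
      simpa using this
    let β : T ⧸ frattini T →* T ⧸ frattini T := QuotientGroup.map _ _ π.toMonoidHom (hle π)
    have hβ : ∀ z : T, β (z : T ⧸ frattini T) = ((π z : T) : T ⧸ frattini T) := fun z => rfl
    have hiter : ∀ (n : ℕ) (z : T), β^[n] (z : T ⧸ frattini T) = (((π ^ n) z : T) : T ⧸ frattini T) := by
      intro n
      induction n with
      | zero => intro z; rfl
      | succ n ih =>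
        intro z
        rw [Function.iterate_succ_apply', ih, hβ, pow_succ']
        rfl
    have key := RH1Aux.pow_comm (by omega) hcm hex (y : T ⧸ frattini T) (t : T ⧸ frattini T)
      (w : T ⧸ frattini T)
      (fun a => by
        obtain ⟨z, rfl⟩ := QuotientGroup.mk_surjective a
        obtain ⟨i, j, c, k, hz⟩ := hmkgen z
        refine ⟨i, j, k, ?_⟩
        rw [hz, hmkl, one_pow, mul_one])
      β m
      (fun a => by
        obtain ⟨z, rfl⟩ := QuotientGroup.mk_surjective a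
        rw [hiter, hm']
        rfl)
    apply hfix _ (PP.pow_mem hπ p)
    apply hmapE
    intro z hz
    have h1 := key (z : T ⧸ frattini T)
    rw [hiter] at h1
    have h2 : z⁻¹ * (π ^ p) z ∈ frattini T := QuotientGroup.eq.mp h1.symm
    have h3 := E.mul_mem hz (hΦE h2)
    simpa using h3
  -- Part 2: `π` fixes `w̄`
  have hpart2 : ∀ π ∈ PP, π w * w⁻¹ ∈ frattini T := by
    intro π hπ
    by_cases hE : E.map π.toMonoidHom = E
    · obtain ⟨τ, rfl⟩ := hfix π hπ hE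
      exact hcomΦ τ w
    · obtain ⟨τ, hτ⟩ := hpart1 π hπ
      exact h.fix_w_core hp hT hgen' hFe hDD π τ hE hτ
  refine ⟨hpart1, hpart2, ?_⟩
  -- Part 3
  intro π hπ
  let N : Subgroup T := frattini T ⊔ Subgroup.zpowers w
  have hΦN : frattini T ≤ N := le_sup_left
  have hwN : w ∈ N := Subgroup.mem_sup_right (Subgroup.mem_zpowers w)
  have hNE : N ≤ E := sup_le hΦE ((Subgroup.zpowers_le).mpr h.hw)
  haveI hNn : N.Normal := ⟨fun n hn g => by
    have h1 : g * n * g⁻¹ = ⁅g, n⁆ * n := by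
      rw [commutatorElement_def]; group
    rw [h1]
    exact N.mul_mem (hΦN (hcomΦ g n)) hn⟩
  have hNinv : ∀ α ∈ PP, N ≤ N.comap (α : MulAut T).toMonoidHom := by
    intro α hα
    refine sup_le ((hle α).trans (Subgroup.comap_mono hΦN)) ((Subgroup.zpowers_le).mpr ?_)
    show α w ∈ N
    have h1 : α w = (α w * w⁻¹) * w := by group
    rw [h1]
    exact N.mul_mem (hΦN (hpart2 α hα)) hwN
  let ρ : ↥PP → (T ⧸ N →* T ⧸ N) := fun α =>
    QuotientGroup.map N N (α : MulAut T).toMonoidHom (hNinv α α.2)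
  have hρ : ∀ (α : ↥PP) (z : T), ρ α (z : T ⧸ N) = (((α : MulAut T) z : T) : T ⧸ N) := fun α z => rfl
  have hcmN : ∀ a b : T ⧸ N, a * b = b * a := by
    intro a b
    obtain ⟨a, rfl⟩ := QuotientGroup.mk_surjective a
    obtain ⟨b, rfl⟩ := QuotientGroup.mk_surjective b
    have h2 : ((⁅a, b⁆ : T) : T ⧸ N) = 1 := (QuotientGroup.eq_one_iff _).mpr (hΦN (hcomΦ a b))
    rw [commutatorElement_def, QuotientGroup.mk_mul, QuotientGroup.mk_mul, QuotientGroup.mk_mul,
      QuotientGroup.mk_inv, QuotientGroup.mk_inv] at h2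
    exact mul_inv_eq_one.mp (by rw [← h2]; group)
  have hexN : ∀ a : T ⧸ N, a ^ p = 1 := by
    intro a
    obtain ⟨a, rfl⟩ := QuotientGroup.mk_surjective a
    rw [← QuotientGroup.mk_pow]
    exact (QuotientGroup.eq_one_iff _).mpr (hΦN (hpowΦ a))
  have hU : ∀ z : T, (z : T ⧸ N) ∈ E.map (QuotientGroup.mk' N) ↔ z ∈ E := by
    intro z
    constructor
    · rintro ⟨e, he, hez⟩
      have h1 : e⁻¹ * z ∈ N := QuotientGroup.eq.mp hez
      have h2 := E.mul_mem he (hNE h1)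
      simpa using h2
    · intro hz
      exact ⟨z, hz, rfl⟩
  have hσ' : ¬ ∀ u ∈ E.map (QuotientGroup.mk' N), ρ ⟨σ, hσPP⟩ u ∈ E.map (QuotientGroup.mk' N) := by
    intro hall
    apply hσ
    apply hmapE
    intro z hz
    have h1 := hall (z : T ⧸ N) ((hU z).mpr hz)
    rw [hρ] at h1
    exact (hU _).mp h1
  obtain ⟨k, hk⟩ := RH1Aux.cyc_comm hcmN hexN hPPp ρ
    (fun a => by
      obtain ⟨z, rfl⟩ := QuotientGroup.mk_surjective a
      rfl)
    (fun γ δ a => by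
      obtain ⟨z, rfl⟩ := QuotientGroup.mk_surjective a
      rfl)
    (E.map (QuotientGroup.mk' N)) (y : T ⧸ N) (t : T ⧸ N) ((hU y).mpr h.hy)
    (fun hh => h.ht ((hU t).mp hh))
    (fun a => by
      obtain ⟨z, rfl⟩ := QuotientGroup.mk_surjective a
      obtain ⟨i, j, c, k, hz⟩ := hgen' z
      refine ⟨i, j, ?_⟩
      have h2 : ((z * (y ^ i * t ^ j * l ^ c * w ^ k)⁻¹ : T) : T ⧸ N) = 1 :=
        (QuotientGroup.eq_one_iff _).mpr (hΦN (hFratΦ hz))
      rw [QuotientGroup.mk_mul, QuotientGroup.mk_inv] at h2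
      rw [mul_inv_eq_one.mp h2]
      have hl1 : (l : T ⧸ N) = 1 := (QuotientGroup.eq_one_iff _).mpr (hΦN hlΦ)
      have hw1 : (w : T ⧸ N) = 1 := (QuotientGroup.eq_one_iff _).mpr hwN
      simp only [QuotientGroup.mk_mul, QuotientGroup.mk_pow, hl1, hw1, one_pow, mul_one])
    ⟨σ, hσPP⟩ hσ' ⟨π, hπ⟩
  -- `π' = σ^{-k} π` fixes `E`
  have hσk : ((⟨σ, hσPP⟩ : ↥PP) ^ k : ↥PP).1 = σ ^ k := by simp
  have hπ' : (σ ^ k)⁻¹ * π ∈ PP := PP.mul_mem (PP.inv_mem (PP.pow_mem hσPP k)) hπ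
  obtain ⟨τ, hτ⟩ := hfix _ hπ' (hmapE _ (by
    intro z hz
    have h1 := hk (z : T ⧸ N) ((hU z).mpr hz)
    rw [hρ, hρ, hσk] at h1
    -- `π z ≡ σ^k z`
    have h2 : ((σ ^ k) z)⁻¹ * π z ∈ N := QuotientGroup.eq.mp h1.symm
    have h3 := hNinv _ (PP.inv_mem (PP.pow_mem hσPP k)) h2
    have h4 : ((σ ^ k)⁻¹ : MulAut T) (((σ ^ k) z)⁻¹ * π z) ∈ N := h3
    rw [map_mul, map_inv, MulAut.inv_apply_self] at h4
    have h5 := E.mul_mem hz (hNE h4)
    have h6 : ((σ ^ k)⁻¹ * π : MulAut T) z = z * (z⁻¹ * ((σ ^ k)⁻¹ : MulAut T) (π z)) := by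
      rw [mul_inv_cancel_left]; rfl
    rw [h6]
    exact h5))
  refine ⟨k, τ, ?_⟩
  rw [← hτ, mul_inv_cancel_left]

end Main

end Cfsg.Agent.Lib.S5180
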