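import Cfsg.Agent.Lib.S5180.ChainCore

/-! Linear algebra for PLAN §T step Y, first part: `π^p` inner; a `p`-group acting on a plane with a
moved line is generated modulo the stabilizer of that line by one element. -/

set_option autoImplicit false

namespace Cfsg.Agent.Lib.S5180.RH1Lin

open Module Polynomial

universe v x

variable {p : ℕ} [hp : Fact p.Prime] {V : Type v} [AddCommGroup V] [Module (ZMod p) V] [Finite V]

/-- `g` of `p`-power order on a space of dimension `≤ 3`, `3 ≤ p`: `g^p = 1`. -/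
theorem pow_eq_one_of_ppow (hp3 : 3 ≤ p) (hfin : finrank (ZMod p) V ≤ 3) (g : End (ZMod p) V) (k : ℕ)
    (hg : g ^ (p ^ k) = 1) : g ^ p = 1 := by
  haveI : Module.Finite (ZMod p) V := Module.Finite.of_finite
  have h1 : (g - 1) ^ (p ^ k) = 0 := by
    have hpoly : ((X - 1 : (ZMod p)[X])) ^ (p ^ k) = X ^ (p ^ k) - 1 := by
      rw [sub_pow_char_pow, one_pow]
    have := congrArg (aeval g) hpoly
    simp only [map_pow, map_sub, aeval_X, map_one] at this
    rw [this, hg, sub_self]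
  have hnil : IsNilpotent (g - 1) := ⟨_, h1⟩
  have hchar := (LinearMap.isNilpotent_iff_charpoly (g - 1)).mp hnil
  have hCH := LinearMap.aeval_self_charpoly (g - 1)
  rw [hchar, map_pow, aeval_X] at hCH
  have h3 : (g - 1) ^ p = 0 := pow_eq_zero_of_le (le_trans hfin hp3) hCH
  have hpoly : ((X - 1 : (ZMod p)[X])) ^ p = X ^ p - 1 := by
    rw [sub_pow_char, one_pow]
  have := congrArg (aeval g) hpoly
  simp only [map_pow, map_sub, aeval_X, map_one] at this
  rw [h3] at this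
  exact (sub_eq_zero.mp this.symm)

/-- A `p`-group `Γ` acts on `V = ⟨y₀, t₀⟩`, `U₀ ∋ y₀`, `t₀ ∉ U₀`, `σ` moves `U₀`. Then each `π` agrees
on `U₀` with a power of `σ`. -/
theorem cyc_lin {Γ : Type x} [Group Γ] [Finite Γ] (hΓ : IsPGroup p Γ) (ρ : Γ → End (ZMod p) V)
    (hρ1 : ρ 1 = 1) (hρm : ∀ γ δ, ρ (γ * δ) = ρ γ * ρ δ) (U₀ : Submodule (ZMod p) V) (y₀ t₀ : V)
    (hy : y₀ ∈ U₀) (ht : t₀ ∉ U₀) (hgen : ∀ v : V, ∃ i j : ZMod p, v = i • y₀ + j • t₀) (σ : Γ)
    (hσ : ¬ ∀ u ∈ U₀, ρ σ u ∈ U₀) (π : Γ) :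
    ∃ k : ℕ, ∀ u ∈ U₀, ρ π u = ρ (σ ^ k) u := by
  classical
  have hmul : ∀ γ δ v, ρ (γ * δ) v = ρ γ (ρ δ v) := fun γ δ v => by rw [hρm]; rfl
  have hone : ∀ v, ρ 1 v = v := fun v => by rw [hρ1]; rfl
  letI act : MulAction Γ V :=
    { smul := fun γ v => ρ γ v
      one_smul := hone
      mul_smul := hmul }
  have hcong := hΓ.card_modEq_card_fixedPoints V
  have ht0 : t₀ ≠ 0 := fun h => ht (h ▸ U₀.zero_mem)
  have hdvd : p ∣ Nat.card V := by
    have h1 : addOrderOf t₀ = p := by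
      apply addOrderOf_eq_prime
      · have : (p : ZMod p) • t₀ = 0 := by simp
        rwa [Nat.cast_smul_eq_nsmul] at this
      · exact ht0
    rw [← h1]
    exact addOrderOf_dvd_natCard t₀
  have hfp : p ∣ Nat.card (MulAction.fixedPoints Γ V) := by
    have := hcong.dvd_iff (dvd_refl p)
    exact this.mp hdvd
  have hfin : Finite (MulAction.fixedPoints Γ V) := inferInstance
  have hz : (0 : V) ∈ MulAction.fixedPoints Γ V := fun γ => map_zero (ρ γ)
  obtain ⟨c, hcfix, hc0⟩ : ∃ c ∈ MulAction.fixedPoints Γ V, c ≠ 0 := by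
    by_contra hno
    push Not at hno
    have huniq : Nat.card (MulAction.fixedPoints Γ V) = 1 := by
      rw [Nat.card_eq_one_iff_unique]
      refine ⟨⟨fun a b => Subtype.ext ?_⟩, ⟨⟨0, hz⟩⟩⟩
      rw [hno a.1 a.2, hno b.1 b.2]
    rw [huniq] at hfp
    exact (Fact.out : p.Prime).one_lt.ne' (Nat.dvd_one.mp hfp)
  have hfixc : ∀ γ, ρ γ c = c := fun γ => hcfix γ
  -- `U₀ = ⟨y₀⟩`
  have hU : ∀ u ∈ U₀, ∃ i : ZMod p, u = i • y₀ := by
    intro u hu
    obtain ⟨i, j, rfl⟩ := hgen u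
    have hj : j = 0 := by
      by_contra hj
      apply ht
      have h1 : j • t₀ ∈ U₀ := by
        have := U₀.sub_mem hu (U₀.smul_mem i hy)
        simpa using this
      have := U₀.smul_mem j⁻¹ h1
      rwa [smul_smul, inv_mul_cancel₀ hj, one_smul] at this
    exact ⟨i, by rw [hj, zero_smul, add_zero]⟩
  -- `c ∉ U₀`
  have hinv_of_fix : (ρ σ y₀ ∈ U₀) → ∀ u ∈ U₀, ρ σ u ∈ U₀ := by
    intro h u hu
    obtain ⟨i, rfl⟩ := hU u hu
    rw [map_smul]
    exact U₀.smul_mem _ h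
  have hcU : c ∉ U₀ := by
    intro hc
    obtain ⟨i, hi⟩ := hU c hc
    have hi0 : i ≠ 0 := by
      rintro rfl
      exact hc0 (by rw [hi, zero_smul])
    apply hσ
    apply hinv_of_fix
    have : y₀ = i⁻¹ • c := by rw [hi, smul_smul, inv_mul_cancel₀ hi0, one_smul]
    rw [this, map_smul, hfixc]
    exact U₀.smul_mem _ (hi ▸ hc)
  -- every vector is `a y₀ + e c`
  have hgen2 : ∀ v : V, ∃ a e : ZMod p, v = a • y₀ + e • c := by
    obtain ⟨i₁, j₁, hc⟩ := hgen c
    have hj₁ : j₁ ≠ 0 := by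
      rintro rfl
      apply hcU
      rw [hc, zero_smul, add_zero]
      exact U₀.smul_mem _ hy
    intro v
    obtain ⟨i, j, rfl⟩ := hgen v
    have ht' : t₀ = j₁⁻¹ • (c - i₁ • y₀) := by
      rw [hc, add_sub_cancel_left, smul_smul, inv_mul_cancel₀ hj₁, one_smul]
    refine ⟨i - j * j₁⁻¹ * i₁, j * j₁⁻¹, ?_⟩
    rw [ht']
    module
  have hy0 : y₀ ≠ 0 := by
    intro h0
    apply hσ
    intro u hu
    obtain ⟨i, rfl⟩ := hU u hu
    rw [h0, smul_zero, map_zero]
    exact U₀.zero_mem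
  have hunique : ∀ a e a' e' : ZMod p, a • y₀ + e • c = a' • y₀ + e' • c → a = a' ∧ e = e' := by
    intro a e a' e' h
    have he : e = e' := by
      by_contra hne
      have hsub : e - e' ≠ 0 := sub_ne_zero.mpr hne
      apply hcU
      have h1 : (e - e') • c = (a' - a) • y₀ := by
        have h2 : (e - e') • c - (a' - a) • y₀ = (a • y₀ + e • c) - (a' • y₀ + e' • c) := by module
        rw [h, sub_self] at h2
        exact sub_eq_zero.mp h2
      have h3 : (e - e') • c ∈ U₀ := by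
        rw [h1]; exact U₀.smul_mem _ hy
      have := U₀.smul_mem (e - e')⁻¹ h3
      rwa [smul_smul, inv_mul_cancel₀ hsub, one_smul] at this
    subst he
    refine ⟨?_, rfl⟩
    have h1 : a • y₀ = a' • y₀ := add_right_cancel h
    exact smul_left_injective _ hy0 h1
  have hform : ∀ γ : Γ, ∃ e : ZMod p, ρ γ y₀ = y₀ + e • c := by
    intro γ
    obtain ⟨a, e, hae⟩ := hgen2 (ρ γ y₀)
    have hit : ∀ n : ℕ, ∃ e' : ZMod p, ρ (γ ^ n) y₀ = a ^ n • y₀ + e' • c := by
      intro n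
      induction n with
      | zero =>
        refine ⟨0, ?_⟩
        rw [pow_zero, hone, pow_zero, one_smul, zero_smul, add_zero]
      | succ n ih =>
        obtain ⟨e', he'⟩ := ih
        refine ⟨a ^ n * e + e', ?_⟩
        rw [pow_succ', hmul, he', map_add, map_smul, map_smul, hae, hfixc]
        module
    obtain ⟨m, hm⟩ := hΓ γ
    obtain ⟨e', he'⟩ := hit (p ^ m)
    rw [hm, hone] at he'
    have h1 : (1 : ZMod p) • y₀ + (0 : ZMod p) • c = a ^ (p ^ m) • y₀ + e' • c := by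
      rw [one_smul, zero_smul, add_zero]; exact he'
    have h2 := (hunique _ _ _ _ h1).1
    rw [ZMod.pow_card_pow] at h2
    subst h2
    exact ⟨e, by rw [hae, one_smul]⟩
  obtain ⟨eσ, heσ⟩ := hform σ
  obtain ⟨eπ, heπ⟩ := hform π
  have heσ0 : eσ ≠ 0 := by
    rintro rfl
    apply hσ
    apply hinv_of_fix
    rw [heσ, zero_smul, add_zero]
    exact hy
  have hiter : ∀ n : ℕ, ρ (σ ^ n) y₀ = y₀ + ((n : ZMod p) * eσ) • c := by
    intro n
    induction n with
    | zero => rw [pow_zero, hone]; simp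
    | succ n ih =>
      rw [pow_succ', hmul, ih, map_add, map_smul, hfixc, heσ]
      push_cast
      module
  refine ⟨(eπ / eσ).val, ?_⟩
  intro u hu
  obtain ⟨i, rfl⟩ := hU u hu
  rw [map_smul, map_smul, heπ, hiter, ZMod.natCast_zmod_val, div_mul_cancel₀ _ heσ0]

end Cfsg.Agent.Lib.S5180.RH1Lin
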