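import Mathlib

set_option autoImplicit false

namespace Cfsg.Agent.Lib.S5180.RH2Aux

variable {p : ℕ} [hpF : Fact p.Prime] {V : Type*} [AddCommGroup V] [Module (ZMod p) V]

/-- the eigenbasis case -/
theorem core₀ (y s w : V)
    (hgen : ∀ v : V, ∃ i j k : ZMod p, v = i • y + j • s + k • w)
    (hind : ∀ i j k : ZMod p, i • y + j • s + k • w = 0 → i = 0 ∧ j = 0 ∧ k = 0)
    (H S : Module.End (ZMod p) V) (lam lam' : ZMod p)
    (hlam : lam * lam' = 1) (h3 : lam ^ 3 ≠ 1) (h5 : lam ^ 5 ≠ 1)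
    (Hy : H y = lam' • y) (Hw : H w = w) (Hs : H s = lam ^ 2 • s)
    (Sw : S w = w) (hcube : (S - 1) ^ 3 = 0)
    (ν : ℕ) (hHS : H * S = S ^ ν * H)
    {i₀ a c : ZMod p} (ha : a ≠ 0) (hSy : S y = i₀ • y + a • s + c • w) :
    S y = y + a • s + c • w ∧ S s = s ∧ (ν : ZMod p) = lam ^ 3 := by
  obtain ⟨b, hb⟩ : ∃ b, b = i₀ - 1 := ⟨_, rfl⟩
  have hi₀ : i₀ = 1 + b := by rw [hb]; ring
  subst hi₀
  obtain ⟨e, d', f, hSs⟩ := hgen (S s)
  obtain ⟨d, hd⟩ : ∃ d, d = d' - 1 := ⟨_, rfl⟩
  have hd' : d' = 1 + d := by rw [hd]; ring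
  subst hd'
  have hlam' : lam' ≠ 0 := by
    rintro rfl
    simp at hlam
  -- the action of `N = S - 1`
  set N : Module.End (ZMod p) V := S - 1 with hN
  have hNv : ∀ v, N v = S v - v := fun v => rfl
  have hNy : N y = b • y + a • s + c • w := by
    rw [hNv, hSy]
    module
  have hNs : N s = e • y + d • s + f • w := by
    rw [hNv, hSs]
    module
  have hNw : N w = 0 := by
    rw [hNv, Sw, sub_self]
  have hN2y : N (N y) = (b ^ 2 + a * e) • y + (a * b + a * d) • s + (b * c + a * f) • w := by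
    rw [hNy, map_add, map_add, map_smul, map_smul, map_smul, hNy, hNs, hNw]
    module
  have hN3y : N (N (N y)) = ((b ^ 2 + a * e) * b + (a * b + a * d) * e) • y +
      ((b ^ 2 + a * e) * a + (a * b + a * d) * d) • s +
      ((b ^ 2 + a * e) * c + (a * b + a * d) * f) • w := by
    rw [hN2y, map_add, map_add, map_smul, map_smul, map_smul, hNy, hNs, hNw]
    module
  have hzero : N (N (N y)) = 0 := by
    have : (N ^ 3) y = 0 := by
      rw [hcube]
      rfl
    rw [pow_succ', pow_succ', pow_one] at this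
    exact this
  rw [hN3y] at hzero
  obtain ⟨hP, hQ, -⟩ := hind _ _ _ hzero
  have hX : b ^ 2 + a * e + b * d + d ^ 2 = 0 := by
    have : a * (b ^ 2 + a * e + b * d + d ^ 2) = 0 := by
      linear_combination hQ
    exact (mul_eq_zero.mp this).resolve_left ha
  have htr3 : (b + d) ^ 3 = 0 := by
    linear_combination (2 * b + d) * hX - hP
  have htr : b + d = 0 := by
    exact pow_eq_zero_iff (by norm_num) |>.mp htr3
  have hdb : d = -b := by linear_combination htr
  have hae : b ^ 2 + a * e = 0 := by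
    have := hX
    rw [hdb] at this
    linear_combination this
  -- powers of `S` on `y`
  have hpow : ∀ n : ℕ, ∃ k : ZMod p, (S ^ n) y = (1 + (n : ZMod p) * b) • y + ((n : ZMod p) * a) • s + k • w := by
    intro n
    induction n with
    | zero =>
      refine ⟨0, ?_⟩
      simp
    | succ n ih =>
      obtain ⟨k, hk⟩ := ih
      refine ⟨(1 + (n : ZMod p) * b) * c + (n : ZMod p) * a * f + k, ?_⟩
      rw [pow_succ', Module.End.mul_apply, hk, map_add, map_add, map_smul, map_smul, map_smul,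
        hSy, hSs, Sw]
      have e1 : (1 + (n : ZMod p) * b) * (1 + b) + (n : ZMod p) * a * e = 1 + ((n + 1 : ℕ) : ZMod p) * b := by
        push_cast
        linear_combination (n : ZMod p) * hae
      have e2 : (1 + (n : ZMod p) * b) * a + (n : ZMod p) * a * (1 + d) = ((n + 1 : ℕ) : ZMod p) * a := by
        push_cast
        linear_combination (n : ZMod p) * a * htr
      rw [← e1, ← e2]
      module
  -- the relation on `y`
  obtain ⟨k, hk⟩ := hpow ν
  have hrel : H (S y) = (S ^ ν) (H y) := by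
    have := congrArg (fun f => f y) hHS
    exact this
  rw [hSy, map_add, map_add, map_smul, map_smul, map_smul, Hy, Hs, Hw, map_smul, hk] at hrel
  have hrel2 : (((1 + b) * lam' - lam' * (1 + (ν : ZMod p) * b))) • y +
      (a * lam ^ 2 - lam' * ((ν : ZMod p) * a)) • s + (c - lam' * k) • w = 0 := by
    have : (1 + b) • lam' • y + a • lam ^ 2 • s + c • w -
        lam' • ((1 + (ν : ZMod p) * b) • y + ((ν : ZMod p) * a) • s + k • w) = 0 := by
      rw [hrel, sub_self]
    rw [← this]
    module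
  obtain ⟨hc1, hc2, -⟩ := hind _ _ _ hrel2
  have hν : (ν : ZMod p) = lam ^ 3 := by
    have e1 : a * (lam ^ 2 - lam' * (ν : ZMod p)) = 0 := by linear_combination hc2
    have e2 : lam ^ 2 - lam' * (ν : ZMod p) = 0 := (mul_eq_zero.mp e1).resolve_left ha
    linear_combination (-lam) * e2 + (-(ν : ZMod p)) * hlam
  have hb0 : b = 0 := by
    have e1 : lam' * (b * (1 - (ν : ZMod p))) = 0 := by linear_combination hc1
    have e2 : b * (1 - (ν : ZMod p)) = 0 := (mul_eq_zero.mp e1).resolve_left hlam'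
    have e3 : (1 - (ν : ZMod p)) ≠ 0 := by
      rw [hν]
      intro h
      exact h3 (by linear_combination -h)
    exact (mul_eq_zero.mp e2).resolve_right e3
  subst hb0
  have hd0 : d = 0 := by rw [hdb]; simp
  subst hd0
  have he0 : e = 0 := by
    have e1 : a * e = 0 := by linear_combination hae
    exact (mul_eq_zero.mp e1).resolve_left ha
  subst he0
  have hSs' : S s = s + f • w := by
    rw [hSs]
    module
  have hpows : ∀ n : ℕ, (S ^ n) s = s + ((n : ZMod p) * f) • w := by
    intro n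
    induction n with
    | zero => simp
    | succ n ih =>
      rw [pow_succ', Module.End.mul_apply, ih, map_add, map_smul, hSs', Sw]
      push_cast
      module
  have hrels : H (S s) = (S ^ ν) (H s) := by
    have := congrArg (fun f => f s) hHS
    exact this
  rw [hSs', map_add, map_smul, Hs, Hw, map_smul, hpows] at hrels
  have hrels2 : (0 : ZMod p) • y + (0 : ZMod p) • s + (f - lam ^ 2 * ((ν : ZMod p) * f)) • w = 0 := by
    have : lam ^ 2 • s + f • w - lam ^ 2 • (s + ((ν : ZMod p) * f) • w) = 0 := by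
      rw [hrels, sub_self]
    rw [← this]
    module
  obtain ⟨-, -, hc3⟩ := hind _ _ _ hrels2
  have hf0 : f = 0 := by
    rw [hν] at hc3
    have e1 : f * (1 - lam ^ 5) = 0 := by linear_combination hc3
    have e3 : (1 - lam ^ 5) ≠ 0 := by
      intro h
      exact h5 (by linear_combination -h)
    exact (mul_eq_zero.mp e1).resolve_right e3
  subst hf0
  refine ⟨?_, ?_, hν⟩
  · rw [hSy]
    module
  · rw [hSs']
    module

/-- the general case: `H t = lam² t + al y + be w`. -/
theorem core₁ (y t w : V)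
    (hgen : ∀ v : V, ∃ i j k : ZMod p, v = i • y + j • t + k • w)
    (hind : ∀ i j k : ZMod p, i • y + j • t + k • w = 0 → i = 0 ∧ j = 0 ∧ k = 0)
    (H S : Module.End (ZMod p) V) (lam lam' al be : ZMod p)
    (hlam : lam * lam' = 1) (h2 : lam ^ 2 ≠ 1) (h3 : lam ^ 3 ≠ 1) (h5 : lam ^ 5 ≠ 1)
    (Hy : H y = lam' • y) (Hw : H w = w) (Ht : H t = lam ^ 2 • t + al • y + be • w)
    (Sw : S w = w) (hcube : (S - 1) ^ 3 = 0)
    (ν : ℕ) (hHS : H * S = S ^ ν * H)
    {i₀ j₀ k₀ : ZMod p} (hj₀ : j₀ ≠ 0) (hSy : S y = i₀ • y + j₀ • t + k₀ • w) :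
    ∃ ti tj c : ZMod p, S y = y + j₀ • (t + ti • y + tj • w) + c • w ∧
      S (j₀ • (t + ti • y + tj • w)) = j₀ • (t + ti • y + tj • w) ∧ (ν : ZMod p) = lam ^ 3 := by
  have hd1 : lam ^ 2 - lam' ≠ 0 := by
    intro h
    apply h3
    linear_combination lam * h + hlam
  have hd2 : lam ^ 2 - 1 ≠ 0 := by
    intro h
    exact h2 (by linear_combination h)
  set ti := al * (lam ^ 2 - lam')⁻¹ with hti
  set tj := be * (lam ^ 2 - 1)⁻¹ with htj
  have e1 : ti * (lam ^ 2 - lam') = al := by
    rw [hti, mul_assoc, inv_mul_cancel₀ hd1, mul_one]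
  have e2 : tj * (lam ^ 2 - 1) = be := by
    rw [htj, mul_assoc, inv_mul_cancel₀ hd2, mul_one]
  set s := t + ti • y + tj • w with hs
  have ht : t = s - ti • y - tj • w := by
    rw [hs]
    module
  have Hs : H s = lam ^ 2 • s := by
    rw [hs, map_add, map_add, map_smul, map_smul, Ht, Hy, Hw, ← e1, ← e2]
    module
  have hgen' : ∀ v : V, ∃ i j k : ZMod p, v = i • y + j • s + k • w := by
    intro v
    obtain ⟨i, j, k, hv⟩ := hgen v
    refine ⟨i - j * ti, j, k - j * tj, ?_⟩
    rw [hv, hs]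
    module
  have hind' : ∀ i j k : ZMod p, i • y + j • s + k • w = 0 → i = 0 ∧ j = 0 ∧ k = 0 := by
    intro i j k h
    have h1 : (i + j * ti) • y + j • t + (k + j * tj) • w = 0 := by
      rw [← h, hs]
      module
    obtain ⟨a1, a2, a3⟩ := hind _ _ _ h1
    subst a2
    simp only [zero_mul, add_zero] at a1 a3
    exact ⟨a1, rfl, a3⟩
  have hSy' : S y = (i₀ - j₀ * ti) • y + j₀ • s + (k₀ - j₀ * tj) • w := by
    rw [hSy, hs]
    module
  obtain ⟨r1, r2, r3⟩ := core₀ y s w hgen' hind' H S lam lam' hlam h3 h5 Hy Hw Hs Sw hcube ν hHS hj₀ hSy'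
  refine ⟨ti, tj, k₀ - j₀ * tj, r1, ?_, r3⟩
  rw [map_smul, r2]

end Cfsg.Agent.Lib.S5180.RH2Aux
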