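import Mathlib
import Cfsg.Agent.Lib.S5180.TvBasic

/-! S5180 piece RH2b: change of basis in `T/Φ(E)`: `y`, `s = (t y^i w^j)^a`, `⁅y,s⁆`, `w`. -/

set_option autoImplicit false

open scoped commutatorElement

namespace Cfsg.Agent.Lib.S5180

universe u

open TvAux

variable {T : Type u} [Group T] [Finite T] {p : ℕ} [hpF : Fact p.Prime]
variable {E : Subgroup T} {l y w t : T} {ah as' : MulAut E} {lam lam' : ℕ} {hat : MulAut T}

theorem Tv.new_basis (h : Tv p E l y w t ah as' lam lam' hat) (hp : 5 ≤ p) (hT : IsPGroup p T)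
    (i j a : ℕ) (ha : ¬ p ∣ a) :
    (∀ z, ⁅⁅y, (t * y ^ i * w ^ j) ^ a⁆, z⁆ ∈ Frat E) ∧
    (⁅y, (t * y ^ i * w ^ j) ^ a⁆ * (l ^ a)⁻¹ ∈ Frat E) ∧
    (∀ z, ∃ a' b c d : ℕ, z * (y ^ a' * ((t * y ^ i * w ^ j) ^ a) ^ b *
      ⁅y, (t * y ^ i * w ^ j) ^ a⁆ ^ c * w ^ d)⁻¹ ∈ Frat E) ∧
    (∀ a' b c d : ℕ, y ^ a' * ((t * y ^ i * w ^ j) ^ a) ^ b *
      ⁅y, (t * y ^ i * w ^ j) ^ a⁆ ^ c * w ^ d ∈ Frat E →
        p ∣ a' ∧ p ∣ b ∧ p ∣ c ∧ p ∣ d) := by
  have hE := E_normal hT h.idx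
  haveI := hE
  haveI hΦ := frat_normal hE
  have S := sys_of h hp hT
  generalize hx' : t * y ^ i * w ^ j = x'
  generalize hs : x' ^ a = s
  have hpp : p.Prime := hpF.out
  -- `x'` and `s` are outside `E`
  have hx'E : x' ∉ E := by
    intro hmem
    rw [← hx'] at hmem
    have h1 := (Subgroup.mul_mem_cancel_right E (E.pow_mem h.hw j)).1 hmem
    have h2 := (Subgroup.mul_mem_cancel_right E (E.pow_mem h.hy i)).1 h1
    exact h.ht h2
  have hsE : s ∉ E := by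
    intro hmem
    rw [← hs] at hmem
    exact ha (dvd_of_pow_mem hE h.idx hx'E hmem)
  -- the relation for `x'`
  have hYX' : (y : T ⧸ Frat E) * (x' : T ⧸ Frat E) =
      (l : T ⧸ Frat E) * (x' : T ⧸ Frat E) * (y : T ⧸ Frat E) := by
    rw [← hx']
    simp only [QuotientGroup.mk_mul, QuotientGroup.mk_pow]
    have hW : ∀ g : T ⧸ Frat E, (w : T ⧸ Frat E) ^ j * g = g * (w : T ⧸ Frat E) ^ j :=
      fun g => ((S.hWc g).pow_left j).eq
    have hYi : (y : T ⧸ Frat E) * (y : T ⧸ Frat E) ^ i = (y : T ⧸ Frat E) ^ i * (y : T ⧸ Frat E) :=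
      (pow_succ' _ i).symm.trans (pow_succ _ i)
    calc (y : T ⧸ Frat E) * ((t : T ⧸ Frat E) * (y : T ⧸ Frat E) ^ i * (w : T ⧸ Frat E) ^ j)
        = ((y : T ⧸ Frat E) * (t : T ⧸ Frat E)) * (y : T ⧸ Frat E) ^ i * (w : T ⧸ Frat E) ^ j := by
          simp only [mul_assoc]
      _ = (l : T ⧸ Frat E) * (t : T ⧸ Frat E) * ((y : T ⧸ Frat E) * (y : T ⧸ Frat E) ^ i) *
            (w : T ⧸ Frat E) ^ j := by
          rw [S.hYX]; simp only [mul_assoc]
      _ = (l : T ⧸ Frat E) * (t : T ⧸ Frat E) * (y : T ⧸ Frat E) ^ i *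
            ((y : T ⧸ Frat E) * (w : T ⧸ Frat E) ^ j) := by
          rw [hYi]; simp only [mul_assoc]
      _ = (l : T ⧸ Frat E) * ((t : T ⧸ Frat E) * (y : T ⧸ Frat E) ^ i * (w : T ⧸ Frat E) ^ j) *
            (y : T ⧸ Frat E) := by
          rw [← hW]; simp only [mul_assoc]
  have S' : Sys p (x' : T ⧸ Frat E) (y : T ⧸ Frat E) (l : T ⧸ Frat E) (w : T ⧸ Frat E) :=
    { S with hYX := hYX' }
  have hYs : (y : T ⧸ Frat E) * (s : T ⧸ Frat E) =
      (l : T ⧸ Frat E) ^ a * (s : T ⧸ Frat E) * (y : T ⧸ Frat E) := by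
    rw [← hs, QuotientGroup.mk_pow]
    exact S'.Y_X_pow a
  have hLa : ((l : T ⧸ Frat E) ^ a) ^ p = 1 := by
    rw [← pow_mul, mul_comm, pow_mul, S.hLp, one_pow]
  have S'' : Sys p (s : T ⧸ Frat E) (y : T ⧸ Frat E) ((l : T ⧸ Frat E) ^ a) (w : T ⧸ Frat E) :=
    { hp := S.hp
      hp3 := S.hp3
      hLc := fun g => (S.hLc g).pow_left a
      hWc := S.hWc
      hYX := hYs
      hLp := hLa
      hYp := S.hYp
      hWp := S.hWp
      hind := by
        intro a' b c he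
        rw [← pow_mul] at he
        obtain ⟨h1, h2, h3⟩ := S.hind _ _ _ he
        exact ⟨(hpp.dvd_mul.1 h1).resolve_left ha, h2, h3⟩ }
  -- the commutator
  have hcomm : ((⁅y, s⁆ : T) : T ⧸ Frat E) = (l : T ⧸ Frat E) ^ a := by
    have e : ((⁅y, s⁆ : T) : T ⧸ Frat E) =
        (y : T ⧸ Frat E) * (s : T ⧸ Frat E) * (y : T ⧸ Frat E)⁻¹ * (s : T ⧸ Frat E)⁻¹ := rfl
    rw [e, hYs]
    group
  refine ⟨?_, ?_, ?_, ?_⟩
  · -- central
    intro z
    apply (QuotientGroup.eq_one_iff _).1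
    have e : ((⁅⁅y, s⁆, z⁆ : T) : T ⧸ Frat E) =
        ⁅((⁅y, s⁆ : T) : T ⧸ Frat E), (z : T ⧸ Frat E)⁆ := rfl
    rw [e, hcomm, commutatorElement_eq_one_iff_mul_comm]
    exact ((S.hLc _).pow_left a).eq
  · -- the value
    apply (QuotientGroup.eq_one_iff _).1
    rw [QuotientGroup.mk_mul, QuotientGroup.mk_inv, hcomm, QuotientGroup.mk_pow]
    exact mul_inv_cancel _
  · -- generation
    intro z
    obtain ⟨b, e, he, rfl⟩ := exists_decomp hE h.idx hsE z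
    obtain ⟨a₁, b₁, c₁, hb⟩ := exists_basis h hp hT he
    -- inverse of `a` modulo `p`
    have hcop : Nat.Coprime a p := ((Nat.Prime.coprime_iff_not_dvd hpp).2 ha).symm
    obtain ⟨m, -, hm⟩ := Nat.exists_mul_mod_eq_one_of_coprime hcop hpp.one_lt
    have hLinv : ((l : T ⧸ Frat E) ^ a) ^ m = (l : T ⧸ Frat E) := by
      rw [← pow_mul]
      have h1 := Nat.div_add_mod (a * m) p
      rw [hm] at h1
      rw [← h1, pow_succ, pow_mul, S.hLp, one_pow, one_mul]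
    have hb' : (e : T ⧸ Frat E) = ((l : T ⧸ Frat E) ^ a) ^ (m * a₁) * (y : T ⧸ Frat E) ^ b₁ *
        (w : T ⧸ Frat E) ^ c₁ := by
      rw [hb, pow_mul, hLinv]
    refine ⟨b₁, b, m * a₁ + b₁ * b * (p - 1), c₁, ?_⟩
    apply (QuotientGroup.eq_one_iff _).1
    rw [QuotientGroup.mk_mul, QuotientGroup.mk_inv, mul_inv_eq_one]
    simp only [QuotientGroup.mk_mul, QuotientGroup.mk_pow]
    rw [hcomm, hb', S''.reorder]
  · -- independence
    intro a' b c d hz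
    have hcE : ⁅y, s⁆ ∈ E := by
      have h1 : ⁅y, s⁆ = y * (s * y⁻¹ * s⁻¹) := by
        simp only [commutatorElement_def, mul_assoc]
      rw [h1]
      exact E.mul_mem h.hy (hE.conj_mem _ (E.inv_mem h.hy) s)
    have h1 : y ^ a' * s ^ b * ⁅y, s⁆ ^ c * w ^ d ∈ E := frat_le' E hz
    have h2 : y ^ a' * s ^ b * ⁅y, s⁆ ^ c ∈ E :=
      (Subgroup.mul_mem_cancel_right E (E.pow_mem h.hw d)).1 h1
    have h3 : y ^ a' * s ^ b ∈ E := (Subgroup.mul_mem_cancel_right E (E.pow_mem hcE c)).1 h2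
    have h4 : s ^ b ∈ E := (Subgroup.mul_mem_cancel_left E (E.pow_mem h.hy a')).1 h3
    have hb := dvd_of_pow_mem hE h.idx hsE h4
    have hXb : (s : T ⧸ Frat E) ^ b = 1 := by
      obtain ⟨m, rfl⟩ := hb
      rw [pow_mul, ← QuotientGroup.mk_pow]
      rw [(QuotientGroup.eq_one_iff _).2 (h.pow_mem hp hT s), one_pow]
    have h5 : (y : T ⧸ Frat E) ^ a' * (s : T ⧸ Frat E) ^ b * ((⁅y, s⁆ : T) : T ⧸ Frat E) ^ c *
        (w : T ⧸ Frat E) ^ d = 1 := by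
      have := (QuotientGroup.eq_one_iff _).2 hz
      simpa only [QuotientGroup.mk_mul, QuotientGroup.mk_pow] using this
    rw [hXb, mul_one, hcomm, ← ((S''.hLc _).pow_left c : Commute _ _).eq] at h5
    obtain ⟨hc, ha', hd⟩ := S''.hind c a' d h5
    exact ⟨ha', hb, hc, hd⟩

end Cfsg.Agent.Lib.S5180
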