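import Mathlib
import Cfsg.Prelude.Def_FusionSystem
import Cfsg.Agent.Lib.S5180.Defs
import Cfsg.Agent.Lib.S5180.Basic
import Cfsg.Agent.Lib.S5180.TvBasic
import Cfsg.Agent.Lib.S5180.ChainAux
import Cfsg.Agent.Lib.S5180.RH2Core
import Cfsg.Agent.Lib.S5180.RH2b

set_option autoImplicit false
open scoped commutatorElement
open Cfsg

namespace Cfsg.Agent.Lib.S5180
universe u

section Pure
variable {T : Type u} [Group T] [Finite T] {p : ℕ} [hpF : Fact p.Prime]

section Tv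
variable {E : Subgroup T} {l y w t : T} {ah as' : MulAut E} {lam lam' : ℕ} {hat : MulAut T}

theorem Tv.rho_case_i (h : Tv p E l y w t ah as' lam lam' hat) (hp : 5 ≤ p) (hT : IsPGroup p T)
    (σ : MulAut T) (τ₀ τ' : T) (ν : ℕ) (hσ : E.map σ.toMonoidHom ≠ E)
    (hσp : σ ^ p = MulAut.conj τ₀) (hσw : σ w * w⁻¹ ∈ frattini T)
    (hhat : hat * σ * hat⁻¹ = σ ^ ν * MulAut.conj τ') :
    ∃ (u s : T),
      (Frat E).map hat.toMonoidHom = Frat E ∧
      (∀ z : T, ⁅⁅u, s⁆, z⁆ ∈ Frat E) ∧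
      σ u * (u * s)⁻¹ ∈ Frat E ⊔ (Subgroup.zpowers ⁅u, s⁆ ⊔ Subgroup.zpowers w) ∧
      σ s * s⁻¹ ∈ Frat E ⊔ Subgroup.zpowers ⁅u, s⁆ ∧ σ w * w⁻¹ ∈ Frat E ⊔ Subgroup.zpowers ⁅u, s⁆ ∧
      (∀ z : T, ∃ a b c d : ℕ, z * (u ^ a * s ^ b * ⁅u, s⁆ ^ c * w ^ d)⁻¹ ∈ Frat E) ∧
      (∀ a b c d : ℕ, u ^ a * s ^ b * ⁅u, s⁆ ^ c * w ^ d ∈ Frat E → p ∣ a ∧ p ∣ b ∧ p ∣ c ∧ p ∣ d) ∧
      hat ⁅u, s⁆ * (⁅u, s⁆ ^ lam)⁻¹ ∈ Frat E ∧ hat w * w⁻¹ ∈ Frat E ∧
      ¬ ν ≡ lam [MOD p] ∧ ¬ ν ≡ 1 [MOD p] := by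
  classical
  have hpp : p.Prime := hpF.out
  haveI : NeZero p := ⟨hpp.ne_zero⟩
  haveI hEn : E.Normal := TvAux.E_normal hT h.idx
  haveI hFn : (Frat E).Normal := TvAux.frat_normal hEn
  have hFe := h.frattini_eq hp hT
  have hFratΦ : Frat E ≤ frattini T := by rw [hFe]; exact le_sup_right
  have hlΦ : l ∈ frattini T := by
    rw [hFe]; exact Subgroup.mem_sup_left (Subgroup.mem_zpowers l)
  have hFratE : Frat E ≤ E := TvAux.frat_le' E
  have hΦE : frattini T ≤ E := by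
    rw [hFe]
    exact sup_le ((Subgroup.zpowers_le).mpr h.hl) hFratE
  have hcm : ∀ a b : T ⧸ frattini T, a * b = b * a := by
    intro a b
    obtain ⟨a, rfl⟩ := QuotientGroup.mk_surjective a
    obtain ⟨b, rfl⟩ := QuotientGroup.mk_surjective b
    have h1 : ⁅a, b⁆ ∈ frattini T :=
      Cfsg.Agent.Lib.PGroup.Basic.commutatorElement_mem_frattini hT a b
    have h2 : ((⁅a, b⁆ : T) : T ⧸ frattini T) = 1 := (QuotientGroup.eq_one_iff _).mpr h1
    rw [commutatorElement_def, QuotientGroup.mk_mul, QuotientGroup.mk_mul, QuotientGroup.mk_mul,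
      QuotientGroup.mk_inv, QuotientGroup.mk_inv] at h2
    exact mul_inv_eq_one.mp (by
      rw [← h2]; group)
  have hex : ∀ a : T ⧸ frattini T, a ^ p = 1 := by
    intro a
    obtain ⟨a, rfl⟩ := QuotientGroup.mk_surjective a
    rw [← QuotientGroup.mk_pow]
    exact (QuotientGroup.eq_one_iff _).mpr (Cfsg.Agent.Lib.PGroup.Basic.pow_mem_frattini hT a)
  have hle : ∀ α : MulAut T, frattini T ≤ (frattini T).comap α.toMonoidHom :=
    Subgroup.characteristic_iff_le_comap.mp inferInstance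
  letI cg : CommGroup (T ⧸ frattini T) := { (inferInstance : Group (T ⧸ frattini T)) with mul_comm := hcm }
  let V := Additive (T ⧸ frattini T)
  have hexpV : ∀ a : V, p • a = 0 := fun a => by
    show Additive.ofMul ((Additive.toMul a) ^ p) = 0
    rw [hex]; rfl
  letI hmod : Module (ZMod p) V := AddCommGroup.zmodModule (n := p) hexpV
  let m : T → V := fun z => Additive.ofMul (QuotientGroup.mk z)
  have hmmul : ∀ a b, m (a * b) = m a + m b := fun _ _ => rfl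
  have hminv : ∀ a, m a⁻¹ = - m a := fun _ => rfl
  have hmpow : ∀ (a : T) (n : ℕ), m (a ^ n) = (n : ZMod p) • m a := by
    intro a n
    rw [Nat.cast_smul_eq_nsmul]
    rfl
  have hm0 : ∀ a, m a = 0 ↔ a ∈ frattini T := fun a => QuotientGroup.eq_one_iff a
  have hmsurj : ∀ v : V, ∃ z, m z = v := fun v => QuotientGroup.mk_surjective (Additive.toMul v)
  have hmeq : ∀ a b, a * b⁻¹ ∈ frattini T → m a = m b := by
    intro a b hab
    have := (hm0 _).mpr hab
    rw [hmmul, hminv] at this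
    exact sub_eq_zero.mp (by rw [sub_eq_add_neg]; exact this)
  have hml : m l = 0 := (hm0 l).mpr hlΦ
  have hconj : ∀ τ x : T, m (τ * x * τ⁻¹) = m x := by
    intro τ x
    rw [hmmul, hmmul, hminv]
    abel
  let bar : MulAut T → (V →ₗ[ZMod p] V) := fun α =>
    (MonoidHom.toAdditive (QuotientGroup.map _ _ α.toMonoidHom (hle α))).toZModLinearMap p
  have hbar : ∀ (α : MulAut T) (z : T), bar α (m z) = m (α z) := fun _ _ => rfl
  have hext : ∀ f g : V →ₗ[ZMod p] V, (∀ z, f (m z) = g (m z)) → f = g := by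
    intro f g hfg
    ext v
    obtain ⟨z, rfl⟩ := hmsurj v
    exact hfg z
  let H : Module.End (ZMod p) V := bar hat
  let S : Module.End (ZMod p) V := bar σ
  have hSpow : ∀ (n : ℕ) (z : T), (S ^ n) (m z) = m ((σ ^ n) z) := by
    intro n
    induction n with
    | zero => intro z; rfl
    | succ n ih =>
      intro z
      rw [pow_succ', Module.End.mul_apply, ih, pow_succ']
      rfl
  -- coordinates
  have hgen : ∀ v : V, ∃ i j k : ZMod p, v = i • m y + j • m t + k • m w := by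
    intro v
    obtain ⟨z, rfl⟩ := hmsurj v
    obtain ⟨a, b, c, d, hz⟩ := h.gen hp hT z
    refine ⟨a, b, d, ?_⟩
    rw [hmeq _ _ (hFratΦ hz), hmmul, hmmul, hmmul, hmpow, hmpow, hmpow, hmpow, hml, smul_zero,
      add_zero]
  have hind : ∀ i j k : ZMod p, i • m y + j • m t + k • m w = 0 → i = 0 ∧ j = 0 ∧ k = 0 := by
    intro i j k hijk
    obtain ⟨a, rfl⟩ : ∃ a : ℕ, (a : ZMod p) = i := ⟨i.val, ZMod.natCast_zmod_val i⟩
    obtain ⟨b, rfl⟩ : ∃ a : ℕ, (a : ZMod p) = j := ⟨j.val, ZMod.natCast_zmod_val j⟩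
    obtain ⟨d, rfl⟩ : ∃ a : ℕ, (a : ZMod p) = k := ⟨k.val, ZMod.natCast_zmod_val k⟩
    have h1 : y ^ a * t ^ b * w ^ d ∈ frattini T := by
      rw [← hm0, hmmul, hmmul, hmpow, hmpow, hmpow]
      exact hijk
    rw [hFe, Subgroup.mem_sup_of_normal_right] at h1
    obtain ⟨x, hx, f, hf, hxf⟩ := h1
    obtain ⟨n, rfl⟩ : ∃ n : ℕ, l ^ n = x := by
      have := (mem_powers_iff_mem_zpowers (x := l) (y := x)).mpr hx
      exact this
    have hlc : ∀ g : T ⧸ Frat E, (l : T ⧸ Frat E) * g = g * (l : T ⧸ Frat E) := by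
      intro g
      obtain ⟨z, rfl⟩ := QuotientGroup.mk_surjective g
      have h3 := (QuotientGroup.eq_one_iff _).mpr (h.central hp hT z).1
      rw [commutatorElement_def, QuotientGroup.mk_mul, QuotientGroup.mk_mul, QuotientGroup.mk_mul,
        QuotientGroup.mk_inv, QuotientGroup.mk_inv] at h3
      exact mul_inv_eq_one.mp (by rw [← h3]; group)
    have hlp : (l : T ⧸ Frat E) ^ p = 1 := by
      rw [← QuotientGroup.mk_pow]
      exact (QuotientGroup.eq_one_iff _).mpr (h.pow_mem hp hT l)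
    have hmem : y ^ a * t ^ b * l ^ (n * (p - 1)) * w ^ d ∈ Frat E := by
      rw [← QuotientGroup.eq_one_iff]
      simp only [QuotientGroup.mk_mul, QuotientGroup.mk_pow]
      have h2 : ((y ^ a * t ^ b * w ^ d : T) : T ⧸ Frat E) = (l : T ⧸ Frat E) ^ n := by
        rw [← hxf, QuotientGroup.mk_mul, (QuotientGroup.eq_one_iff f).mpr hf, mul_one,
          QuotientGroup.mk_pow]
      simp only [QuotientGroup.mk_mul, QuotientGroup.mk_pow] at h2
      have hc : Commute ((l : T ⧸ Frat E) ^ (n * (p - 1))) ((w : T ⧸ Frat E) ^ d) :=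
        Commute.pow_left (hlc _) _
      rw [mul_assoc (_ * _), hc.eq, ← mul_assoc (_ * _), h2, ← pow_add]
      have : n + n * (p - 1) = n * p := by
        obtain ⟨r, hr⟩ : ∃ r, p = r + 1 := ⟨p - 1, by have := hpp.pos; omega⟩
        rw [hr]
        simp only [Nat.add_sub_cancel]
        ring
      rw [this, mul_comm, pow_mul, hlp, one_pow]
    obtain ⟨h1', h2', -, h4'⟩ := h.ind hp hT _ _ _ _ hmem
    exact ⟨(ZMod.natCast_eq_zero_iff _ _).mpr h1', (ZMod.natCast_eq_zero_iff _ _).mpr h2',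
      (ZMod.natCast_eq_zero_iff _ _).mpr h4'⟩
  -- the scalars
  let lamZ : ZMod p := (lam : ZMod p)
  let lamZ' : ZMod p := (lam' : ZMod p)
  have hlamZ : lamZ * lamZ' = 1 := by
    have := (ZMod.natCast_eq_natCast_iff _ _ _).mpr h.lamlam
    push_cast at this
    exact this
  have h2Z : lamZ ^ 2 ≠ 1 := fun e =>
    h.lam2 ((ZMod.natCast_eq_natCast_iff _ _ _).mp (by push_cast; exact e))
  have h3Z : lamZ ^ 3 ≠ 1 := fun e =>
    h.lam3 ((ZMod.natCast_eq_natCast_iff _ _ _).mp (by push_cast; exact e))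
  have h5Z : lamZ ^ 5 ≠ 1 := fun e =>
    h.lam5 ((ZMod.natCast_eq_natCast_iff _ _ _).mp (by push_cast; exact e))
  have hhaty : hat y * (y ^ lam')⁻¹ ∈ Frat E := by
    have e := h.hat_E ⟨y, h.hy⟩
    have e' : hat y = ((ah ⟨y, h.hy⟩ : E) : T) := e
    rw [e']
    exact h.ah_y
  have hhatw : hat w * w⁻¹ ∈ Frat E := by
    have e := h.hat_E ⟨w, h.hw⟩
    have e' : hat w = ((ah ⟨w, h.hw⟩ : E) : T) := e
    rw [e']
    exact h.ah_w
  have hhatl : hat l * (l ^ lam)⁻¹ ∈ Frat E := by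
    have e := h.hat_E ⟨l, h.hl⟩
    have e' : hat l = ((ah ⟨l, h.hl⟩ : E) : T) := e
    rw [e']
    exact h.ah_l
  have Hy : H (m y) = lamZ' • m y := by
    rw [← hmpow]
    exact hmeq _ _ (hFratΦ hhaty)
  have Hw : H (m w) = m w := hmeq _ _ (hFratΦ hhatw)
  have hEcoord : ∀ e ∈ E, ∃ i k : ZMod p, m e = i • m y + k • m w := by
    intro e he
    obtain ⟨a, b, c, hb⟩ := TvAux.exists_basis h hp hT he
    refine ⟨b, c, ?_⟩
    have h1 : e⁻¹ * (l ^ a * y ^ b * w ^ c) ∈ Frat E := by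
      apply QuotientGroup.eq.mp
      simp only [QuotientGroup.mk_mul, QuotientGroup.mk_pow]
      exact hb
    have h2 := (hm0 _).mpr (hFratΦ h1)
    rw [hmmul, hminv, hmmul, hmmul, hmpow, hmpow, hmpow, hml, smul_zero, zero_add] at h2
    have h3 : m e = (b : ZMod p) • m y + (c : ZMod p) • m w := by
      rw [neg_add_eq_zero] at h2
      exact h2
    exact h3
  have hmemE : ∀ z, ∀ i k : ZMod p, m z = i • m y + k • m w → z ∈ E := by
    intro z i k hz
    obtain ⟨a, rfl⟩ : ∃ a : ℕ, (a : ZMod p) = i := ⟨i.val, ZMod.natCast_zmod_val i⟩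
    obtain ⟨d, rfl⟩ : ∃ a : ℕ, (a : ZMod p) = k := ⟨k.val, ZMod.natCast_zmod_val k⟩
    have h1 : z * (y ^ a * w ^ d)⁻¹ ∈ frattini T := by
      rw [← hm0, hmmul, hminv, hmmul, hmpow, hmpow, hz]
      abel
    have h2 : z * (y ^ a * w ^ d)⁻¹ ∈ E := hΦE h1
    have h3 : y ^ a * w ^ d ∈ E := E.mul_mem (E.pow_mem h.hy a) (E.pow_mem h.hw d)
    exact (Subgroup.mul_mem_cancel_right E (E.inv_mem h3)).mp h2
  obtain ⟨al, be, hab⟩ := hEcoord _ h.hat_t
  have Ht : H (m t) = lamZ ^ 2 • m t + al • m y + be • m w := by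
    rw [hmmul, hminv, hmpow] at hab
    have e1 : ((lam ^ 2 : ℕ) : ZMod p) = lamZ ^ 2 := by
      push_cast
      rfl
    rw [e1] at hab
    have e2 : m (hat t) = lamZ ^ 2 • m t + (m (hat t) + -(lamZ ^ 2 • m t)) := by abel
    have e3 : H (m t) = m (hat t) := rfl
    rw [e3, e2, hab]
    abel
  have Sw : S (m w) = m w := hmeq _ _ hσw
  have hSp : S ^ p = 1 := by
    apply hext
    intro z
    rw [hSpow, hσp]
    exact hconj τ₀ z
  have hfin : Module.finrank (ZMod p) V ≤ 3 := by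
    let f : Fin 3 → V := ![m y, m t, m w]
    have hspan : Submodule.span (ZMod p) (Set.range f) = ⊤ := by
      rw [eq_top_iff]
      intro v _
      obtain ⟨i, j, k, rfl⟩ := hgen v
      exact Submodule.add_mem _ (Submodule.add_mem _
        (Submodule.smul_mem _ _ (Submodule.subset_span ⟨0, rfl⟩))
        (Submodule.smul_mem _ _ (Submodule.subset_span ⟨1, rfl⟩)))
        (Submodule.smul_mem _ _ (Submodule.subset_span ⟨2, rfl⟩))
    have := finrank_range_le_card (R := ZMod p) f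
    rw [Set.finrank, hspan, finrank_top] at this
    simpa using this
  have hcube : (S - 1) ^ 3 = 0 := ChainAux.cube_zero hfin S hSp
  have hHS : H * S = S ^ ν * H := by
    apply hext
    intro z
    have e1 : hat * σ = σ ^ ν * MulAut.conj τ' * hat := by
      rw [← hhat]
      group
    have e2 : hat (σ z) = (σ ^ ν) (τ' * hat z * τ'⁻¹) := by
      have := congrArg (fun f : MulAut T => f z) e1
      exact this
    show m (hat (σ z)) = (S ^ ν) (m (hat z))
    rw [e2, ← hSpow, hconj]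
  -- `σ` moves `y` out of `E`
  obtain ⟨i₀, j₀, k₀, hSy⟩ := hgen (S (m y))
  have hj₀ : j₀ ≠ 0 := by
    rintro rfl
    apply hσ
    have hle' : E.map σ.toMonoidHom ≤ E := by
      rintro _ ⟨e, he, rfl⟩
      obtain ⟨b, c, he'⟩ := hEcoord e he
      have e1 : m (σ e) = S (m e) := rfl
      apply hmemE (σ e) (b * i₀) (b * k₀ + c)
      rw [e1, he', map_add, map_smul, map_smul, hSy, Sw]
      module
    apply Subgroup.eq_of_le_of_card_ge hle'
    rw [Subgroup.card_map_of_injective σ.injective]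
  obtain ⟨ti, tj, c, r1, r2, r3⟩ := RH2Aux.core₁ (m y) (m t) (m w) hgen hind H S lamZ lamZ' al be
    hlamZ h2Z h3Z h5Z Hy Hw Ht Sw hcube ν hHS hj₀ hSy
  -- the new generators
  obtain ⟨a, ha⟩ : ∃ a : ℕ, (a : ZMod p) = j₀ := ⟨j₀.val, ZMod.natCast_zmod_val j₀⟩
  obtain ⟨i, hi⟩ : ∃ a : ℕ, (a : ZMod p) = ti := ⟨ti.val, ZMod.natCast_zmod_val ti⟩
  obtain ⟨j, hj⟩ : ∃ a : ℕ, (a : ZMod p) = tj := ⟨tj.val, ZMod.natCast_zmod_val tj⟩
  obtain ⟨c', hc'⟩ : ∃ a : ℕ, (a : ZMod p) = c := ⟨c.val, ZMod.natCast_zmod_val c⟩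
  have hpa : ¬ p ∣ a := by
    intro hd
    apply hj₀
    rw [← ha]
    exact (ZMod.natCast_eq_zero_iff _ _).mpr hd
  obtain ⟨nb1, nb2, nb3, nb4⟩ := h.new_basis hp hT i j a hpa
  set s := (t * y ^ i * w ^ j) ^ a with hs
  have hms : m s = j₀ • (m t + ti • m y + tj • m w) := by
    rw [hs, hmpow, hmmul, hmmul, hmpow, hmpow, ha, hi, hj]
  -- `l` from the commutator
  have hlc : (l : T ⧸ Frat E) ^ p = 1 := by
    rw [← QuotientGroup.mk_pow]
    exact (QuotientGroup.eq_one_iff _).mpr (h.pow_mem hp hT l)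
  have hcs : ((⁅y, s⁆ : T) : T ⧸ Frat E) = (l : T ⧸ Frat E) ^ a := by
    have h1 := (QuotientGroup.eq_one_iff _).mpr nb2
    rw [QuotientGroup.mk_mul, QuotientGroup.mk_inv, QuotientGroup.mk_pow, mul_inv_eq_one] at h1
    exact h1
  have hΦ' : frattini T ≤ Frat E ⊔ Subgroup.zpowers ⁅y, s⁆ := by
    rw [hFe]
    refine sup_le ?_ le_sup_left
    rw [Subgroup.zpowers_le]
    obtain ⟨a', ha'⟩ : ∃ a' : ℕ, (a' : ZMod p) = j₀⁻¹ := ⟨(j₀⁻¹).val, ZMod.natCast_zmod_val _⟩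
    have hmod1 : a * a' ≡ 1 [MOD p] := by
      apply (ZMod.natCast_eq_natCast_iff _ _ _).mp
      push_cast
      rw [ha, ha', mul_inv_cancel₀ hj₀]
    have h1 : l * (⁅y, s⁆ ^ a')⁻¹ ∈ Frat E := by
      rw [← QuotientGroup.eq_one_iff, QuotientGroup.mk_mul, QuotientGroup.mk_inv,
        QuotientGroup.mk_pow, hcs, ← pow_mul, mul_inv_eq_one]
      rw [pow_eq_pow_mod _ hlc, hmod1, Nat.mod_eq_of_lt hpp.one_lt, pow_one]
    have e : l = (l * (⁅y, s⁆ ^ a')⁻¹) * ⁅y, s⁆ ^ a' := by group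
    rw [e]
    exact Subgroup.mul_mem _ (Subgroup.mem_sup_left h1)
      (Subgroup.mem_sup_right (Subgroup.pow_mem _ (Subgroup.mem_zpowers _) _))
  have hmapFrat : (Frat E).map hat.toMonoidHom = Frat E := by
    apply Subgroup.eq_of_le_of_card_ge
    · rw [Subgroup.map_le_iff_le_comap]
      exact TvAux.hat_frat h
    · rw [Subgroup.card_map_of_injective hat.injective]
  refine ⟨y, s, hmapFrat, nb1, ?_, ?_, hΦ' hσw, nb3, nb4, ?_, hhatw, ?_, ?_⟩
  · -- `σ y`
    have h1 : σ y * (y * s)⁻¹ * (w ^ c')⁻¹ ∈ frattini T := by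
      have ew : m (w ^ c') = c • m w := by rw [hmpow, hc']
      rw [← hm0, hmmul, hminv, hmmul, hminv, hmmul, ew]
      have e1 : m (σ y) = S (m y) := rfl
      rw [e1, r1, ← hms]
      abel
    have e : σ y * (y * s)⁻¹ = (σ y * (y * s)⁻¹ * (w ^ c')⁻¹) * w ^ c' := by group
    rw [e]
    refine Subgroup.mul_mem _ ?_ ?_
    · have hle2 : Frat E ⊔ Subgroup.zpowers ⁅y, s⁆ ≤
          Frat E ⊔ (Subgroup.zpowers ⁅y, s⁆ ⊔ Subgroup.zpowers w) := sup_le_sup_left le_sup_left _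
      exact hle2 (hΦ' h1)
    · exact Subgroup.mem_sup_right (Subgroup.mem_sup_right (Subgroup.pow_mem _ (Subgroup.mem_zpowers _) _))
  · -- `σ s`
    apply hΦ'
    rw [← hm0, hmmul, hminv]
    have e1 : m (σ s) = S (m s) := rfl
    rw [e1, hms, r2]
    abel
  · -- eigenvalue on the commutator
    rw [← QuotientGroup.eq_one_iff, QuotientGroup.mk_mul, QuotientGroup.mk_inv, QuotientGroup.mk_pow,
      mul_inv_eq_one, hcs]
    let φ : (T ⧸ Frat E) →* (T ⧸ Frat E) :=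
      QuotientGroup.map (Frat E) (Frat E) hat.toMonoidHom (TvAux.hat_frat h)
    have hφ : ∀ x : T, ((hat x : T) : T ⧸ Frat E) = φ (x : T ⧸ Frat E) := fun x => rfl
    have hφl : φ (l : T ⧸ Frat E) = (l : T ⧸ Frat E) ^ lam := by
      rw [← hφ]
      have h1 := (QuotientGroup.eq_one_iff _).mpr hhatl
      rw [QuotientGroup.mk_mul, QuotientGroup.mk_inv, QuotientGroup.mk_pow, mul_inv_eq_one] at h1
      exact h1
    rw [hφ, hcs, map_pow, hφl, ← pow_mul, ← pow_mul, mul_comm]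
  · -- `ν ≠ lam`
    intro hν
    have e1 : (ν : ZMod p) = lamZ := (ZMod.natCast_eq_natCast_iff _ _ _).mpr hν
    rw [r3] at e1
    have hne : lamZ ≠ 0 := by
      intro h0
      rw [h0] at hlamZ
      simp at hlamZ
    apply h2Z
    have e2 : lamZ * (lamZ ^ 2 - 1) = 0 := by linear_combination e1
    have e3 := (mul_eq_zero.mp e2).resolve_left hne
    linear_combination e3
  · -- `ν ≠ 1`
    intro hν
    have e1 : (ν : ZMod p) = ((1 : ℕ) : ZMod p) := (ZMod.natCast_eq_natCast_iff _ _ _).mpr hν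
    rw [r3] at e1
    exact h3Z (by simpa using e1)

end Tv
end Pure
end Cfsg.Agent.Lib.S5180
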