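/-
S5180 piece RH3, linear algebra: two unipotent maps on a 3-space fixing `W0` with different flags;
the `SL₂` word on the plane modulo `W0`.
-/
import Mathlib

set_option autoImplicit false

namespace Cfsg.Agent.Lib.S5180.RH3

section Lin
variable {p : ℕ} [hp : Fact p.Prime] {V : Type*} [AddCommGroup V] [Module (ZMod p) V]

theorem span3 [Finite V] (h3 : Module.finrank (ZMod p) V = 3) {e₁ e₂ e₃ : V}
    (hind : ∀ a b c : ZMod p, a • e₁ + b • e₂ + c • e₃ = 0 → a = 0 ∧ b = 0 ∧ c = 0) (x : V) :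
    ∃ a b c : ZMod p, x = a • e₁ + b • e₂ + c • e₃ := by
  classical
  haveI : Module.Finite (ZMod p) V := Module.Finite.of_finite
  have hli : LinearIndependent (ZMod p) ![e₁, e₂, e₃] := by
    rw [Fintype.linearIndependent_iff]
    intro g hg i
    have := hind (g 0) (g 1) (g 2) (by simpa [Fin.sum_univ_three] using hg)
    fin_cases i
    · exact this.1
    · exact this.2.1
    · exact this.2.2
  have hspan := hli.span_eq_top_of_card_eq_finrank' (by simp [h3])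
  have hx : x ∈ Submodule.span (ZMod p) (Set.range ![e₁, e₂, e₃]) := hspan ▸ Submodule.mem_top
  rw [Submodule.mem_span_range_iff_exists_fun] at hx
  obtain ⟨c, hc⟩ := hx
  exact ⟨c 0, c 1, c 2, by rw [← hc]; simp [Fin.sum_univ_three]⟩

/-- `x ∉ ⟨W0⟩`: independence of `x, W0`. -/
theorem ind2 {W0 x : V} (hW0 : W0 ≠ 0) (hx : ∀ c : ZMod p, x ≠ c • W0) {a c : ZMod p}
    (h : a • x + c • W0 = 0) : a = 0 ∧ c = 0 := by
  have ha : a = 0 := by
    by_contra ha
    apply hx (-(a⁻¹ * c))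
    have h1 : a⁻¹ • (a • x + c • W0) = 0 := by rw [h, smul_zero]
    rw [smul_add, smul_smul, smul_smul, inv_mul_cancel₀ ha, one_smul] at h1
    rw [neg_smul]
    exact eq_neg_of_add_eq_zero_left h1
  subst ha
  rw [zero_smul, zero_add] at h
  exact ⟨rfl, (smul_eq_zero.1 h).resolve_right hW0⟩

theorem sq_mod [Finite V] (h3 : Module.finrank (ZMod p) V = 3) {W0 : V} (hW0 : W0 ≠ 0)
    (N : Module.End (ZMod p) V) (hN3 : ∀ v, N (N (N v)) = 0) (hNW : N W0 = 0) {v₀ : V}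
    (hv₀ : ∀ c : ZMod p, N v₀ ≠ c • W0) : ∃ c : ZMod p, N (N v₀) = c • W0 := by
  by_contra hh
  push Not at hh
  have hne : N (N v₀) ≠ 0 := by simpa using hh 0
  have hind : ∀ a b c : ZMod p, a • v₀ + b • N v₀ + c • N (N v₀) = 0 → a = 0 ∧ b = 0 ∧ c = 0 := by
    intro a b c h
    have h1 := congrArg (fun x => N (N x)) h
    simp only [map_add, map_smul, hN3, smul_zero, add_zero, map_zero] at h1
    have ha := (smul_eq_zero.1 h1).resolve_right hne
    subst ha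
    have h2 := congrArg (fun x => N x) h
    simp only [map_add, map_smul, hN3, smul_zero, add_zero, map_zero, zero_smul, zero_add] at h2
    have hb := (smul_eq_zero.1 h2).resolve_right hne
    subst hb
    simp only [zero_smul, zero_add] at h
    exact ⟨rfl, rfl, (smul_eq_zero.1 h).resolve_right hne⟩
  obtain ⟨a, b, c, hW⟩ := span3 h3 hind W0
  have h1 : a • N v₀ + b • N (N v₀) = 0 := by
    have := congrArg (fun x => N x) hW
    simp only [map_add, map_smul, hN3, smul_zero, add_zero, hNW] at this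
    exact this.symm
  have ha : a = 0 := by
    have := congrArg (fun x => N x) h1
    simp only [map_add, map_smul, hN3, smul_zero, add_zero, map_zero] at this
    exact (smul_eq_zero.1 this).resolve_right hne
  subst ha
  simp only [zero_smul, zero_add] at h1
  have hb := (smul_eq_zero.1 h1).resolve_right hne
  subst hb
  simp only [zero_smul, zero_add] at hW
  have hc : c ≠ 0 := by
    rintro rfl
    exact hW0 (by rw [hW, zero_smul])
  apply hh c⁻¹
  rw [hW, smul_smul, inv_mul_cancel₀ hc, one_smul]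

/-- `X` preserves the flag `⟨W0⟩ < ⟨W0, s₁⟩ < V` and is unipotent. -/
def Flag (X : Module.End (ZMod p) V) (W0 s₁ : V) : Prop :=
  X W0 = W0 ∧ (∃ c : ZMod p, X s₁ = s₁ + c • W0) ∧ ∀ v, ∃ a b : ZMod p, X v = v + a • s₁ + b • W0

theorem normal_form [Finite V] (h3 : Module.finrank (ZMod p) V = 3) {W0 : V} (hW0 : W0 ≠ 0)
    (A B : Module.End (ZMod p) V)
    (hA3 : ∀ v, (A - 1) ((A - 1) ((A - 1) v)) = 0) (hB3 : ∀ v, (B - 1) ((B - 1) ((B - 1) v)) = 0)
    (hAw : A W0 = W0) (hBw : B W0 = W0) (hnt : ∃ v₀, ∀ c : ZMod p, (A - 1) v₀ ≠ c • W0)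
    (hdiff : ∀ s₁, Flag A W0 s₁ → ¬ Flag B W0 s₁) :
    ∃ (u s : V) (c f b g h : ZMod p), c ≠ 0 ∧
      (∀ a₁ a₂ a₃ : ZMod p, a₁ • u + a₂ • s + a₃ • W0 = 0 → a₁ = 0 ∧ a₂ = 0 ∧ a₃ = 0) ∧
      A u = u + s + f • W0 ∧ A s = s + b • W0 ∧ B u = u + g • W0 ∧ B s = s + c • u + h • W0 := by
  obtain ⟨v₀, hv₀⟩ := hnt
  set N := A - 1 with hN
  set N' := B - 1 with hN'
  have hAe : ∀ v, A v = v + N v := fun v => by simp [hN]
  have hBe : ∀ v, B v = v + N' v := fun v => by simp [hN']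
  have hNW : N W0 = 0 := by simp [hN, hAw]
  have hNW' : N' W0 = 0 := by simp [hN', hBw]
  obtain ⟨d, hd⟩ := sq_mod h3 hW0 N hA3 hNW hv₀
  set s₀ := N v₀ with hs₀
  have hind0 : ∀ a b c : ZMod p, a • v₀ + b • s₀ + c • W0 = 0 → a = 0 ∧ b = 0 ∧ c = 0 := by
    intro a b c h
    have h1 := congrArg (fun x => N x) h
    simp only [map_add, map_smul, hNW, smul_zero, add_zero, map_zero, ← hs₀, hd] at h1
    have ha : a = 0 := (ind2 hW0 hv₀ (a := a) (c := b * d) (by rw [mul_smul]; exact h1)).1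
    subst ha
    simp only [zero_smul, zero_add] at h
    obtain ⟨hb, hc⟩ := ind2 hW0 hv₀ h
    exact ⟨rfl, hb, hc⟩
  have hspan0 := span3 h3 hind0
  have hflagA : Flag A W0 s₀ := by
    refine ⟨hAw, ⟨d, by rw [hAe, hd]⟩, fun v => ?_⟩
    obtain ⟨a, b, c, rfl⟩ := hspan0 v
    refine ⟨a, b * d, ?_⟩
    rw [hAe]
    simp only [map_add, map_smul, hNW, smul_zero, add_zero, ← hs₀, hd, mul_smul]
    module
  have hnoflag := hdiff s₀ hflagA
  have hB1 : ∀ c : ZMod p, N' s₀ ≠ c • W0 := by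
    intro c hc
    apply hnoflag
    refine ⟨hBw, ⟨c, by rw [hBe, hc]⟩, fun v => ?_⟩
    obtain ⟨α, β, γ, hv⟩ := hspan0 (N' v₀)
    have hα : α = 0 := by
      have h1 := hB3 v₀
      rw [hv] at h1
      simp only [map_add, map_smul, hNW', smul_zero, add_zero, hc, hv] at h1
      have h2 : (α * α * α) • v₀ + (α * α * β) • s₀ + (α * α * γ + α * β * c) • W0 = 0 := by
        rw [← h1]; module
      have h3' := (hind0 _ _ _ h2).1
      by_contra hne
      exact (mul_ne_zero (mul_ne_zero hne hne) hne) h3'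
    subst hα
    obtain ⟨a, b, d', rfl⟩ := hspan0 v
    refine ⟨a * β, a * γ + b * c, ?_⟩
    rw [hBe]
    simp only [map_add, map_smul, hNW', smul_zero, add_zero, hc, hv, zero_smul, zero_add]
    module
  obtain ⟨g₀, hg₀⟩ := sq_mod h3 hW0 N' hB3 hNW' hB1
  set u₀ := N' s₀ with hu₀
  have hind1 : ∀ a b c : ZMod p, a • u₀ + b • s₀ + c • W0 = 0 → a = 0 ∧ b = 0 ∧ c = 0 := by
    intro a b c h
    have h1 := congrArg (fun x => N' x) h
    simp only [map_add, map_smul, hNW', smul_zero, add_zero, map_zero, ← hu₀, hg₀] at h1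
    have hb : b = 0 := (ind2 hW0 hB1 (a := b) (c := a * g₀) (by
      rw [mul_smul, add_comm]; exact h1)).1
    subst hb
    simp only [zero_smul, add_zero] at h
    obtain ⟨ha, hc⟩ := ind2 hW0 hB1 h
    exact ⟨ha, rfl, hc⟩
  have hspan1 := span3 h3 hind1
  obtain ⟨-, -, hall⟩ := hflagA
  obtain ⟨e₀, f₀, hu₀A⟩ := hall u₀
  have hNu : N u₀ = e₀ • s₀ + f₀ • W0 := by
    have := hAe u₀
    rw [hu₀A] at this
    have h2 : u₀ + (N u₀ - (e₀ • s₀ + f₀ • W0)) = u₀ := by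
      rw [add_sub_assoc', ← this]; abel
    have h3' : N u₀ - (e₀ • s₀ + f₀ • W0) = 0 := by simpa using h2
    exact sub_eq_zero.1 h3'
  have he : e₀ ≠ 0 := by
    rintro rfl
    obtain ⟨α, β, γ, hv⟩ := hspan1 v₀
    apply hv₀ (α * f₀ + β * d)
    have hsv : s₀ = N (α • u₀ + β • s₀ + γ • W0) := by rw [← hv]
    rw [hsv]
    simp only [map_add, map_smul, hNW, smul_zero, add_zero, hd, hNu, zero_smul, zero_add]
    module
  refine ⟨u₀, e₀ • s₀, e₀, f₀, e₀ * d, g₀, 0, he, ?_, ?_, ?_, ?_, ?_⟩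
  · intro a₁ a₂ a₃ h
    have h1 : a₁ • u₀ + (a₂ * e₀) • s₀ + a₃ • W0 = 0 := by rw [← h]; module
    obtain ⟨h₁, h₂, h₃⟩ := hind1 _ _ _ h1
    exact ⟨h₁, (mul_eq_zero.1 h₂).resolve_right he, h₃⟩
  · exact hu₀A
  · rw [map_smul, hAe, hd]; module
  · rw [hBe, hg₀]
  · rw [map_smul, hBe]; module

/-- Action on `V/⟨W0⟩` in the basis `u, s`. -/
def Rep (X : Module.End (ZMod p) V) (W0 u s : V) (a b c d : ZMod p) : Prop :=
  X W0 = W0 ∧ (∃ α : ZMod p, X u = a • u + c • s + α • W0) ∧ (∃ β : ZMod p, X s = b • u + d • s + β • W0)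

variable {X Y : Module.End (ZMod p) V} {W0 u s : V} {a b c d a' b' c' d' : ZMod p}

theorem Rep.mul (h : Rep X W0 u s a b c d) (h' : Rep Y W0 u s a' b' c' d') :
    Rep (X * Y) W0 u s (a * a' + b * c') (a * b' + b * d') (c * a' + d * c') (c * b' + d * d') := by
  obtain ⟨h0, ⟨α, hα⟩, ⟨β, hβ⟩⟩ := h
  obtain ⟨h0', ⟨α', hα'⟩, ⟨β', hβ'⟩⟩ := h'
  refine ⟨by rw [Module.End.mul_apply, h0', h0], ⟨a' * α + c' * β + α', ?_⟩, ⟨b' * α + d' * β + β', ?_⟩⟩
  · rw [Module.End.mul_apply, hα']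
    simp only [map_add, map_smul, hα, hβ, h0]
    module
  · rw [Module.End.mul_apply, hβ']
    simp only [map_add, map_smul, hα, hβ, h0]
    module

theorem Rep.congr (h : Rep X W0 u s a b c d) (ha : a = a') (hb : b = b') (hc : c = c') (hd : d = d') :
    Rep X W0 u s a' b' c' d' := by
  subst ha hb hc hd; exact h

theorem rep_one : Rep (1 : Module.End (ZMod p) V) W0 u s 1 0 0 1 :=
  ⟨rfl, ⟨0, by simp⟩, ⟨0, by simp⟩⟩

theorem rep_powA (h : Rep X W0 u s 1 0 1 1) (n : ℕ) : Rep (X ^ n) W0 u s 1 0 (n : ZMod p) 1 := by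
  induction n with
  | zero => simpa using rep_one
  | succ n ih =>
    rw [pow_succ]
    exact (ih.mul h).congr (by ring) (by ring) (by push_cast; ring) (by ring)

theorem rep_powB {e : ZMod p} (h : Rep X W0 u s 1 e 0 1) (n : ℕ) :
    Rep (X ^ n) W0 u s 1 ((n : ZMod p) * e) 0 1 := by
  induction n with
  | zero => simpa using rep_one
  | succ n ih =>
    rw [pow_succ]
    exact (ih.mul h).congr (by ring) (by push_cast; ring) (by ring) (by ring)

/-- The torus word: `x(m) y(-1/m) x(m) x(-1) y(1) x(-1)` is `diag(m⁻¹, m)`. -/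
theorem rep_word (hp' : (((p - 1 : ℕ) : ZMod p)) = -1) {A B : Module.End (ZMod p) V} {e m : ZMod p}
    (hm : m ≠ 0) (hA : Rep A W0 u s 1 0 1 1) (hB : Rep B W0 u s 1 e 0 1) {m₀ j₁ j₂ : ℕ}
    (hm₀ : (m₀ : ZMod p) = m) (hj₁ : (j₁ : ZMod p) * e = - m⁻¹) (hj₂ : (j₂ : ZMod p) * e = 1) :
    Rep (A ^ m₀ * B ^ j₁ * A ^ m₀ * (A ^ (p - 1) * B ^ j₂ * A ^ (p - 1))) W0 u s m⁻¹ 0 0 m := by
  have h1 := rep_powA hA m₀
  have h2 := rep_powB hB j₁
  have h3 := rep_powA hA (p - 1)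
  have h4 := rep_powB hB j₂
  rw [hm₀] at h1
  rw [hj₁] at h2
  rw [hp'] at h3
  rw [hj₂] at h4
  have hmm : m * m⁻¹ = 1 := mul_inv_cancel₀ hm
  exact (((h1.mul h2).mul h1).mul ((h3.mul h4).mul h3)).congr
    (by field_simp; ring) (by field_simp; ring) (by field_simp; ring) (by field_simp; ring)

end Lin

end Cfsg.Agent.Lib.S5180.RH3
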