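/- S5180 RH helper: coordinates on the Frattini quotient of a `p`-group. -/
import Mathlib
import Cfsg.Agent.Lib.PGroup.FrattiniBasis
import Cfsg.Agent.Lib.Fusion.Meta.Frat

set_option autoImplicit false
set_option linter.unusedSectionVars false
set_option linter.style.haveILetI false
open scoped commutatorElement

namespace Cfsg.Agent.Lib.S5180.RhoCo
universe u

variable {T : Type u} [Group T] [Finite T] {p : ℕ} [Fact p.Prime]

/-- Coordinates on `T/Φ(T)` with basis `g₀,g₁,g₂`. -/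
structure Co (p : ℕ) (g₀ g₁ g₂ : T) (c : T → Fin 3 → ZMod p) : Prop where
  mul : ∀ a b, c (a * b) = c a + c b
  ker : ∀ z, c z = 0 ↔ z ∈ frattini T
  g0 : c g₀ = ![1, 0, 0]
  g1 : c g₁ = ![0, 1, 0]
  g2 : c g₂ = ![0, 0, 1]
  span : ∀ z : T, ∃ a b d : ℕ, z * (g₀ ^ a * g₁ ^ b * g₂ ^ d)⁻¹ ∈ frattini T

theorem exists_co (hT : IsPGroup p T) {g₀ g₁ g₂ : T}
    (hspan : ∀ z : T, ∃ a b d : ℕ, z * (g₀ ^ a * g₁ ^ b * g₂ ^ d)⁻¹ ∈ frattini T)
    (hind : ∀ a b d : ℕ, g₀ ^ a * g₁ ^ b * g₂ ^ d ∈ frattini T → p ∣ a ∧ p ∣ b ∧ p ∣ d) :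
    ∃ c : T → Fin 3 → ZMod p, Co p g₀ g₁ g₂ c := by
  classical
  obtain ⟨V, _, _, π, hπ, hker⟩ := Cfsg.Agent.Lib.PGroup.FrattiniBasis.exists_vector_space (p := p) hT
  let f : T → V := fun z => Multiplicative.toAdd (π z)
  have fmul : ∀ a b, f (a * b) = f a + f b := fun a b => by simp [f, map_mul]
  have fone : f 1 = 0 := by simp [f]
  have fpow : ∀ (a : T) (n : ℕ), f (a ^ n) = (n : ZMod p) • f a := by
    intro a n
    have : f (a ^ n) = n • f a := by simp [f, map_pow]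
    rw [this, Nat.cast_smul_eq_nsmul]
  have fker : ∀ z, f z = 0 ↔ z ∈ frattini T := by
    intro z
    rw [← hker, MonoidHom.mem_ker]
    exact Iff.rfl
  have finv : ∀ a, f a⁻¹ = - f a := fun a => by simp [f, map_inv]
  let v : Fin 3 → V := ![f g₀, f g₁, f g₂]
  have hli : LinearIndependent (ZMod p) v := by
    rw [Fintype.linearIndependent_iff]
    intro k hk
    have h0 : g₀ ^ (k 0).val * g₁ ^ (k 1).val * g₂ ^ (k 2).val ∈ frattini T := by
      rw [← fker, fmul, fmul, fpow, fpow, fpow]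
      simpa [Fin.sum_univ_three, v] using hk
    obtain ⟨h1, h2, h3⟩ := hind _ _ _ h0
    intro i
    fin_cases i
    · have := (ZMod.natCast_eq_zero_iff _ _).2 h1
      simpa using this
    · have := (ZMod.natCast_eq_zero_iff _ _).2 h2
      simpa using this
    · have := (ZMod.natCast_eq_zero_iff _ _).2 h3
      simpa using this
  have hsp : ⊤ ≤ Submodule.span (ZMod p) (Set.range v) := by
    intro x _
    obtain ⟨z, hz⟩ := hπ (Multiplicative.ofAdd x)
    have hx : x = f z := by simp [f, hz]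
    obtain ⟨a, b, d, h⟩ := hspan z
    have h1 := (fker _).2 h
    rw [fmul, finv] at h1
    have h2 : f z = f (g₀ ^ a * g₁ ^ b * g₂ ^ d) := by
      exact sub_eq_zero.mp (by rw [sub_eq_add_neg]; exact h1)
    rw [hx, h2, fmul, fmul, fpow, fpow, fpow]
    refine Submodule.add_mem _ (Submodule.add_mem _ ?_ ?_) ?_
    · exact Submodule.smul_mem _ _ (Submodule.subset_span ⟨0, rfl⟩)
    · exact Submodule.smul_mem _ _ (Submodule.subset_span ⟨1, rfl⟩)
    · exact Submodule.smul_mem _ _ (Submodule.subset_span ⟨2, rfl⟩)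
  let B := Module.Basis.mk hli hsp
  let e := B.equivFun
  refine ⟨fun z => e (f z), ?_, ?_, ?_, ?_, ?_, ?_⟩
  · intro a b
    simp [fmul]
  · intro z
    rw [← fker]
    simp
  · show e (v 0) = _
    rw [show v 0 = B 0 by simp [B]]
    funext j
    refine (B.equivFun_self 0 j).trans ?_
    fin_cases j <;> simp
  · show e (v 1) = _
    rw [show v 1 = B 1 by simp [B]]
    funext j
    refine (B.equivFun_self 1 j).trans ?_
    fin_cases j <;> simp
  · show e (v 2) = _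
    rw [show v 2 = B 2 by simp [B]]
    funext j
    refine (B.equivFun_self 2 j).trans ?_
    fin_cases j <;> simp
  · exact hspan

section
variable {g₀ g₁ g₂ : T} {c : T → Fin 3 → ZMod p}

theorem Co.one (h : Co p g₀ g₁ g₂ c) : c 1 = 0 := (h.ker 1).2 (one_mem _)

theorem Co.inv (h : Co p g₀ g₁ g₂ c) (a : T) : c a⁻¹ = - c a := by
  have := h.mul a a⁻¹
  rw [mul_inv_cancel, h.one] at this
  exact eq_neg_of_add_eq_zero_right this.symm

theorem Co.pow (h : Co p g₀ g₁ g₂ c) (a : T) (n : ℕ) : c (a ^ n) = (n : ZMod p) • c a := by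
  induction n with
  | zero => simp [h.one]
  | succ n ih => rw [pow_succ, h.mul, ih]; push_cast; rw [add_smul, one_smul]

theorem Co.eq_of (h : Co p g₀ g₁ g₂ c) {a b : T} (hab : a * b⁻¹ ∈ frattini T) : c a = c b := by
  have := (h.ker _).2 hab
  rw [h.mul, h.inv] at this
  exact sub_eq_zero.mp (by rw [sub_eq_add_neg]; exact this)

theorem Co.mem_of (h : Co p g₀ g₁ g₂ c) {a b : T} (hab : c a = c b) : a * b⁻¹ ∈ frattini T := by
  rw [← h.ker, h.mul, h.inv, hab]; simp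

theorem char_mem' (φ : MulAut T) {x : T} (hx : x ∈ frattini T) : φ x ∈ frattini T := by
  have h := (Subgroup.characteristic_iff_comap_eq.1 (inferInstance : (frattini T).Characteristic)) φ
  have : x ∈ (frattini T).comap φ.toMonoidHom := by rw [h]; exact hx
  exact this

theorem Co.coord (h : Co p g₀ g₁ g₂ c) (a b d : ℕ) :
    c (g₀ ^ a * g₁ ^ b * g₂ ^ d) = ![(a : ZMod p), b, d] := by
  rw [h.mul, h.mul, h.pow, h.pow, h.pow, h.g0, h.g1, h.g2]
  funext i
  fin_cases i <;> simp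

/-- key formula -/
theorem Co.key (h : Co p g₀ g₁ g₂ c) (φ : MulAut T) (z : T) :
    c (φ z) = c z 0 • c (φ g₀) + c z 1 • c (φ g₁) + c z 2 • c (φ g₂) := by
  obtain ⟨a, b, d, hz⟩ := h.span z
  have h1 := h.eq_of hz
  have h2 : c (φ z) = c (φ (g₀ ^ a * g₁ ^ b * g₂ ^ d)) := by
    apply h.eq_of
    have := char_mem' φ hz
    simpa [map_mul, map_inv] using this
  rw [h2, h1, h.coord, map_mul, map_mul, map_pow, map_pow, map_pow, h.mul, h.mul, h.pow, h.pow, h.pow]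
  simp

/-- matrix of an automorphism -/
def MM (g₀ g₁ g₂ : T) (c : T → Fin 3 → ZMod p) (φ : MulAut T) : Matrix (Fin 3) (Fin 3) (ZMod p) :=
  fun i j => c (φ (![g₀, g₁, g₂] j)) i

theorem Co.mm_apply (h : Co p g₀ g₁ g₂ c) (φ : MulAut T) (z : T) (i : Fin 3) :
    c (φ z) i = MM g₀ g₁ g₂ c φ i 0 * c z 0 + MM g₀ g₁ g₂ c φ i 1 * c z 1 + MM g₀ g₁ g₂ c φ i 2 * c z 2 := by
  rw [h.key φ z]
  simp [MM, mul_comm]

theorem Co.mm_mul (h : Co p g₀ g₁ g₂ c) (φ ψ : MulAut T) :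
    MM g₀ g₁ g₂ c (φ * ψ) = MM g₀ g₁ g₂ c φ * MM g₀ g₁ g₂ c ψ := by
  ext i j
  rw [Matrix.mul_apply, Fin.sum_univ_three]
  show c (φ (ψ _)) i = _
  rw [h.mm_apply φ]
  rfl

theorem Co.mm_one (h : Co p g₀ g₁ g₂ c) : MM g₀ g₁ g₂ c (1 : MulAut T) = 1 := by
  ext i j
  show c (![g₀, g₁, g₂] j) i = _
  fin_cases j <;> fin_cases i <;> simp [h.g0, h.g1, h.g2]

/-- the matrix representation as a monoid hom -/
def mmHom (h : Co p g₀ g₁ g₂ c) : MulAut T →* Matrix (Fin 3) (Fin 3) (ZMod p) where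
  toFun := MM g₀ g₁ g₂ c
  map_one' := h.mm_one
  map_mul' := h.mm_mul

theorem Co.mm_pow (h : Co p g₀ g₁ g₂ c) (φ : MulAut T) (n : ℕ) :
    MM g₀ g₁ g₂ c (φ ^ n) = MM g₀ g₁ g₂ c φ ^ n := (mmHom h).map_pow φ n

theorem nil3 (B : Matrix (Fin 3) (Fin 3) (ZMod p)) (hB : IsNilpotent B) : B ^ 3 = 0 := by
  have h1 := Matrix.isNilpotent_charpoly_sub_pow_of_isNilpotent hB
  have h2 : B.charpoly - Polynomial.X ^ Fintype.card (Fin 3) = 0 := h1.eq_zero
  have h3 : B.charpoly = Polynomial.X ^ 3 := by simpa [sub_eq_zero] using h2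
  have h4 := Matrix.aeval_self_charpoly B
  rw [h3] at h4
  simpa using h4

theorem pow_p_of_cube (hp : 3 ≤ p) {M : Matrix (Fin 3) (Fin 3) (ZMod p)} (h : (M - 1) ^ 3 = 0) : M ^ p = 1 := by
  haveI : CharP (Matrix (Fin 3) (Fin 3) (ZMod p)) p := Matrix.charP p
  have h1 : (M - 1) ^ p = M ^ p - 1 ^ p := sub_pow_char_of_commute p (Commute.one_right M)
  have h2 : (M - 1) ^ p = 0 := by
    obtain ⟨k, rfl⟩ := Nat.exists_eq_add_of_le hp
    rw [pow_add, h, zero_mul]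
  rw [h2, one_pow] at h1
  exact (sub_eq_zero.mp h1.symm)

theorem cube_of_ppow {M : Matrix (Fin 3) (Fin 3) (ZMod p)} {k : ℕ} (h : M ^ (p ^ k) = 1) : (M - 1) ^ 3 = 0 := by
  haveI : CharP (Matrix (Fin 3) (Fin 3) (ZMod p)) p := Matrix.charP p
  apply nil3
  refine ⟨p ^ k, ?_⟩
  rw [sub_pow_char_pow_of_commute p k (Commute.one_right M), h, one_pow, sub_self]

/-- the second coordinate characterizes a hyperplane -/
theorem Co.mem_iff (h : Co p g₀ g₁ g₂ c) (hT : IsPGroup p T) {E : Subgroup T} (hF : frattini T ≤ E)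
    (h0 : g₀ ∈ E) (h1 : g₁ ∉ E) (h2 : g₂ ∈ E) (z : T) : z ∈ E ↔ c z 1 = 0 := by
  obtain ⟨a, b, d, hz⟩ := h.span z
  have hc : c z 1 = (b : ZMod p) := by
    rw [h.eq_of hz, h.coord]; simp
  have hzE : z ∈ E ↔ g₁ ^ b ∈ E := by
    have e1 : z ∈ E ↔ g₀ ^ a * g₁ ^ b * g₂ ^ d ∈ E := by
      constructor
      · intro hh
        have := E.mul_mem (E.inv_mem (hF hz)) hh
        simpa using this
      · intro hh
        have := E.mul_mem (hF hz) hh
        rwa [inv_mul_cancel_right] at this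
    rw [e1, Subgroup.mul_mem_cancel_right _ (E.pow_mem h2 d), Subgroup.mul_mem_cancel_left _ (E.pow_mem h0 a)]
  rw [hzE, hc, ZMod.natCast_eq_zero_iff]
  have hpm : g₁ ^ p ∈ E := hF (Cfsg.Agent.Lib.PGroup.FrattiniBasis.pow_mem_frattini hT g₁)
  constructor
  · intro hb
    by_contra hnd
    have hcop : Nat.Coprime b p := ((Nat.Prime.coprime_iff_not_dvd Fact.out).2 hnd).symm
    apply h1
    have hg := Nat.gcd_eq_gcd_ab b p
    rw [hcop] at hg
    have : g₁ = (g₁ ^ b) ^ (Nat.gcdA b p) * (g₁ ^ p) ^ (Nat.gcdB b p) := by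
      rw [← zpow_natCast, ← zpow_natCast, ← zpow_mul, ← zpow_mul, ← zpow_add, ← hg]
      simp
    rw [this]
    exact E.mul_mem (E.zpow_mem hb _) (E.zpow_mem hpm _)
  · rintro ⟨k, rfl⟩
    rw [mul_comm, pow_mul]
    exact hF (Cfsg.Agent.Lib.PGroup.FrattiniBasis.pow_mem_frattini hT _)

theorem map_eq_of_forall {E : Subgroup T} (φ : MulAut T) (h : ∀ z ∈ E, φ z ∈ E) :
    E.map φ.toMonoidHom = E := by
  apply Subgroup.eq_of_le_of_card_ge
  · rintro _ ⟨z, hz, rfl⟩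
    exact h z hz
  · rw [Subgroup.card_map_of_injective φ.injective]

end

/-- Burnside: an automorphism whose `p`-th power is trivial on `T/Φ(T)` is a `p`-element. -/
theorem pElem (hT : IsPGroup p T) (x : MulAut T) (hx : ∀ z : T, z⁻¹ * (x ^ p) z ∈ frattini T) :
    ∃ k, x ^ p ^ k = 1 := by
  classical
  haveI : Finite (MulAut T) := Finite.of_injective (fun f : MulAut T => (f : T → T)) DFunLike.coe_injective
  have hn : orderOf x ≠ 0 := (orderOf_pos x).ne'
  obtain ⟨k, m, hm, hnm⟩ := Nat.exists_eq_pow_mul_and_not_dvd hn p (Fact.out : p.Prime).ne_one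
  refine ⟨k + 1, ?_⟩
  have hpow : ∀ (n : ℕ) (z : T), z⁻¹ * ((x ^ p) ^ n) z ∈ frattini T := by
    intro n
    induction n with
    | zero => intro z; simp [one_mem]
    | succ n ih =>
      intro z
      have e : z⁻¹ * ((x ^ p) ^ (n + 1)) z = (z⁻¹ * (x ^ p) z) * (((x ^ p) z)⁻¹ * ((x ^ p) ^ n) ((x ^ p) z)) := by
        rw [pow_succ, MulAut.mul_apply]
        group
      rw [e]
      exact mul_mem (hx z) (ih _)
  have hβ : (x ^ p) ^ (p ^ k) = x ^ p ^ (k + 1) := by rw [← pow_mul, pow_succ, mul_comm]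
  rw [← hβ]
  apply Cfsg.Agent.Lib.Fusion.Meta.Frat.aut_eq_one_of_frattini (p := p) hT _ _ (hpow _)
  have hdvd : orderOf ((x ^ p) ^ (p ^ k)) ∣ m := by
    apply orderOf_dvd_of_pow_eq_one
    rw [hβ, ← pow_mul]
    have : p ^ (k + 1) * m = orderOf x * p := by rw [hnm, pow_succ]; ring
    rw [this, pow_mul, pow_orderOf_eq_one, one_pow]
  exact Nat.Coprime.coprime_dvd_left hdvd ((Nat.Prime.coprime_iff_not_dvd Fact.out).2 hm).symm

end Cfsg.Agent.Lib.S5180.RhoCo
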