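/- S5180 RH helper: elements of `AA` trivial on `B/⟨w̄⟩` and fixing `w̄` are inner (Burnside + Sylow). -/
import Mathlib
import Cfsg.Agent.Lib.S5180.RhoCo

set_option autoImplicit false
set_option linter.unusedSectionVars false
set_option linter.style.haveILetI false
open scoped commutatorElement

namespace Cfsg.Agent.Lib.S5180
universe u

variable {T : Type u} [Group T] [Finite T] {p : ℕ} [Fact p.Prime]

open Cfsg.Agent.Lib.S5180.RhoCo in
theorem inner_of_trivial_mod_w (hT : IsPGroup p T) {E : Subgroup T} {w : T} (hEF : frattini T ≤ E) (hwE : w ∈ E)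
    {AA PP : Subgroup (MulAut T)} (hPP : PP ≤ AA)
    (hsyl : ∃ R : Sylow p AA, (R : Subgroup AA) = PP.subgroupOf AA)
    (hfix : ∀ π ∈ PP, E.map (π : MulAut T).toMonoidHom = E → ∃ τ : T, π = MulAut.conj τ)
    (hPPw : ∀ π ∈ PP, π w * w⁻¹ ∈ frattini T) {π : MulAut T} (hπAA : π ∈ AA)
    (hπw : π w * w⁻¹ ∈ frattini T) (hπ : ∀ z : T, π z * z⁻¹ ∈ Subgroup.zpowers w ⊔ frattini T) :
    ∃ τ : T, π = MulAut.conj τ := by
  classical
  obtain ⟨V, _, _, f₀, hf₀, hker⟩ := Cfsg.Agent.Lib.PGroup.FrattiniBasis.exists_vector_space (p := p) hT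
  let f : T → V := fun z => Multiplicative.toAdd (f₀ z)
  have fmul : ∀ a b, f (a * b) = f a + f b := fun a b => by simp [f, map_mul]
  have fone : f 1 = 0 := by simp [f]
  have finv : ∀ a, f a⁻¹ = - f a := fun a => by simp [f, map_inv]
  have fker : ∀ z, f z = 0 ↔ z ∈ frattini T := by
    intro z
    rw [← hker, MonoidHom.mem_ker]
    exact Iff.rfl
  have fpow : ∀ (a : T) (n : ℕ), f (a ^ n) = (n : ZMod p) • f a := by
    intro a n
    have : f (a ^ n) = n • f a := by simp [f, map_pow]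
    rw [this, Nat.cast_smul_eq_nsmul]
  have feq : ∀ a b, f a = f b ↔ a * b⁻¹ ∈ frattini T := by
    intro a b
    rw [← fker, fmul, finv, ← sub_eq_add_neg, sub_eq_zero]
  have fwd : ∀ (x : MulAut T) {a b : T}, f a = f b → f (x a) = f (x b) := by
    intro x a b hab
    rw [feq] at hab ⊢
    have := char_mem' x hab
    simpa [map_mul, map_inv] using this
  have fbw : ∀ (x : MulAut T) {a b : T}, f (x a) = f (x b) → f a = f b := by
    intro x a b hab
    have := fwd x⁻¹ hab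
    simpa using this
  -- conversion of the hypotheses
  let X : Subgroup T :=
    { carrier := {z | ∃ m : ZMod p, f z = m • f w}
      one_mem' := ⟨0, by simp [fone]⟩
      mul_mem' := by
        rintro a b ⟨m, hm⟩ ⟨n, hn⟩
        exact ⟨m + n, by rw [fmul, hm, hn, add_smul]⟩
      inv_mem' := by
        rintro a ⟨m, hm⟩
        exact ⟨-m, by rw [finv, hm, neg_smul]⟩ }
  have hmem : ∀ z, z ∈ Subgroup.zpowers w ⊔ frattini T → ∃ m : ZMod p, f z = m • f w := by
    intro z hz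
    have hle : Subgroup.zpowers w ⊔ frattini T ≤ X := by
      refine sup_le ?_ ?_
      · rw [Subgroup.zpowers_le]
        exact ⟨1, by simp⟩
      · intro a ha
        exact ⟨0, by rw [(fker a).2 ha]; simp⟩
    exact hle hz
  let W₀ : Subgroup (MulAut T) :=
    { carrier := {x | x ∈ AA ∧ f (x w) = f w ∧ ∀ z, ∃ m : ZMod p, f (x z) = f z + m • f w}
      one_mem' := ⟨AA.one_mem, rfl, fun z => ⟨0, by simp⟩⟩
      mul_mem' := by
        rintro x₁ x₂ ⟨h1, h2, h3⟩ ⟨h4, h5, h6⟩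
        refine ⟨AA.mul_mem h1 h4, ?_, fun z => ?_⟩
        · show f (x₁ (x₂ w)) = _
          rw [fwd x₁ h5, h2]
        · obtain ⟨m₂, hm₂⟩ := h6 z
          obtain ⟨m₁, hm₁⟩ := h3 (x₂ z)
          refine ⟨m₁ + m₂, ?_⟩
          show f (x₁ (x₂ z)) = _
          rw [hm₁, hm₂, add_smul]
          abel
      inv_mem' := by
        rintro x ⟨h1, h2, h3⟩
        refine ⟨AA.inv_mem h1, ?_, fun z => ?_⟩
        · apply fbw x
          have : x (x⁻¹ w) = w := by simp
          rw [this, h2]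
        · obtain ⟨m, hm⟩ := h3 (x⁻¹ z)
          refine ⟨-m, ?_⟩
          have : x (x⁻¹ z) = z := by simp
          rw [this] at hm
          rw [hm, neg_smul]
          abel }
  have hW₀ : ∀ x, x ∈ W₀ ↔ (x ∈ AA ∧ f (x w) = f w ∧ ∀ z, ∃ m : ZMod p, f (x z) = f z + m • f w) :=
    fun x => Iff.rfl
  have hπW : π ∈ W₀ := by
    refine ⟨hπAA, (feq _ _).2 hπw, fun z => ?_⟩
    obtain ⟨m, hm⟩ := hmem _ (hπ z)
    refine ⟨m, ?_⟩
    rw [fmul, finv] at hm
    rw [← hm]
    abel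
  -- elements of `W₀` are `p`-elements
  have hWp : IsPGroup p W₀ := by
    rintro ⟨x, hx⟩
    obtain ⟨k, hk⟩ := pElem (p := p) hT x (by
      intro z
      obtain ⟨-, h2, h3⟩ := hx
      obtain ⟨m, hm⟩ := h3 z
      have hiter : ∀ n : ℕ, f ((x ^ n) z) = f z + ((n : ZMod p) * m) • f w := by
        intro n
        induction n with
        | zero => simp
        | succ n ih =>
          have e : (x ^ (n + 1)) z = x ((x ^ n) z) := by rw [pow_succ', MulAut.mul_apply]
          rw [e]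
          -- `(x^n) z ≡ z w^k`
          have e2 : f ((x ^ n) z) = f (z * w ^ ((n : ZMod p) * m).val) := by
            rw [ih, fmul, fpow, ZMod.natCast_zmod_val]
          rw [fwd x e2, map_mul, map_pow, fmul, fpow, h2, hm, ZMod.natCast_zmod_val]
          push_cast
          rw [add_mul, one_mul, add_smul]
          abel
      have h4 := hiter p
      have h5 : ((p : ZMod p) * m) = 0 := by simp
      rw [h5, zero_smul, add_zero] at h4
      rw [← fker, fmul, finv, h4]
      simp)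
    refine ⟨k, Subtype.ext ?_⟩
    simpa using hk
  -- normalized by `PP`
  have hfw : ∀ ρ ∈ PP, f (ρ w) = f w := fun ρ hρ => (feq _ _).2 (hPPw ρ hρ)
  have hnorm : ∀ ρ ∈ PP, ∀ x ∈ W₀, ρ * x * ρ⁻¹ ∈ W₀ := by
    rintro ρ hρ x ⟨h1, h2, h3⟩
    refine ⟨AA.mul_mem (AA.mul_mem (hPP hρ) h1) (AA.inv_mem (hPP hρ)), ?_, fun z => ?_⟩
    · show f (ρ (x (ρ⁻¹ w))) = _
      have e1 : f (ρ⁻¹ w) = f w := hfw _ (PP.inv_mem hρ)
      rw [fwd ρ (fwd x e1), fwd ρ h2, hfw ρ hρ]
    · obtain ⟨m, hm⟩ := h3 (ρ⁻¹ z)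
      refine ⟨m, ?_⟩
      show f (ρ (x (ρ⁻¹ z))) = _
      have e2 : f (x (ρ⁻¹ z)) = f (ρ⁻¹ z * w ^ m.val) := by
        rw [hm, fmul, fpow, ZMod.natCast_zmod_val]
      rw [fwd ρ e2, map_mul, map_pow, fmul, fpow, hfw ρ hρ, ZMod.natCast_zmod_val]
      simp
  -- Sylow
  obtain ⟨R, hR⟩ := hsyl
  have hY : IsPGroup p (W₀.subgroupOf AA) := by
    rintro ⟨x, hx⟩
    obtain ⟨k, hk⟩ := hWp ⟨(x : MulAut T), Subgroup.mem_subgroupOf.1 hx⟩
    refine ⟨k, Subtype.ext (Subtype.ext ?_)⟩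
    have := congrArg Subtype.val hk
    simpa using this
  have hRn : (R : Subgroup AA) ≤ Subgroup.normalizer ((W₀.subgroupOf AA : Subgroup AA) : Set AA) := by
    intro a ha
    rw [hR] at ha
    have haP : (a : MulAut T) ∈ PP := Subgroup.mem_subgroupOf.1 ha
    rw [Subgroup.mem_normalizer_iff]
    intro b
    constructor
    · intro hb
      exact Subgroup.mem_subgroupOf.2 (hnorm _ haP _ (Subgroup.mem_subgroupOf.1 hb))
    · intro hb
      have h1 := hnorm _ (PP.inv_mem haP) _ (Subgroup.mem_subgroupOf.1 hb)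
      apply Subgroup.mem_subgroupOf.2
      have e : ((a : MulAut T))⁻¹ * ((a * b * a⁻¹ : AA) : MulAut T) * ((a : MulAut T))⁻¹⁻¹ = (b : MulAut T) := by
        simp
        group
      rw [e] at h1
      exact h1
  have hsup := IsPGroup.to_sup_of_normal_right' R.isPGroup' hY hRn
  have hEq := R.is_maximal' hsup le_sup_left
  have hπR : (⟨π, hπAA⟩ : AA) ∈ (R : Subgroup AA) := by
    rw [← hEq]
    exact (le_sup_right : W₀.subgroupOf AA ≤ _) (Subgroup.mem_subgroupOf.2 hπW)
  rw [hR] at hπR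
  have hπP : π ∈ PP := Subgroup.mem_subgroupOf.1 hπR
  apply hfix π hπP
  apply RhoCo.map_eq_of_forall
  intro z hz
  have h1 : π z * z⁻¹ ∈ E := by
    refine (sup_le ?_ hEF : Subgroup.zpowers w ⊔ frattini T ≤ E) (hπ z)
    rwa [Subgroup.zpowers_le]
  have := E.mul_mem h1 hz
  simpa using this

end Cfsg.Agent.Lib.S5180
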