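import Cfsg.Agent.Lib.S5180.FratInv
import Cfsg.Agent.Lib.S5180.ChainAux
import Cfsg.Agent.Lib.S5180.RH3Lin
import Cfsg.Agent.Lib.S5180.RhoFlag

set_option autoImplicit false
open scoped commutatorElement

namespace Cfsg.Agent.Lib.S5180
universe u

namespace RH3

section Group

theorem comm_pow {Q : Type*} [Group Q] {a b : Q} (hc : ∀ g, Commute ⁅a, b⁆ g) (i j : ℕ) :
    ⁅a ^ i, b ^ j⁆ = ⁅a, b⁆ ^ (i * j) := by
  set c := ⁅a, b⁆ with hcdef
  have h1 : a * b = c * (b * a) := by rw [hcdef, commutatorElement_def]; group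
  have h2 : ∀ i : ℕ, a ^ i * b = c ^ i * (b * a ^ i) := by
    intro i
    induction i with
    | zero => simp
    | succ i ih =>
      have e1 : a ^ (i + 1) * b = (a ^ i * c) * (b * a) := by
        rw [pow_succ, mul_assoc, h1, mul_assoc]
      rw [e1, ((hc (a ^ i)).eq).symm]
      have e2 : c * a ^ i * (b * a) = c * (a ^ i * b) * a := by group
      rw [e2, ih]
      group
  have h3 : ∀ j : ℕ, a ^ i * b ^ j = c ^ (i * j) * (b ^ j * a ^ i) := by
    intro j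
    induction j with
    | zero => simp
    | succ j ih =>
      have e1 : a ^ i * b ^ (j + 1) = (a ^ i * b ^ j) * b := by rw [pow_succ, mul_assoc]
      rw [e1, ih]
      have e2 : c ^ (i * j) * (b ^ j * a ^ i) * b = c ^ (i * j) * (b ^ j * (a ^ i * b)) := by group
      rw [e2, h2]
      have e3 : b ^ j * (c ^ i * (b * a ^ i)) = (b ^ j * c ^ i) * (b * a ^ i) := by group
      rw [e3, (((hc (b ^ j)).pow_left i).eq).symm]
      rw [mul_add, pow_add, pow_succ b j]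
      group
  rw [commutatorElement_def, h3]
  group

theorem conj_conj {G : Type*} [Group G] (α : MulAut G) (τ : G) :
    α * MulAut.conj τ * α⁻¹ = MulAut.conj (α τ) := by
  ext x
  simp [MulAut.conj_apply, MulAut.mul_apply]

end Group

section Rep
variable {T : Type u} [Group T] [Finite T] {p : ℕ} [hpf : Fact p.Prime]
variable {V : Type u} [AddCommGroup V] [Module (ZMod p) V]

theorem exists_rep (mk0 : T →* Multiplicative V) (hsurj : Function.Surjective mk0)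
    (hker : mk0.ker = frattini T) :
    ∃ L : MulAut T →* Module.End (ZMod p) V,
      ∀ (α : MulAut T) (z : T), L α (Multiplicative.toAdd (mk0 z)) = Multiplicative.toAdd (mk0 (α z)) := by
  classical
  have key : ∀ (α : MulAut T) (z z' : T), mk0 z = mk0 z' → mk0 (α z) = mk0 (α z') := by
    intro α z z' hzz
    have h1 : z⁻¹ * z' ∈ frattini T := by
      rw [← hker, MonoidHom.mem_ker, map_mul, map_inv, hzz, inv_mul_cancel]
    have h2 : α (z⁻¹ * z') ∈ frattini T := by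
      have hch : (frattini T).Characteristic := inferInstance
      have := (Subgroup.characteristic_iff_map_eq.1 hch) α
      rw [← this]
      exact ⟨_, h1, rfl⟩
    rw [← hker, MonoidHom.mem_ker, map_mul, map_mul, map_inv, map_inv, inv_mul_eq_one] at h2
    exact h2
  let sec : V → T := fun v => Function.surjInv hsurj (Multiplicative.ofAdd v)
  have hsec : ∀ v, mk0 (sec v) = Multiplicative.ofAdd v := fun v => Function.surjInv_eq hsurj _
  let g : MulAut T → V → V := fun α v => Multiplicative.toAdd (mk0 (α (sec v)))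
  have hg : ∀ α z, g α (Multiplicative.toAdd (mk0 z)) = Multiplicative.toAdd (mk0 (α z)) := by
    intro α z
    show Multiplicative.toAdd (mk0 (α (sec _))) = _
    rw [key α _ z (by rw [hsec]; rfl)]
  have hs : ∀ v : V, ∃ z : T, v = Multiplicative.toAdd (mk0 z) := by
    intro v
    obtain ⟨z, hz⟩ := hsurj (Multiplicative.ofAdd v)
    exact ⟨z, by rw [hz]; rfl⟩
  have hadd : ∀ α v v', g α (v + v') = g α v + g α v' := by
    intro α v v'
    obtain ⟨z, rfl⟩ := hs v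
    obtain ⟨z', rfl⟩ := hs v'
    have e : Multiplicative.toAdd (mk0 z) + Multiplicative.toAdd (mk0 z') =
        Multiplicative.toAdd (mk0 (z * z')) := by rw [map_mul]; rfl
    rw [e, hg, hg, hg, map_mul, map_mul]; rfl
  let F : MulAut T → Module.End (ZMod p) V := fun α =>
    (AddMonoidHom.mk' (g α) (hadd α)).toZModLinearMap p
  have hF : ∀ α v, F α v = g α v := fun _ _ => rfl
  refine ⟨{ toFun := F, map_one' := ?_, map_mul' := ?_ }, fun α z => hg α z⟩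
  · apply LinearMap.ext
    intro v
    obtain ⟨z, rfl⟩ := hs v
    rw [hF, hg]; rfl
  · intro α β
    apply LinearMap.ext
    intro v
    obtain ⟨z, rfl⟩ := hs v
    have e1 := hg (α * β) z
    have e2 := hg β z
    have e3 := hg α (β z)
    show g (α * β) (Multiplicative.toAdd (mk0 z)) = g α (g β (Multiplicative.toAdd (mk0 z)))
    rw [e2, e1, e3]; rfl

end Rep

end RH3
namespace RH3

section Core
variable {T : Type u} [Group T] [Finite T] {p : ℕ} [hpf : Fact p.Prime]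
variable {E : Subgroup T} {l y w t : T} {ah as' : MulAut E} {lam lam' : ℕ} {hat : MulAut T}

theorem triv_of_rep {V : Type*} [AddCommGroup V] [Module (ZMod p) V] {X : Module.End (ZMod p) V}
    {W0 u s : V} (hR : Rep X W0 u s 1 0 0 1)
    (hspan : ∀ v : V, ∃ a b c : ZMod p, v = a • u + b • s + c • W0) (v : V) :
    ∃ c : ZMod p, X v = v + c • W0 := by
  obtain ⟨h0, ⟨α, hα⟩, ⟨β, hβ⟩⟩ := hR
  obtain ⟨a, b, c, rfl⟩ := hspan v
  refine ⟨a * α + b * β, ?_⟩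
  simp only [map_add, map_smul, hα, hβ, h0]
  module

theorem pow_eigen {V : Type*} [AddCommGroup V] [Module (ZMod p) V] {X : Module.End (ZMod p) V}
    {v : V} {e : ZMod p} (h : X v = e • v) (n : ℕ) : (X ^ n) v = e ^ n • v := by
  induction n with
  | zero => simp
  | succ n ih =>
    rw [pow_succ, Module.End.mul_apply, h, map_smul, ih, smul_smul, pow_succ']

theorem pow_s {V : Type*} [AddCommGroup V] [Module (ZMod p) V] {X : Module.End (ZMod p) V}
    {W0 s : V} {b : ZMod p} (hW : X W0 = W0) (h : X s = s + b • W0) (n : ℕ) :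
    (X ^ n) s = s + ((n : ZMod p) * b) • W0 := by
  induction n with
  | zero => simp
  | succ n ih =>
    rw [pow_succ', Module.End.mul_apply, ih, map_add, map_smul, h, hW]
    push_cast
    module

theorem move2 {σ Z : MulAut T} {τ₀ x : T} (hp1 : 1 ≤ p) (hσp : σ ^ p = MulAut.conj τ₀) (ν : ℕ)
    (hZ : σ ^ ((p - 1) * ν) * Z = MulAut.conj x) : ∃ τ' : T, Z = σ ^ ν * MulAut.conj τ' := by
  have e : (p - 1) * ν + ν = p * ν := by
    obtain ⟨q, rfl⟩ : ∃ q, p = q + 1 := ⟨p - 1, by omega⟩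
    simp only [Nat.add_sub_cancel]; ring
  have e1 : σ ^ ((p - 1) * ν) * σ ^ ν = MulAut.conj (τ₀ ^ ν) := by
    rw [← pow_add, e, pow_mul, hσp, map_pow]
  refine ⟨(τ₀ ^ ν)⁻¹ * x, ?_⟩
  rw [map_mul, map_inv, ← e1, ← hZ]
  group

/-- The vector-space level of RH3: `L` a representation of `MulAut T` on `V = T/Φ(T)`. -/
theorem core {V : Type u} [AddCommGroup V] [Module (ZMod p) V] [Finite V]
    (h : Tv p E l y w t ah as' lam lam' hat) (hp : 5 ≤ p) (hT : IsPGroup p T)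
    (AA PP : Subgroup (MulAut T)) (hhat : hat ∈ AA) (hPP : PP ≤ AA)
    (hsyl : ∃ R : Sylow p AA, (R : Subgroup AA) = PP.subgroupOf AA)
    (hfix : ∀ π ∈ PP, E.map (π : MulAut T).toMonoidHom = E → ∃ τ : T, π = MulAut.conj τ)
    (hPPw : ∀ π ∈ PP, π w * w⁻¹ ∈ frattini T)
    (σ : MulAut T) (hσPP : σ ∈ PP) (hσ : E.map σ.toMonoidHom ≠ E) {τ₀ : T} (hσp : σ ^ p = MulAut.conj τ₀)
    (hii : ∀ (k : ℕ) (τ : T), hat * σ * hat⁻¹ ≠ σ ^ k * MulAut.conj τ)
    (mk0 : T →* Multiplicative V) (hsurj : Function.Surjective mk0) (hker : mk0.ker = frattini T)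
    (L : MulAut T →* Module.End (ZMod p) V)
    (hL : ∀ (α : MulAut T) (z : T), L α (Multiplicative.toAdd (mk0 z)) = Multiplicative.toAdd (mk0 (α z))) :
    ∃ (ρ₀ ρ₁ : MulAut T) (τ' u s : T) (r : ℕ), ρ₀ = ρ₁ ^ p ∧ ρ₀ ∈ AA ∧ ρ₁ ∈ AA ∧
      ρ₀ * σ * ρ₀⁻¹ = σ ^ (lam ^ 2) * MulAut.conj τ' ∧
      ρ₁ w * w⁻¹ ∈ frattini T ∧
      -- `u, s, w` is a basis of `T/Φ(T)`
      (∀ z : T, ∃ a b d : ℕ, z * (u ^ a * s ^ b * w ^ d)⁻¹ ∈ frattini T) ∧
      (∀ a b d : ℕ, u ^ a * s ^ b * w ^ d ∈ frattini T → p ∣ a ∧ p ∣ b ∧ p ∣ d) ∧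
      -- normal form of `σ`
      (∃ d : ℕ, σ u * (u * s)⁻¹ * (w ^ d)⁻¹ ∈ frattini T) ∧ σ s * s⁻¹ ∈ frattini T ∧
      -- eigenvalues of `ρ₁`
      ρ₁ u * (u ^ r)⁻¹ ∈ frattini T ∧ ρ₁ s * (s ^ lam)⁻¹ ∈ frattini T ∧ r * lam ≡ 1 [MOD p] := by
  classical
  have hpp : p.Prime := hpf.out
  have hfe := h.frattini_eq hp hT
  have hFrE : frattini T ≤ E := by
    rw [hfe]; exact sup_le (Subgroup.zpowers_le.2 h.hl) (frat_le E)
  have hFrΦ : Frat E ≤ frattini T := by rw [hfe]; exact le_sup_right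
  have hlΦ : l ∈ frattini T := by
    rw [hfe]; exact (le_sup_left : _ ≤ Subgroup.zpowers l ⊔ Frat E) (Subgroup.mem_zpowers l)
  let mk : T → V := fun z => Multiplicative.toAdd (mk0 z)
  have hmk_mul : ∀ a b, mk (a * b) = mk a + mk b := fun a b => by
    show Multiplicative.toAdd (mk0 (a * b)) = _
    rw [map_mul]; rfl
  have hmk_one : mk 1 = 0 := by
    show Multiplicative.toAdd (mk0 1) = _
    rw [map_one]; rfl
  have hmk_inv : ∀ a, mk a⁻¹ = - mk a := fun a => by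
    show Multiplicative.toAdd (mk0 a⁻¹) = _
    rw [map_inv]; rfl
  have hmk_pow : ∀ (a : T) (n : ℕ), mk (a ^ n) = (n : ZMod p) • mk a := fun a n => by
    rw [Nat.cast_smul_eq_nsmul]
    show Multiplicative.toAdd (mk0 (a ^ n)) = _
    rw [map_pow]; rfl
  have hmk0 : ∀ z, mk z = 0 ↔ z ∈ frattini T := fun z => by
    rw [← hker, MonoidHom.mem_ker]; rfl
  have hmks : ∀ v : V, ∃ z : T, mk z = v := fun v => by
    obtain ⟨z, hz⟩ := hsurj (Multiplicative.ofAdd v)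
    exact ⟨z, by show Multiplicative.toAdd (mk0 z) = v; rw [hz]; rfl⟩
  have hLm : ∀ α z, L α (mk z) = mk (α z) := hL
  have hmkval : ∀ (a : T) (c : ZMod p), mk (a ^ c.val) = c • mk a := fun a c => by
    rw [hmk_pow, ZMod.natCast_zmod_val]
  -- independence and span
  haveI hEn : E.Normal := TvAux.E_normal hT h.idx
  haveI hNn : (Frat E).Normal := TvAux.frat_normal hEn
  let q : T →* T ⧸ Frat E := QuotientGroup.mk' (Frat E)
  have hq1 : ∀ z, q z = 1 ↔ z ∈ Frat E := fun z => QuotientGroup.eq_one_iff z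
  have hqcen : ∀ z, q z * q l = q l * q z := by
    intro z
    have h1 := (hq1 _).2 (h.central hp hT z).1
    rw [map_commutatorElement] at h1
    exact (commutatorElement_eq_one_iff_commute.1 h1).symm.eq
  have hqcenΦ : ∀ φ ∈ frattini T, ∀ z : T, Commute (q φ) (q z) := by
    intro φ hφ z
    rw [hfe, ← SetLike.mem_coe, Subgroup.mul_normal, Set.mem_mul] at hφ
    obtain ⟨g, hg, f, hf, rfl⟩ := hφ
    obtain ⟨i, rfl⟩ := Subgroup.mem_zpowers_iff.1 hg
    rw [map_mul, (hq1 f).2 hf, mul_one, map_zpow]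
    exact Commute.zpow_left (show Commute (q l) (q z) from (hqcen z).symm) i
  have hind3 : ∀ a b c : ZMod p, a • mk y + b • mk t + c • mk w = 0 → a = 0 ∧ b = 0 ∧ c = 0 := by
    intro a b c habc
    have h1 : y ^ a.val * t ^ b.val * w ^ c.val ∈ frattini T := by
      rw [← hmk0, hmk_mul, hmk_mul, hmkval, hmkval, hmkval]; exact habc
    have h1' := h1
    rw [hfe, ← SetLike.mem_coe, Subgroup.mul_normal, Set.mem_mul] at h1'
    obtain ⟨g, hg, f, hf, hgf⟩ := h1'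
    have hg' : g⁻¹ ∈ Submonoid.powers l := by
      rw [mem_powers_iff_mem_zpowers]; exact Subgroup.inv_mem _ hg
    obtain ⟨n, hn⟩ := hg'
    have hI : y ^ a.val * t ^ b.val * l ^ n * w ^ c.val ∈ Frat E := by
      rw [← hq1]
      have e1 : q (y ^ a.val * t ^ b.val * w ^ c.val) = q g * q f := by rw [← map_mul, hgf]
      rw [(hq1 f).2 hf, mul_one] at e1
      have hn' : l ^ n = g⁻¹ := hn
      have e3 : q (l ^ n) = (q g)⁻¹ := by rw [hn', map_inv]
      have hc := hqcenΦ (l ^ n) (Subgroup.pow_mem _ hlΦ n) (w ^ c.val)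
      rw [map_mul, map_mul, mul_assoc, hc.eq, ← mul_assoc, ← map_mul, e1, e3, mul_inv_cancel]
    obtain ⟨h₁, h₂, -, h₄⟩ := h.ind hp hT _ _ _ _ hI
    refine ⟨?_, ?_, ?_⟩
    · rw [← ZMod.natCast_zmod_val a]; exact (ZMod.natCast_eq_zero_iff _ _).2 h₁
    · rw [← ZMod.natCast_zmod_val b]; exact (ZMod.natCast_eq_zero_iff _ _).2 h₂
    · rw [← ZMod.natCast_zmod_val c]; exact (ZMod.natCast_eq_zero_iff _ _).2 h₄
  have hspan3 : ∀ v : V, ∃ a b c : ZMod p, v = a • mk y + b • mk t + c • mk w := by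
    intro v
    obtain ⟨z, rfl⟩ := hmks v
    obtain ⟨a, b, c, d, hz⟩ := h.gen hp hT z
    have h1 := (hmk0 _).2 (hFrΦ hz)
    simp only [hmk_mul, hmk_inv, hmk_pow, (hmk0 l).2 hlΦ, smul_zero, add_zero] at h1
    refine ⟨a, b, d, ?_⟩
    have h2 := eq_neg_of_add_eq_zero_left h1
    rw [neg_neg] at h2
    exact h2
  have h3 : Module.finrank (ZMod p) V = 3 := by
    haveI : Module.Finite (ZMod p) V := Module.Finite.of_finite
    have hli : LinearIndependent (ZMod p) ![mk y, mk t, mk w] := by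
      rw [Fintype.linearIndependent_iff]
      intro g hg i
      have := hind3 (g 0) (g 1) (g 2) (by simpa [Fin.sum_univ_three] using hg)
      fin_cases i
      · exact this.1
      · exact this.2.1
      · exact this.2.2
    have hsp : ⊤ ≤ Submodule.span (ZMod p) (Set.range ![mk y, mk t, mk w]) := by
      intro v _
      obtain ⟨a, b, c, rfl⟩ := hspan3 v
      have hm : ∀ i : Fin 3, ![mk y, mk t, mk w] i ∈ Submodule.span (ZMod p) (Set.range ![mk y, mk t, mk w]) :=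
        fun i => Submodule.subset_span ⟨i, rfl⟩
      exact Submodule.add_mem _ (Submodule.add_mem _ (Submodule.smul_mem _ a (hm 0))
        (Submodule.smul_mem _ b (hm 1))) (Submodule.smul_mem _ c (hm 2))
    have := Module.finrank_eq_card_basis (Module.Basis.mk hli hsp)
    simpa using this
  set W0 := mk w with hW0def
  have hW0 : W0 ≠ 0 := by
    intro h0
    have := hind3 0 0 1 (by simp [← hW0def, h0])
    exact one_ne_zero this.2.2
  set σ' := hat * σ * hat⁻¹ with hσ'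
  have hσAA : σ ∈ AA := hPP hσPP
  have hσ'AA : σ' ∈ AA := AA.mul_mem (AA.mul_mem hhat hσAA) (AA.inv_mem hhat)
  have hLinn : ∀ τ : T, L (MulAut.conj τ) = 1 := by
    intro τ
    apply LinearMap.ext
    intro v
    obtain ⟨z, rfl⟩ := hmks v
    show L (MulAut.conj τ) (mk z) = mk z
    rw [hLm, MulAut.conj_apply, hmk_mul, hmk_mul, hmk_inv]
    abel
  set A := L σ with hA
  set B := L σ' with hB
  have hAp : A ^ p = 1 := by rw [hA, ← map_pow, hσp, hLinn]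
  have hBp : B ^ p = 1 := by
    have e : σ' ^ p = MulAut.conj (hat τ₀) := by
      rw [hσ', conj_pow, hσp, RH3.conj_conj]
    rw [hB, ← map_pow, e, hLinn]
  haveI : Finite V := inferInstance
  have hle3 : Module.finrank (ZMod p) V ≤ 3 := h3.le
  have hA3 : ∀ v, (A - 1) ((A - 1) ((A - 1) v)) = 0 := by
    intro v
    have := LinearMap.congr_fun (ChainAux.cube_zero hle3 A hAp) v
    simpa [pow_succ, Module.End.mul_apply] using this
  have hB3 : ∀ v, (B - 1) ((B - 1) ((B - 1) v)) = 0 := by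
    intro v
    have := LinearMap.congr_fun (ChainAux.cube_zero hle3 B hBp) v
    simpa [pow_succ, Module.End.mul_apply] using this
  have hfixW : ∀ π : MulAut T, π w * w⁻¹ ∈ frattini T → L π W0 = W0 := by
    intro π hπ
    rw [hW0def, hLm]
    have := (hmk0 _).2 hπ
    rw [hmk_mul, hmk_inv] at this
    exact eq_of_sub_eq_zero (by rw [sub_eq_add_neg]; exact this)
  have hfixW' : ∀ π : MulAut T, L π W0 = W0 → π w * w⁻¹ ∈ frattini T := by
    intro π hπ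
    rw [hW0def, hLm] at hπ
    rw [← hmk0, hmk_mul, hmk_inv, hπ, add_neg_cancel]
  have hAw : A W0 = W0 := hfixW σ (hPPw σ hσPP)
  have hhatw : L hat W0 = W0 := by
    apply hfixW
    rw [h.hat_E ⟨w, h.hw⟩]
    exact hFrΦ h.ah_w
  have hhatiw : L hat⁻¹ W0 = W0 := by
    have e : L hat⁻¹ (L hat W0) = W0 := by
      rw [← Module.End.mul_apply, ← map_mul, inv_mul_cancel, map_one]; rfl
    rwa [hhatw] at e
  have hBw : B W0 = W0 := by
    rw [hB, hσ', map_mul, map_mul, Module.End.mul_apply, Module.End.mul_apply, hhatiw, hAw, hhatw]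
  have hnt : ∃ v₀, ∀ c : ZMod p, (A - 1) v₀ ≠ c • W0 := by
    by_contra hcon
    push Not at hcon
    apply hσ
    apply Subgroup.eq_of_le_of_card_ge
    · rintro _ ⟨z, hz, rfl⟩
      obtain ⟨c, hc⟩ := hcon (mk z)
      have e1 : mk (σ z) = mk z + c • W0 := by
        rw [← hLm]
        have : A (mk z) - mk z = c • W0 := hc
        rw [← this]; abel
      have e2 : σ z * (z * w ^ c.val)⁻¹ ∈ frattini T := by
        rw [← hmk0, hmk_mul, hmk_inv, hmk_mul, hmkval, e1]; abel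
      have e3 := E.mul_mem (hFrE e2) (E.mul_mem hz (E.pow_mem h.hw c.val))
      have e4 : σ z = σ z * (z * w ^ c.val)⁻¹ * (z * w ^ c.val) := by group
      show σ z ∈ E
      rw [e4]; exact e3
    · rw [Subgroup.card_map_of_injective σ.injective]
  -- `π ∈ AA` trivial modulo `W0` is inner
  have hHT : ∀ π ∈ AA, L π W0 = W0 → (∀ v, ∃ c : ZMod p, L π v = v + c • W0) →
      ∃ τ, π = MulAut.conj τ := by
    intro π hπ hπW htriv
    refine inner_of_trivial_mod_w hT hFrE h.hw hPP hsyl hfix hPPw hπ (hfixW' π hπW) ?_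
    intro z
    obtain ⟨c, hc⟩ := htriv (mk z)
    rw [hLm] at hc
    have e2 : π z * z⁻¹ * (w ^ c.val)⁻¹ ∈ frattini T := by
      rw [← hmk0, hmk_mul, hmk_mul, hmk_inv, hmk_inv, hmkval, hc]; abel
    have e3 : π z * z⁻¹ = (w ^ c.val) * ((w ^ c.val)⁻¹ * (π z * z⁻¹ * (w ^ c.val)⁻¹) * (w ^ c.val)) := by
      group
    rw [e3]
    exact Subgroup.mul_mem _
      ((le_sup_left : _ ≤ Subgroup.zpowers w ⊔ frattini T) (Subgroup.pow_mem _ (Subgroup.mem_zpowers w) _))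
      ((le_sup_right : _ ≤ Subgroup.zpowers w ⊔ frattini T)
        ((inferInstance : (frattini T).Normal).conj_mem' _ e2 _ |> fun hh => by simpa using hh))
  have hdiff : ∀ s₁, Flag A W0 s₁ → ¬ Flag B W0 s₁ := by
    rintro s₁ ⟨-, ⟨cA, hcA⟩, hallA⟩ ⟨-, ⟨cB, hcB⟩, hallB⟩
    obtain ⟨v₀, hv₀⟩ := hnt
    obtain ⟨a, b, hab⟩ := hallA v₀
    obtain ⟨a', b', hab'⟩ := hallB v₀
    have hNv : (A - 1) v₀ = a • s₁ + b • W0 := by
      rw [LinearMap.sub_apply, hab, Module.End.one_apply]; abel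
    have ha : a ≠ 0 := by
      rintro rfl
      exact hv₀ b (by rw [hNv, zero_smul, zero_add])
    have hs₂' : ∀ c : ZMod p, a • s₁ ≠ c • W0 := by
      intro c hc
      apply hv₀ (c + b)
      rw [hNv, hc]; module
    have hRA : Rep A W0 v₀ (a • s₁) 1 0 1 1 :=
      ⟨hAw, ⟨b, by rw [hab]; module⟩, ⟨a * cA, by rw [map_smul, hcA]; module⟩⟩
    have e : (a' * a⁻¹) • (a • s₁) = a' • s₁ := by
      rw [smul_smul, mul_assoc, inv_mul_cancel₀ ha, mul_one]
    have hRB : Rep B W0 v₀ (a • s₁) 1 0 (a' * a⁻¹) 1 :=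
      ⟨hBw, ⟨b', by rw [hab', one_smul, e]⟩, ⟨a * cB, by rw [map_smul, hcB]; module⟩⟩
    have hind2 : ∀ x y z : ZMod p, x • v₀ + y • (a • s₁) + z • W0 = 0 → x = 0 ∧ y = 0 ∧ z = 0 := by
      intro x y z hxyz
      have h1 := congrArg (fun v => (A - 1) v) hxyz
      have e1 : (A - 1) (a • s₁) = (a * cA) • W0 := by
        rw [LinearMap.sub_apply, map_smul, hcA, Module.End.one_apply]; module
      have e2 : (A - 1) W0 = 0 := by
        rw [LinearMap.sub_apply, hAw, Module.End.one_apply, sub_self]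
      simp only [map_add, map_smul, hNv, e1, e2, smul_zero, add_zero, map_zero] at h1
      have hx := (ind2 hW0 hs₂' (a := x) (c := x * b + y * (a * cA)) (by rw [← h1]; module)).1
      subst hx
      simp only [zero_smul, zero_add] at hxyz
      obtain ⟨hy, hz⟩ := ind2 hW0 hs₂' hxyz
      exact ⟨rfl, hy, hz⟩
    have hsp := span3 h3 hind2
    set ν := (a' * a⁻¹).val with hν
    have hcast : ((((p - 1) * ν : ℕ)) : ZMod p) = -(a' * a⁻¹) := by
      rw [Nat.cast_mul, Nat.cast_sub hpp.one_le, hν, ZMod.natCast_zmod_val]; simp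
    have hRY := ((rep_powA hRA ((p - 1) * ν)).mul hRB).congr (a' := 1) (b' := 0) (c' := 0) (d' := 1)
      (by ring) (by ring) (by rw [hcast]; ring) (by ring)
    have hπAA : σ ^ ((p - 1) * ν) * σ' ∈ AA := AA.mul_mem (AA.pow_mem hσAA _) hσ'AA
    have hLπ : L (σ ^ ((p - 1) * ν) * σ') = A ^ ((p - 1) * ν) * B := by
      rw [map_mul, map_pow]
    obtain ⟨x, hx⟩ := hHT _ hπAA (by rw [hLπ]; exact hRY.1) (by rw [hLπ]; exact triv_of_rep hRY hsp)
    obtain ⟨τ', hτ'⟩ := move2 hpp.one_le hσp ν hx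
    exact hii ν τ' hτ'
  obtain ⟨u₁, s₁, c, f, b, g, h₀, hc, hind1, hAu, hAs, hBu, hBs⟩ :=
    normal_form h3 hW0 A B hA3 hB3 hAw hBw hnt hdiff
  set m : ZMod p := (lam : ZMod p) with hm
  have hmm' : m * (lam' : ZMod p) = 1 := by
    have := (ZMod.natCast_eq_natCast_iff _ _ p).2 h.lamlam
    push_cast at this
    exact this
  have hm0 : m ≠ 0 := left_ne_zero_of_mul_eq_one hmm'
  have hminv : m⁻¹ = (lam' : ZMod p) := (eq_inv_of_mul_eq_one_right hmm').symm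
  have hm2 : m ^ 2 ≠ 1 := by
    intro e
    apply h.lam2
    apply (ZMod.natCast_eq_natCast_iff _ _ p).1
    push_cast
    exact e
  have hm3 : m ^ 3 ≠ 1 := by
    intro e
    apply h.lam3
    apply (ZMod.natCast_eq_natCast_iff _ _ p).1
    push_cast
    exact e
  have hm1 : m ≠ 1 := by
    rintro e
    apply hm2
    rw [e, one_pow]
  have hp' : ((p - 1 : ℕ) : ZMod p) = -1 := by
    rw [Nat.cast_sub hpp.one_le]; simp
  set j₁ := (-m⁻¹ * c⁻¹).val with hj₁d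
  set j₂ := (c⁻¹).val with hj₂d
  have hj₁ : (j₁ : ZMod p) * c = -m⁻¹ := by
    rw [hj₁d, ZMod.natCast_zmod_val, mul_assoc, inv_mul_cancel₀ hc, mul_one]
  have hj₂ : (j₂ : ZMod p) * c = 1 := by
    rw [hj₂d, ZMod.natCast_zmod_val, inv_mul_cancel₀ hc]
  have hRA : Rep A W0 u₁ s₁ 1 0 1 1 := ⟨hAw, ⟨f, by rw [hAu]; module⟩, ⟨b, by rw [hAs]; module⟩⟩
  have hRB : Rep B W0 u₁ s₁ 1 c 0 1 := ⟨hBw, ⟨g, by rw [hBu]; module⟩, ⟨h₀, by rw [hBs]; module⟩⟩
  have hW := rep_word hp' hm0 hRA hRB (m₀ := lam) rfl hj₁ hj₂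
  set R₁ := A ^ lam * B ^ j₁ * A ^ lam * (A ^ (p - 1) * B ^ j₂ * A ^ (p - 1)) with hR₁
  set ρ₁ := σ ^ lam * σ' ^ j₁ * σ ^ lam * (σ ^ (p - 1) * σ' ^ j₂ * σ ^ (p - 1)) with hρ₁
  have hLρ₁ : L ρ₁ = R₁ := by
    simp only [hρ₁, hR₁, map_mul, map_pow, hA, hB]
  obtain ⟨hR0, ⟨α, hα⟩, ⟨β, hβ⟩⟩ := hW
  have hm1' : m⁻¹ - 1 ≠ 0 := by
    intro e
    apply hm1
    have e2 : m⁻¹ = 1 := sub_eq_zero.1 e
    exact inv_eq_one.1 e2
  have hm1'' : m - 1 ≠ 0 := sub_ne_zero.2 hm1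
  obtain ⟨γ₁, eα⟩ : ∃ γ₁, α = γ₁ * (m⁻¹ - 1) := ⟨α * (m⁻¹ - 1)⁻¹, by
    rw [mul_assoc, inv_mul_cancel₀ hm1', mul_one]⟩
  obtain ⟨γ₂, eβ⟩ : ∃ γ₂, β = γ₂ * (m - 1) := ⟨β * (m - 1)⁻¹, by
    rw [mul_assoc, inv_mul_cancel₀ hm1'', mul_one]⟩
  set u' := u₁ + γ₁ • W0 with hu'
  set s' := s₁ + γ₂ • W0 with hs'
  have hR₁u : R₁ u' = m⁻¹ • u' := by
    rw [hu', map_add, map_smul, hα, hR0, eα]; module
  have hR₁s : R₁ s' = m • s' := by
    rw [hs', map_add, map_smul, hβ, hR0, eβ]; module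
  have hAu' : A u' = u' + s' + (f - γ₂) • W0 := by
    rw [hu', hs', map_add, map_smul, hAu, hAw]; module
  have hAs' : A s' = s' + b • W0 := by
    rw [hs', map_add, map_smul, hAs, hAw]; module
  have hind' : ∀ a₁ a₂ a₃ : ZMod p, a₁ • u' + a₂ • s' + a₃ • W0 = 0 → a₁ = 0 ∧ a₂ = 0 ∧ a₃ = 0 := by
    intro a₁ a₂ a₃ hh
    obtain ⟨e1, e2, e3⟩ := hind1 a₁ a₂ (a₁ * γ₁ + a₂ * γ₂ + a₃) (by rw [← hh, hu', hs']; module)
    subst e1 e2
    exact ⟨rfl, rfl, by simpa using e3⟩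
  have hspan' := span3 h3 hind'
  obtain ⟨u, hu⟩ := hmks u'
  obtain ⟨s, hs⟩ := hmks s'
  have hρ₁AA : ρ₁ ∈ AA := by
    rw [hρ₁]
    exact AA.mul_mem (AA.mul_mem (AA.mul_mem (AA.pow_mem hσAA _) (AA.pow_mem hσ'AA _)) (AA.pow_mem hσAA _))
      (AA.mul_mem (AA.mul_mem (AA.pow_mem hσAA _) (AA.pow_mem hσ'AA _)) (AA.pow_mem hσAA _))
  set ρ₀ := ρ₁ ^ p with hρ₀
  have hρ₀AA : ρ₀ ∈ AA := AA.pow_mem hρ₁AA p
  have hLρ₀ : L ρ₀ = R₁ ^ p := by rw [hρ₀, map_pow, hLρ₁]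
  have hR₀u : L ρ₀ u' = m⁻¹ • u' := by
    rw [hLρ₀, pow_eigen hR₁u, ZMod.pow_card]
  have hR₀s : L ρ₀ s' = m • s' := by
    rw [hLρ₀, pow_eigen hR₁s, ZMod.pow_card]
  have hR₀w : L ρ₀ W0 = W0 := by
    rw [hLρ₀, pow_eigen (e := 1) (by rw [hR0, one_smul]), one_pow, one_smul]
  have hinv : ∀ v, L ρ₀⁻¹ (L ρ₀ v) = v := by
    intro v
    rw [← Module.End.mul_apply, ← map_mul, inv_mul_cancel, map_one]; rfl
  have hRiu : L ρ₀⁻¹ u' = m • u' := by
    have := hinv u'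
    rw [hR₀u, map_smul] at this
    conv_rhs => rw [← this]
    rw [smul_smul, mul_inv_cancel₀ hm0, one_smul]
  have hRis : L ρ₀⁻¹ s' = m⁻¹ • s' := by
    have := hinv s'
    rw [hR₀s, map_smul] at this
    conv_rhs => rw [← this]
    rw [smul_smul, inv_mul_cancel₀ hm0, one_smul]
  have hRiw : L ρ₀⁻¹ W0 = W0 := by
    have := hinv W0
    rwa [hR₀w] at this
  have hRA' : Rep A W0 u' s' 1 0 1 1 :=
    ⟨hAw, ⟨f - γ₂, by rw [hAu']; module⟩, ⟨b, by rw [hAs']; module⟩⟩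
  have hRR : Rep (L ρ₀) W0 u' s' m⁻¹ 0 0 m :=
    ⟨hR₀w, ⟨0, by rw [hR₀u]; module⟩, ⟨0, by rw [hR₀s]; module⟩⟩
  have hRI : Rep (L ρ₀⁻¹) W0 u' s' m 0 0 m⁻¹ :=
    ⟨hRiw, ⟨0, by rw [hRiu]; module⟩, ⟨0, by rw [hRis]; module⟩⟩
  have hcast : (((p - 1) * lam ^ 2 : ℕ) : ZMod p) = -(m ^ 2) := by
    rw [Nat.cast_mul, hp']; push_cast; ring
  have hmm : m * m⁻¹ = 1 := mul_inv_cancel₀ hm0
  have hRY := ((rep_powA hRA' ((p - 1) * lam ^ 2)).mul ((hRR.mul hRA').mul hRI)).congr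
    (a' := 1) (b' := 0) (c' := 0) (d' := 1)
    (by field_simp; ring) (by ring) (by rw [hcast]; field_simp; ring) (by field_simp; ring)
  have hπAA : σ ^ ((p - 1) * lam ^ 2) * (ρ₀ * σ * ρ₀⁻¹) ∈ AA :=
    AA.mul_mem (AA.pow_mem hσAA _) (AA.mul_mem (AA.mul_mem hρ₀AA hσAA) (AA.inv_mem hρ₀AA))
  have hLπ : L (σ ^ ((p - 1) * lam ^ 2) * (ρ₀ * σ * ρ₀⁻¹)) =
      A ^ ((p - 1) * lam ^ 2) * (L ρ₀ * A * L ρ₀⁻¹) := by
    simp only [map_mul, map_pow, hA]
  obtain ⟨x, hx⟩ := hHT _ hπAA (by rw [hLπ]; exact hRY.1) (by rw [hLπ]; exact triv_of_rep hRY hspan')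
  obtain ⟨τ', hτ'⟩ := move2 hpp.one_le hσp (lam ^ 2) hx
  have hY1 : A ^ ((p - 1) * lam ^ 2) * (L ρ₀ * A * L ρ₀⁻¹) = 1 := by
    rw [← hLπ, hx, hLinn]
  have hb0 : b = 0 := by
    have e1 : (A ^ ((p - 1) * lam ^ 2)) (L ρ₀ (A (L ρ₀⁻¹ s'))) = s' := LinearMap.congr_fun hY1 s'
    have e2 : L ρ₀ (A (L ρ₀⁻¹ s')) = s' + (m⁻¹ * b) • W0 := by
      rw [hRis, map_smul, hAs', map_smul, map_add, map_smul, hR₀s, hR₀w, smul_add, smul_smul,
        inv_mul_cancel₀ hm0, one_smul, smul_smul]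
    have e3 := pow_s (n := (p - 1) * lam ^ 2) hAw hAs'
    have e4 : (A ^ ((p - 1) * lam ^ 2)) W0 = W0 := by
      rw [pow_eigen (e := 1) (by rw [hAw, one_smul]), one_pow, one_smul]
    rw [e2, map_add, map_smul, e3, e4, hcast] at e1
    have e6 : s' + ((m⁻¹ - m ^ 2) * b) • W0 = s' + (-(m ^ 2) * b) • W0 + (m⁻¹ * b) • W0 := by module
    rw [e1] at e6
    have e5 : ((m⁻¹ - m ^ 2) * b) • W0 = 0 := add_eq_left.1 e6
    have e2' : (m⁻¹ - m ^ 2) * b = 0 := (smul_eq_zero.1 e5).resolve_right hW0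
    have e7 : m⁻¹ - m ^ 2 ≠ 0 := by
      intro e7
      apply hm3
      have e8 : m⁻¹ = m ^ 2 := sub_eq_zero.1 e7
      have e9 : m * m⁻¹ = m * m ^ 2 := by rw [e8]
      rw [hmm] at e9
      rw [pow_succ', e9.symm]
    exact (mul_eq_zero.1 e2').resolve_left e7
  subst hb0
  refine ⟨ρ₀, ρ₁, τ', u, s, lam', rfl, hρ₀AA, hρ₁AA, hτ', ?_, ?_, ?_, ?_, ?_, ?_, ?_, ?_⟩
  · apply hfixW'
    rw [hLρ₁]; exact hR0
  · intro z
    obtain ⟨a₁, a₂, a₃, hz⟩ := hspan' (mk z)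
    refine ⟨a₁.val, a₂.val, a₃.val, ?_⟩
    rw [← hmk0, hmk_mul, hmk_inv, hmk_mul, hmk_mul, hmkval, hmkval, hmkval, hu, hs, hz]
    abel
  · intro a₁ a₂ a₃ hh
    have e1 := (hmk0 _).2 hh
    rw [hmk_mul, hmk_mul, hmk_pow, hmk_pow, hmk_pow, hu, hs] at e1
    obtain ⟨e2, e3, e4⟩ := hind' _ _ _ e1
    exact ⟨(ZMod.natCast_eq_zero_iff _ _).1 e2, (ZMod.natCast_eq_zero_iff _ _).1 e3,
      (ZMod.natCast_eq_zero_iff _ _).1 e4⟩
  · refine ⟨(f - γ₂).val, ?_⟩
    rw [← hmk0, hmk_mul, hmk_mul, hmk_inv, hmk_inv, hmk_mul, hmkval, ← hLm, hu, hs, hAu']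
    abel
  · rw [← hmk0, hmk_mul, hmk_inv, ← hLm, hs, hAs', zero_smul]
    abel
  · rw [← hmk0, hmk_mul, hmk_inv, hmk_pow, ← hLm, hu, hLρ₁, hR₁u, hminv]
    abel
  · rw [← hmk0, hmk_mul, hmk_inv, hmk_pow, ← hLm, hs, hLρ₁, hR₁s]
    abel
  · rw [mul_comm]; exact h.lamlam

end Core
end RH3
end Cfsg.Agent.Lib.S5180
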