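/-
S5180 piece RH3 : case (ii) of `Tv.exists_rho`.
-/
import Cfsg.Agent.Lib.S5180.RH3Core

set_option autoImplicit false
open scoped commutatorElement

namespace Cfsg.Agent.Lib.S5180
universe u

section Final
variable {T : Type u} [Group T] [Finite T] {p : ℕ} [hpf : Fact p.Prime]
variable {E : Subgroup T} {l y w t : T} {ah as' : MulAut E} {lam lam' : ℕ} {hat : MulAut T}

theorem rh3_comm_mul_central {Q : Type*} [Group Q] {a b x y : Q} (hx : ∀ g, Commute x g)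
    (hy : ∀ g, Commute y g) : ⁅a * x, b * y⁆ = ⁅a, b⁆ := by
  rw [commutatorElement_def, commutatorElement_def, mul_inv_rev, mul_inv_rev]
  have e1 : a * x * (b * y) * (x⁻¹ * a⁻¹) = a * (b * y) * a⁻¹ := by
    have := (hx ((b * y))).eq
    calc a * x * (b * y) * (x⁻¹ * a⁻¹) = a * (x * (b * y)) * x⁻¹ * a⁻¹ := by group
      _ = a * ((b * y) * x) * x⁻¹ * a⁻¹ := by rw [this]
      _ = a * (b * y) * a⁻¹ := by group
  rw [e1]
  have e2 : a * (b * y) * a⁻¹ * (y⁻¹ * b⁻¹) = a * b * y * a⁻¹ * y⁻¹ * b⁻¹ := by group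
  rw [e2]
  have e3 : a * b * y * a⁻¹ * y⁻¹ * b⁻¹ = a * b * (y * a⁻¹) * y⁻¹ * b⁻¹ := by group
  rw [e3, (hy a⁻¹).eq]
  group

/-- RH3: case (ii) of `Tv.exists_rho`, with the RH1 outputs as hypotheses. -/
theorem Tv.rho_case_ii (h : Tv p E l y w t ah as' lam lam' hat) (hp : 5 ≤ p) (hT : IsPGroup p T)
    (AA PP : Subgroup (MulAut T)) (hhat : hat ∈ AA) (hPP : PP ≤ AA)
    (hsyl : ∃ R : Sylow p AA, (R : Subgroup AA) = PP.subgroupOf AA)
    (hfix : ∀ π ∈ PP, E.map (π : MulAut T).toMonoidHom = E → ∃ τ : T, π = MulAut.conj τ)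
    (hPPw : ∀ π ∈ PP, π w * w⁻¹ ∈ frattini T)
    (σ : MulAut T) (hσPP : σ ∈ PP) (hσ : E.map σ.toMonoidHom ≠ E) {τ₀ : T} (hσp : σ ^ p = MulAut.conj τ₀)
    (hii : ∀ (k : ℕ) (τ : T), hat * σ * hat⁻¹ ≠ σ ^ k * MulAut.conj τ) :
    ∃ (ρ₀ : MulAut T) (τ' u s : T) (ν el : ℕ), ρ₀ ∈ AA ∧
      ρ₀ * σ * ρ₀⁻¹ = σ ^ ν * MulAut.conj τ' ∧
      (Frat E).map ρ₀.toMonoidHom = Frat E ∧
      (∀ z : T, ⁅⁅u, s⁆, z⁆ ∈ Frat E) ∧
      σ u * (u * s)⁻¹ ∈ Frat E ⊔ (Subgroup.zpowers ⁅u, s⁆ ⊔ Subgroup.zpowers w) ∧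
      σ s * s⁻¹ ∈ Frat E ⊔ Subgroup.zpowers ⁅u, s⁆ ∧ σ w * w⁻¹ ∈ Frat E ⊔ Subgroup.zpowers ⁅u, s⁆ ∧
      (∀ z : T, ∃ a b c d : ℕ, z * (u ^ a * s ^ b * ⁅u, s⁆ ^ c * w ^ d)⁻¹ ∈ Frat E) ∧
      (∀ a b c d : ℕ, u ^ a * s ^ b * ⁅u, s⁆ ^ c * w ^ d ∈ Frat E → p ∣ a ∧ p ∣ b ∧ p ∣ c ∧ p ∣ d) ∧
      ρ₀ ⁅u, s⁆ * (⁅u, s⁆ ^ el)⁻¹ ∈ Frat E ∧ ρ₀ w * w⁻¹ ∈ Frat E ∧
      ¬ ν ≡ el [MOD p] ∧ ¬ ν ≡ 1 [MOD p] := by
  classical
  have hpp : p.Prime := hpf.out
  obtain ⟨V, _, _, mk0, hsurj, hker⟩ := Cfsg.Agent.Lib.PGroup.FrattiniBasis.exists_vector_space (p := p) hT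
  haveI : Finite V := Cfsg.Agent.Lib.PGroup.FrattiniBasis.finite_of_surj hsurj
  obtain ⟨L, hL⟩ := RH3.exists_rep (p := p) mk0 hsurj hker
  obtain ⟨ρ₀, ρ₁, τ', u, s, r, hρ₀, hAA₀, hAA₁, hconj, hρ₁w, hgen, hind, ⟨d, hσu⟩, hσs, hρu, hρs, hr⟩ :=
    RH3.core h hp hT AA PP hhat hPP hsyl hfix hPPw σ hσPP hσ hσp hii mk0 hsurj hker L hL
  have hfe := h.frattini_eq hp hT
  have hFrΦ : Frat E ≤ frattini T := by rw [hfe]; exact le_sup_right
  have hlΦ : l ∈ frattini T := by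
    rw [hfe]; exact (le_sup_left : _ ≤ Subgroup.zpowers l ⊔ Frat E) (Subgroup.mem_zpowers l)
  haveI hEn : E.Normal := TvAux.E_normal hT h.idx
  haveI hNn : (Frat E).Normal := TvAux.frat_normal hEn
  let q : T →* T ⧸ Frat E := QuotientGroup.mk' (Frat E)
  have hqs : Function.Surjective q := QuotientGroup.mk'_surjective _
  have hq1 : ∀ z, q z = 1 ↔ z ∈ Frat E := fun z => QuotientGroup.eq_one_iff z
  have hexp : ∀ z, q z ^ p = 1 := fun z => by
    rw [← map_pow, hq1]; exact h.pow_mem hp hT z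
  have hqcen : ∀ z, Commute (q l) (q z) := by
    intro z
    have h1 := (hq1 _).2 (h.central hp hT z).1
    rw [map_commutatorElement] at h1
    exact commutatorElement_eq_one_iff_commute.1 h1
  have hqcw : ∀ z, Commute (q w) (q z) := by
    intro z
    have h1 := (hq1 _).2 (h.central hp hT z).2
    rw [map_commutatorElement] at h1
    exact commutatorElement_eq_one_iff_commute.1 h1
  have hcenΦ : ∀ φ ∈ frattini T, ∀ g, Commute (q φ) g := by
    intro φ hφ g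
    obtain ⟨z, rfl⟩ := hqs g
    rw [hfe, ← SetLike.mem_coe, Subgroup.mul_normal, Set.mem_mul] at hφ
    obtain ⟨a, ha, f, hf, rfl⟩ := hφ
    obtain ⟨i, rfl⟩ := Subgroup.mem_zpowers_iff.1 ha
    rw [map_mul, (hq1 f).2 hf, mul_one, map_zpow]
    exact Commute.zpow_left (hqcen z) i
  have hcw : ∀ g, Commute (q w) g := by
    intro g
    obtain ⟨z, rfl⟩ := hqs g
    exact hqcw z
  have hΦn : (frattini T).Normal := inferInstance
  set c := ⁅u, s⁆ with hc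
  have hcΦ : c ∈ frattini T := by
    rw [← hker, MonoidHom.mem_ker, hc, map_commutatorElement]
    exact commutatorElement_eq_one_iff_commute.2 (mul_comm _ _)
  have hqcc : ∀ g, Commute (q c) g := hcenΦ c hcΦ
  have hqc_def : q c = ⁅q u, q s⁆ := by rw [hc, map_commutatorElement]
  have hdecomp : ∀ z, ∃ a b d : ℕ, ∃ φ ∈ frattini T, q z = q φ * (q u ^ a * q s ^ b * q w ^ d) := by
    intro z
    obtain ⟨a, b, d, hz⟩ := hgen z
    refine ⟨a, b, d, _, hz, ?_⟩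
    rw [← map_pow, ← map_pow, ← map_pow, ← map_mul, ← map_mul, ← map_mul]
    congr 1
    group
  -- `c ∉ Φ(E)`
  have hcnot : c ∉ Frat E := by
    intro hcF
    have huscomm : Commute (q u) (q s) := by
      have := (hq1 c).2 hcF
      rw [hqc_def] at this
      exact commutatorElement_eq_one_iff_commute.1 this
    have hfrom : ∀ g, Commute g (q u) → Commute g (q s) → ∀ z, Commute g (q z) := by
      intro g h1 h2 z
      obtain ⟨a, b, d, φ, hφ, hz⟩ := hdecomp z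
      rw [hz]
      exact ((hcenΦ φ hφ g).symm).mul_right (((h1.pow_right a).mul_right (h2.pow_right b)).mul_right
        (((hcw g).symm).pow_right d))
    have hu : ∀ z, Commute (q u) (q z) := hfrom _ (Commute.refl _) huscomm
    have hs : ∀ z, Commute (q s) (q z) := hfrom _ huscomm.symm (Commute.refl _)
    have hall : ∀ z₁ z₂, Commute (q z₁) (q z₂) := fun z₁ z₂ =>
      hfrom _ (hu z₁).symm (hs z₁).symm z₂
    have h1 : q ⁅y, t⁆ = 1 := by
      rw [map_commutatorElement]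
      exact commutatorElement_eq_one_iff_commute.2 (hall y t)
    have h2 := (hq1 _).2 h.yt
    rw [map_mul, h1, one_mul, map_inv, inv_eq_one] at h2
    have h3 := (hq1 l).1 h2
    have h4 := (h.ind hp hT 0 0 1 0 (by simpa using h3)).2.2.1
    exact hpp.one_lt.ne' (Nat.dvd_one.1 h4)
  -- `l ≡ c ^ k'`
  obtain ⟨k', hk'⟩ : ∃ k' : ℕ, q l = q c ^ k' := by
    have h1 := hcΦ
    rw [hfe, ← SetLike.mem_coe, Subgroup.mul_normal, Set.mem_mul] at h1
    obtain ⟨a, ha, f, hf, haf⟩ := h1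
    have ha' : a ∈ Submonoid.powers l := by rw [mem_powers_iff_mem_zpowers]; exact ha
    obtain ⟨i₀, hi₀⟩ := ha'
    have hi₀' : l ^ i₀ = a := hi₀
    have e1 : q c = q l ^ i₀ := by
      rw [← haf, map_mul, (hq1 f).2 hf, mul_one, ← hi₀', map_pow]
    have hpi : ¬ p ∣ i₀ := by
      rintro ⟨x, rfl⟩
      apply hcnot
      rw [← hq1, e1, pow_mul, hexp, one_pow]
    have hcop : Nat.Coprime i₀ p := ((Nat.Prime.coprime_iff_not_dvd hpp).2 hpi).symm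
    obtain ⟨m, -, hm⟩ := Nat.exists_mul_mod_eq_one_of_coprime hcop hpp.one_lt
    refine ⟨m, ?_⟩
    rw [e1, ← pow_mul]
    conv_rhs => rw [← Nat.div_add_mod (i₀ * m) p, hm, pow_add, pow_mul, hexp, one_pow, one_mul, pow_one]
  have hlsup : l ∈ Frat E ⊔ Subgroup.zpowers c := by
    have e1 : l * (c ^ k')⁻¹ ∈ Frat E := by
      rw [← hq1, map_mul, map_inv, map_pow, hk', mul_inv_cancel]
    have e2 : l = l * (c ^ k')⁻¹ * c ^ k' := by group
    rw [e2]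
    exact Subgroup.mul_mem _ ((le_sup_left : _ ≤ Frat E ⊔ Subgroup.zpowers c) e1)
      ((le_sup_right : _ ≤ Frat E ⊔ Subgroup.zpowers c) (Subgroup.pow_mem _ (Subgroup.mem_zpowers c) _))
  have hΦle : frattini T ≤ Frat E ⊔ Subgroup.zpowers c := by
    rw [hfe]
    exact sup_le (Subgroup.zpowers_le.2 hlsup) le_sup_left
  have hΦc : ∀ φ ∈ frattini T, ∃ i : ℕ, q φ = q c ^ i := by
    intro φ hφ
    have h1 := hΦle hφ
    rw [← SetLike.mem_coe, Subgroup.normal_mul, Set.mem_mul] at h1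
    obtain ⟨f, hf, a, ha, rfl⟩ := h1
    have ha' : a ∈ Submonoid.powers c := by rw [mem_powers_iff_mem_zpowers]; exact ha
    obtain ⟨i, hi⟩ := ha'
    have hi' : c ^ i = a := hi
    exact ⟨i, by rw [map_mul, (hq1 f).2 hf, one_mul, ← hi', map_pow]⟩
  -- action of `ρ₁`
  have hFρ₁ := h.frat_map_eq hp hT ρ₁ hρ₁w
  have hρ₁Fr : ∀ f ∈ Frat E, ρ₁ f ∈ Frat E := by
    intro f hf
    rw [← hFρ₁]
    exact ⟨f, hf, rfl⟩
  have hρ₁c : q (ρ₁ c) = q c := by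
    have e0 : q (ρ₁ c) = ⁅q (ρ₁ u), q (ρ₁ s)⁆ := by rw [hc, map_commutatorElement, map_commutatorElement]
    have e1 : q (ρ₁ u) = q u ^ r * q (ρ₁ u * (u ^ r)⁻¹) := by
      rw [← (hcenΦ _ hρu (q u ^ r)).eq, map_mul, map_inv, map_pow]; group
    have e2 : q (ρ₁ s) = q s ^ lam * q (ρ₁ s * (s ^ lam)⁻¹) := by
      rw [← (hcenΦ _ hρs (q s ^ lam)).eq, map_mul, map_inv, map_pow]; group
    rw [e0, e1, e2, rh3_comm_mul_central (hcenΦ _ hρu) (hcenΦ _ hρs),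
      RH3.comm_pow (by rw [← hqc_def]; exact hqcc), ← hqc_def]
    have hmod : r * lam % p = 1 := by
      have := hr
      unfold Nat.ModEq at this
      rwa [Nat.mod_eq_of_lt hpp.one_lt] at this
    conv_lhs => rw [← Nat.div_add_mod (r * lam) p, hmod, pow_add, pow_mul, hexp, one_pow, one_mul, pow_one]
  have hρ₁Φ : ∀ φ ∈ frattini T, q (ρ₁ φ) = q φ := by
    intro φ hφ
    have h1 := hΦle hφ
    rw [← SetLike.mem_coe, Subgroup.normal_mul, Set.mem_mul] at h1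
    obtain ⟨f, hf, a, ha, rfl⟩ := h1
    have ha' : a ∈ Submonoid.powers c := by rw [mem_powers_iff_mem_zpowers]; exact ha
    obtain ⟨i, hi⟩ := ha'
    have hi' : c ^ i = a := hi
    rw [map_mul, map_mul, map_mul, (hq1 f).2 hf, (hq1 _).2 (hρ₁Fr f hf), ← hi', map_pow, map_pow, map_pow, hρ₁c]
  have hΦchar : ∀ (α : MulAut T), ∀ φ ∈ frattini T, α φ ∈ frattini T := by
    intro α φ hφ
    have hch : (frattini T).Characteristic := inferInstance
    have := (Subgroup.characteristic_iff_map_eq.1 hch) α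
    rw [← this]
    exact ⟨φ, hφ, rfl⟩
  have hiter : ∀ φ ∈ frattini T, ∀ n : ℕ, q ((ρ₁ ^ n) φ) = q φ := by
    intro φ hφ n
    induction n with
    | zero => simp
    | succ n ih =>
      rw [pow_succ', MulAut.mul_apply, hρ₁Φ _ (hΦchar _ φ hφ), ih]
  have hρ₀c : q (ρ₀ c) = q c := by rw [hρ₀]; exact hiter c hcΦ p
  set φw := ρ₁ w * w⁻¹ with hφw
  have hiterw : ∀ n : ℕ, q ((ρ₁ ^ n) w) = q w * q φw ^ n := by
    intro n
    induction n with
    | zero => simp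
    | succ n ih =>
      have e1 : ρ₁ w = φw * w := by rw [hφw]; group
      rw [pow_succ, MulAut.mul_apply, e1, map_mul, map_mul, hiter _ hρ₁w, ih]
      have := (hcenΦ _ hρ₁w (q w)).eq
      rw [← mul_assoc, this, mul_assoc, pow_succ']
  have hρ₀w : q (ρ₀ w) = q w := by
    rw [hρ₀, hiterw, ← map_pow, (hq1 _).2 (h.pow_mem hp hT φw), mul_one]
  have hρ₀wF : ρ₀ w * w⁻¹ ∈ Frat E := by
    rw [← hq1, map_mul, map_inv, hρ₀w, mul_inv_cancel]
  refine ⟨ρ₀, τ', u, s, lam ^ 2, 1, hAA₀, hconj, h.frat_map_eq hp hT ρ₀ (hFrΦ hρ₀wF), ?_, ?_, ?_, ?_, ?_, ?_, ?_,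
    hρ₀wF, h.lam2, h.lam2⟩
  · intro z
    rw [← hq1, map_commutatorElement]
    exact commutatorElement_eq_one_iff_commute.2 (hqcc _)
  · have e2 : σ u * (u * s)⁻¹ = σ u * (u * s)⁻¹ * (w ^ d)⁻¹ * w ^ d := by group
    rw [e2, ← sup_assoc]
    exact Subgroup.mul_mem _ ((le_sup_left : _ ≤ (Frat E ⊔ Subgroup.zpowers c) ⊔ Subgroup.zpowers w) (hΦle hσu))
      ((le_sup_right : _ ≤ (Frat E ⊔ Subgroup.zpowers c) ⊔ Subgroup.zpowers w)
        (Subgroup.pow_mem _ (Subgroup.mem_zpowers w) _))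
  · exact hΦle hσs
  · exact hΦle (hPPw σ hσPP)
  · intro z
    obtain ⟨a, b, d', hz⟩ := hgen z
    obtain ⟨i, hi⟩ := hΦc _ hz
    refine ⟨a, b, i, d', ?_⟩
    rw [← hq1, map_mul, map_inv, mul_inv_eq_one]
    have e1 : q z = q (z * (u ^ a * s ^ b * w ^ d')⁻¹) * q (u ^ a * s ^ b * w ^ d') := by
      rw [← map_mul]; congr 1; group
    rw [e1, hi, map_mul, map_mul, map_mul, map_mul, map_pow]
    rw [← mul_assoc, ((hqcc _).pow_left i).eq]
    simp only [map_mul, map_pow]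
    rfl
  · intro a b i d' hx
    have e0 : q u ^ a * q s ^ b * q c ^ i * q w ^ d' = 1 := by
      have := (hq1 _).2 hx
      simpa only [map_mul, map_pow] using this
    have hx2 : u ^ a * s ^ b * w ^ d' ∈ frattini T := by
      have e1 : u ^ a * s ^ b * w ^ d' =
          (u ^ a * s ^ b * c ^ i * w ^ d') * ((w ^ d')⁻¹ * (c ^ i)⁻¹ * (w ^ d')) := by group
      rw [e1]
      refine Subgroup.mul_mem _ (hFrΦ hx) ?_
      have := hΦn.conj_mem (c ^ i)⁻¹ (Subgroup.inv_mem _ (Subgroup.pow_mem _ hcΦ i)) (w ^ d')⁻¹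
      simpa using this
    obtain ⟨ha, hb, hd⟩ := hind a b d' hx2
    refine ⟨ha, hb, ?_, hd⟩
    have e1 : q u ^ a = 1 := by obtain ⟨x, rfl⟩ := ha; rw [pow_mul, hexp, one_pow]
    have e2 : q s ^ b = 1 := by obtain ⟨x, rfl⟩ := hb; rw [pow_mul, hexp, one_pow]
    have e3 : q w ^ d' = 1 := by obtain ⟨x, rfl⟩ := hd; rw [pow_mul, hexp, one_pow]
    rw [e1, e2, e3, one_mul, one_mul, mul_one] at e0
    by_contra hpi
    have hmem : q c ∈ (⊥ : Subgroup (T ⧸ Frat E)) :=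
      fi_mem_of_pow hpp (hexp c) (by rw [e0]; exact Subgroup.one_mem _) hpi
    exact hcnot ((hq1 c).1 hmem)
  · rw [← hq1, map_mul, map_inv, hρ₀c, pow_one, mul_inv_cancel]

end Final

end Cfsg.Agent.Lib.S5180
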