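import Mathlib
import Cfsg.Prelude.Def_FusionSystem
import Cfsg.Agent.Lib.S5180.Defs
import Cfsg.Agent.Lib.S5180.Basic
import Cfsg.Agent.Lib.S5180.TvBasic
import Cfsg.Agent.Lib.PGroup.Basic

set_option autoImplicit false
open scoped commutatorElement
open Cfsg

namespace Cfsg.Agent.Lib.S5180
universe u

section Pure
variable {T : Type u} [Group T] [Finite T] {p : ℕ} [hpF : Fact p.Prime]

section Tv
variable {E : Subgroup T} {l y w t : T} {ah as' : MulAut E} {lam lam' : ℕ} {hat : MulAut T}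

/-- A new basis of `T/Φ(T)` containing `w`: everything transfers to `T/Φ(E)`. -/
theorem Tv.new_basis_gen (h : Tv p E l y w t ah as' lam lam' hat) (hp : 5 ≤ p) (hT : IsPGroup p T)
    (u s : T) (hspan : ∀ z, ∃ a b d : ℕ, z * (u ^ a * s ^ b * w ^ d)⁻¹ ∈ frattini T) :
    (∀ z, ⁅⁅u, s⁆, z⁆ ∈ Frat E) ∧
    (∀ z, ∃ a b c d : ℕ, z * (u ^ a * s ^ b * ⁅u, s⁆ ^ c * w ^ d)⁻¹ ∈ Frat E) ∧
    (∀ a b c d : ℕ, u ^ a * s ^ b * ⁅u, s⁆ ^ c * w ^ d ∈ Frat E → p ∣ a ∧ p ∣ b ∧ p ∣ c ∧ p ∣ d) ∧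
    frattini T ≤ Frat E ⊔ Subgroup.zpowers ⁅u, s⁆ := by
  classical
  have hpp : p.Prime := hpF.out
  haveI : NeZero p := ⟨hpp.ne_zero⟩
  haveI hEn : E.Normal := TvAux.E_normal hT h.idx
  haveI hFn : (Frat E).Normal := TvAux.frat_normal hEn
  have hFe := h.frattini_eq hp hT
  have hFratΦ : Frat E ≤ frattini T := by rw [hFe]; exact le_sup_right
  have hlΦ : l ∈ frattini T := by
    rw [hFe]; exact Subgroup.mem_sup_left (Subgroup.mem_zpowers l)
  -- the quotient `T/Φ(E)`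
  let q : T → T ⧸ Frat E := fun z => (z : T ⧸ Frat E)
  have hq1 : ∀ z, q z = 1 ↔ z ∈ Frat E := fun z => QuotientGroup.eq_one_iff z
  have hqmul : ∀ a b, q (a * b) = q a * q b := fun _ _ => rfl
  have hqinv : ∀ a, q a⁻¹ = (q a)⁻¹ := fun _ => rfl
  have hqpow : ∀ (a : T) (n : ℕ), q (a ^ n) = q a ^ n := fun _ _ => rfl
  have hqcomm : ∀ a b, q ⁅a, b⁆ = ⁅q a, q b⁆ := fun _ _ => rfl
  have hqsurj : ∀ g, ∃ z, q z = g := QuotientGroup.mk_surjective
  have hqexp : ∀ z, q z ^ p = 1 := by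
    intro z
    rw [← hqpow, hq1]
    exact h.pow_mem hp hT z
  have hqlc : ∀ g, Commute (q l) g := by
    intro g
    obtain ⟨z, rfl⟩ := hqsurj g
    have h3 := (hq1 _).mpr (h.central hp hT z).1
    rw [hqcomm, commutatorElement_eq_one_iff_mul_comm] at h3
    exact h3
  have hqwc : ∀ g, Commute (q w) g := by
    intro g
    obtain ⟨z, rfl⟩ := hqsurj g
    have h3 := (hq1 _).mpr (h.central hp hT z).2
    rw [hqcomm, commutatorElement_eq_one_iff_mul_comm] at h3
    exact h3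
  -- elements of `Φ(T)` are powers of `l` mod `Φ(E)`
  have hΦl : ∀ x ∈ frattini T, ∃ n : ℕ, q x = q l ^ n := by
    intro x hx
    rw [hFe, Subgroup.mem_sup_of_normal_right] at hx
    obtain ⟨a, ha, f, hf, rfl⟩ := hx
    obtain ⟨n, rfl⟩ : ∃ n : ℕ, l ^ n = a := (mem_powers_iff_mem_zpowers (x := l) (y := a)).mpr ha
    exact ⟨n, by rw [hqmul, (hq1 f).mpr hf, mul_one, hqpow]⟩
  -- commutator of `u, s`
  have hcmΦ : ⁅u, s⁆ ∈ frattini T := Cfsg.Agent.Lib.PGroup.Basic.commutatorElement_mem_frattini hT u s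
  obtain ⟨k, hk⟩ := hΦl _ hcmΦ
  have hckc : ∀ g, Commute (q ⁅u, s⁆) g := by
    intro g
    rw [hk]
    exact (hqlc g).pow_left k
  -- `p ∤ k`
  have hpk : ¬ p ∣ k := by
    intro hd
    obtain ⟨r, rfl⟩ := hd
    have hlp : q l ^ p = 1 := hqexp l
    have hc1 : q ⁅u, s⁆ = 1 := by rw [hk, pow_mul, hlp, one_pow]
    have hus : Commute (q u) (q s) := by
      rw [hqcomm, commutatorElement_eq_one_iff_mul_comm] at hc1
      exact hc1
    -- every element of `T/Φ(E)` is `u^a s^b w^d l^n`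
    have hform : ∀ z, ∃ (a b d n : ℕ), q z = q u ^ a * q s ^ b * q w ^ d * q l ^ n := by
      intro z
      obtain ⟨a, b, d, hz⟩ := hspan z
      obtain ⟨n, hn⟩ := hΦl _ hz
      refine ⟨a, b, d, n, ?_⟩
      rw [hqmul, hqinv, hqmul, hqmul, hqpow, hqpow, hqpow] at hn
      have e : q z = q l ^ n * (q u ^ a * q s ^ b * q w ^ d) := by
        rw [← hn]
        group
      rw [e, ((hqlc _).pow_left n).eq]
    have hab : ∀ z₁ z₂, Commute (q z₁) (q z₂) := by
      intro z₁ z₂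
      obtain ⟨a, b, d, n, e1⟩ := hform z₁
      obtain ⟨a', b', d', n', e2⟩ := hform z₂
      rw [e1, e2]
      have hlpw : ∀ (n : ℕ) g, Commute (q l ^ n) g := fun n g => (hqlc g).pow_left n
      have hwpw : ∀ (n : ℕ) g, Commute (q w ^ n) g := fun n g => (hqwc g).pow_left n
      refine Commute.mul_left (Commute.mul_left (Commute.mul_left ?_ ?_) (hwpw _ _)) (hlpw _ _)
      · refine Commute.mul_right (Commute.mul_right (Commute.mul_right ?_ ?_) ?_) ?_
        · exact (Commute.refl (q u)).pow_pow a a'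
        · exact hus.pow_pow a b'
        · exact (hwpw _ _).symm
        · exact (hlpw _ _).symm
      · refine Commute.mul_right (Commute.mul_right (Commute.mul_right ?_ ?_) ?_) ?_
        · exact (hus.pow_pow a' b).symm
        · exact (Commute.refl (q s)).pow_pow b b'
        · exact (hwpw _ _).symm
        · exact (hlpw _ _).symm
    have h1 : q ⁅y, t⁆ = 1 := by
      rw [hqcomm, commutatorElement_eq_one_iff_mul_comm]
      exact hab y t
    have h2 : q l = 1 := by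
      have h3 := (hq1 _).mpr h.yt
      rw [hqmul, h1, one_mul, hqinv, inv_eq_one] at h3
      exact h3
    have := (h.indep 1 0 0 (by rw [← hq1]; simpa [hqmul, hqpow] using h2)).1
    exact hpp.one_lt.ne' (Nat.dvd_one.mp this)
  -- inverse of `k`
  obtain ⟨k', hk'⟩ : ∃ k' : ℕ, (k * k') % p = 1 := by
    have hco : Nat.Coprime k p := ((Nat.Prime.coprime_iff_not_dvd hpp).mpr hpk).symm
    obtain ⟨m, hm⟩ := Nat.exists_mul_mod_eq_one_of_coprime hco hpp.one_lt
    exact ⟨m, hm.2⟩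
  have hlpow : q l = q ⁅u, s⁆ ^ k' := by
    rw [hk, ← pow_mul, pow_eq_pow_mod _ (hqexp l), hk', pow_one]
  have hsup : frattini T ≤ Frat E ⊔ Subgroup.zpowers ⁅u, s⁆ := by
    rw [hFe]
    refine sup_le ?_ le_sup_left
    rw [Subgroup.zpowers_le]
    have h1 : l * (⁅u, s⁆ ^ k')⁻¹ ∈ Frat E := by
      rw [← hq1, hqmul, hqinv, hqpow, ← hlpow, mul_inv_cancel]
    have e : l = (l * (⁅u, s⁆ ^ k')⁻¹) * ⁅u, s⁆ ^ k' := by group
    rw [e]
    exact Subgroup.mul_mem _ (Subgroup.mem_sup_left h1)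
      (Subgroup.mem_sup_right (Subgroup.pow_mem _ (Subgroup.mem_zpowers _) _))
  -- independence of `u, s, w` modulo `Φ(T)`
  have hcm : ∀ a b : T ⧸ frattini T, a * b = b * a := by
    intro a b
    obtain ⟨a, rfl⟩ := QuotientGroup.mk_surjective a
    obtain ⟨b, rfl⟩ := QuotientGroup.mk_surjective b
    have h1 : ⁅a, b⁆ ∈ frattini T :=
      Cfsg.Agent.Lib.PGroup.Basic.commutatorElement_mem_frattini hT a b
    have h2 : ((⁅a, b⁆ : T) : T ⧸ frattini T) = 1 := (QuotientGroup.eq_one_iff _).mpr h1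
    rw [commutatorElement_def, QuotientGroup.mk_mul, QuotientGroup.mk_mul, QuotientGroup.mk_mul,
      QuotientGroup.mk_inv, QuotientGroup.mk_inv] at h2
    exact mul_inv_eq_one.mp (by
      rw [← h2]; group)
  have hex : ∀ a : T ⧸ frattini T, a ^ p = 1 := by
    intro a
    obtain ⟨a, rfl⟩ := QuotientGroup.mk_surjective a
    rw [← QuotientGroup.mk_pow]
    exact (QuotientGroup.eq_one_iff _).mpr (Cfsg.Agent.Lib.PGroup.Basic.pow_mem_frattini hT a)
  letI cg : CommGroup (T ⧸ frattini T) := { (inferInstance : Group (T ⧸ frattini T)) with mul_comm := hcm }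
  let V := Additive (T ⧸ frattini T)
  have hexpV : ∀ a : V, p • a = 0 := fun a => by
    show Additive.ofMul ((Additive.toMul a) ^ p) = 0
    rw [hex]; rfl
  letI hmod : Module (ZMod p) V := AddCommGroup.zmodModule (n := p) hexpV
  let m : T → V := fun z => Additive.ofMul (QuotientGroup.mk z)
  have hmmul : ∀ a b, m (a * b) = m a + m b := fun _ _ => rfl
  have hminv : ∀ a, m a⁻¹ = - m a := fun _ => rfl
  have hmpow : ∀ (a : T) (n : ℕ), m (a ^ n) = (n : ZMod p) • m a := by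
    intro a n
    rw [Nat.cast_smul_eq_nsmul]
    rfl
  have hm0 : ∀ a, m a = 0 ↔ a ∈ frattini T := fun a => QuotientGroup.eq_one_iff a
  have hmsurj : ∀ v : V, ∃ z, m z = v := fun v => QuotientGroup.mk_surjective (Additive.toMul v)
  have hmeq : ∀ a b, a * b⁻¹ ∈ frattini T → m a = m b := by
    intro a b hab
    have := (hm0 _).mpr hab
    rw [hmmul, hminv] at this
    exact sub_eq_zero.mp (by rw [sub_eq_add_neg]; exact this)
  have hml : m l = 0 := (hm0 l).mpr hlΦ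
  have hgen : ∀ v : V, ∃ i j k : ZMod p, v = i • m y + j • m t + k • m w := by
    intro v
    obtain ⟨z, rfl⟩ := hmsurj v
    obtain ⟨a, b, c, d, hz⟩ := h.gen hp hT z
    refine ⟨a, b, d, ?_⟩
    rw [hmeq _ _ (hFratΦ hz), hmmul, hmmul, hmmul, hmpow, hmpow, hmpow, hmpow, hml, smul_zero,
      add_zero]
  have hind : ∀ i j k : ZMod p, i • m y + j • m t + k • m w = 0 → i = 0 ∧ j = 0 ∧ k = 0 := by
    intro i j k hijk
    obtain ⟨a, rfl⟩ : ∃ a : ℕ, (a : ZMod p) = i := ⟨i.val, ZMod.natCast_zmod_val i⟩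
    obtain ⟨b, rfl⟩ : ∃ a : ℕ, (a : ZMod p) = j := ⟨j.val, ZMod.natCast_zmod_val j⟩
    obtain ⟨d, rfl⟩ : ∃ a : ℕ, (a : ZMod p) = k := ⟨k.val, ZMod.natCast_zmod_val k⟩
    have h1 : y ^ a * t ^ b * w ^ d ∈ frattini T := by
      rw [← hm0, hmmul, hmmul, hmpow, hmpow, hmpow]
      exact hijk
    obtain ⟨n, hn⟩ := hΦl _ h1
    have hmem : y ^ a * t ^ b * l ^ (n * (p - 1)) * w ^ d ∈ Frat E := by
      rw [← hq1]
      simp only [hqmul, hqpow] at hn ⊢
      rw [mul_assoc (_ * _), ((hqlc _).pow_left _).eq, ← mul_assoc (_ * _), hn, ← pow_add]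
      have : n + n * (p - 1) = n * p := by
        obtain ⟨r, hr⟩ : ∃ r, p = r + 1 := ⟨p - 1, by have := hpp.pos; omega⟩
        rw [hr]
        simp only [Nat.add_sub_cancel]
        ring
      rw [this, mul_comm, pow_mul, hqexp l, one_pow]
    obtain ⟨h1', h2', -, h4'⟩ := h.ind hp hT _ _ _ _ hmem
    exact ⟨(ZMod.natCast_eq_zero_iff _ _).mpr h1', (ZMod.natCast_eq_zero_iff _ _).mpr h2',
      (ZMod.natCast_eq_zero_iff _ _).mpr h4'⟩
  -- the two coordinate maps
  let g : ZMod p × ZMod p × ZMod p → V := fun x => x.1 • m y + x.2.1 • m t + x.2.2 • m w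
  let f : ZMod p × ZMod p × ZMod p → V := fun x => x.1 • m u + x.2.1 • m s + x.2.2 • m w
  have hgb : Function.Bijective g := by
    constructor
    · intro x x' hxx
      have h1 : (x.1 - x'.1) • m y + (x.2.1 - x'.2.1) • m t + (x.2.2 - x'.2.2) • m w = 0 := by
        have e : (x.1 - x'.1) • m y + (x.2.1 - x'.2.1) • m t + (x.2.2 - x'.2.2) • m w = g x - g x' := by
          show _ = (x.1 • m y + x.2.1 • m t + x.2.2 • m w) - (x'.1 • m y + x'.2.1 • m t + x'.2.2 • m w)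
          module
        rw [e, hxx, sub_self]
      obtain ⟨e1, e2, e3⟩ := hind _ _ _ h1
      exact Prod.ext (sub_eq_zero.mp e1) (Prod.ext (sub_eq_zero.mp e2) (sub_eq_zero.mp e3))
    · intro v
      obtain ⟨i, j, k, hv⟩ := hgen v
      exact ⟨(i, j, k), hv.symm⟩
  have hfs : Function.Surjective f := by
    intro v
    obtain ⟨z, rfl⟩ := hmsurj v
    obtain ⟨a, b, d, hz⟩ := hspan z
    refine ⟨((a : ZMod p), (b : ZMod p), (d : ZMod p)), ?_⟩
    show (a : ZMod p) • m u + (b : ZMod p) • m s + (d : ZMod p) • m w = m z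
    rw [hmeq _ _ hz, hmmul, hmmul, hmpow, hmpow, hmpow]
  have hfi : Function.Injective f :=
    (Finite.injective_iff_surjective_of_equiv (Equiv.ofBijective g hgb)).mpr hfs
  have hindu : ∀ a b d : ℕ, u ^ a * s ^ b * w ^ d ∈ frattini T → p ∣ a ∧ p ∣ b ∧ p ∣ d := by
    intro a b d hz
    have h1 : f ((a : ZMod p), (b : ZMod p), (d : ZMod p)) = f (0, 0, 0) := by
      show (a : ZMod p) • m u + (b : ZMod p) • m s + (d : ZMod p) • m w = (0 : ZMod p) • m u + (0 : ZMod p) • m s + (0 : ZMod p) • m w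
      have := (hm0 _).mpr hz
      rw [hmmul, hmmul, hmpow, hmpow, hmpow] at this
      rw [this]
      simp
    have h2 := hfi h1
    have e1 : (a : ZMod p) = 0 := congrArg Prod.fst h2
    have e2 : (b : ZMod p) = 0 := congrArg (fun x => x.2.1) h2
    have e3 : (d : ZMod p) = 0 := congrArg (fun x => x.2.2) h2
    exact ⟨(ZMod.natCast_eq_zero_iff _ _).mp e1, (ZMod.natCast_eq_zero_iff _ _).mp e2,
      (ZMod.natCast_eq_zero_iff _ _).mp e3⟩
  have hqdvd : ∀ (x : T) (n : ℕ), p ∣ n → q x ^ n = 1 := by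
    rintro x _ ⟨r, rfl⟩
    rw [pow_mul, hqexp, one_pow]
  refine ⟨?_, ?_, ?_, hsup⟩
  · intro z
    rw [← hq1, hqcomm, commutatorElement_eq_one_iff_mul_comm]
    exact hckc _
  · intro z
    obtain ⟨a, b, d, hz⟩ := hspan z
    obtain ⟨n, hn⟩ := hΦl _ hz
    refine ⟨a, b, k' * n, d, ?_⟩
    rw [← hq1, hqmul, hqinv, hqmul, hqmul, hqmul, hqpow, hqpow, hqpow, hqpow, mul_inv_eq_one]
    rw [hqmul, hqinv, hqmul, hqmul, hqpow, hqpow, hqpow, mul_inv_eq_iff_eq_mul, hlpow, ← pow_mul] at hn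
    rw [hn, ((hckc _).pow_left _).eq, mul_assoc, mul_assoc (q u ^ a * q s ^ b) (q ⁅u, s⁆ ^ (k' * n)),
      ((hckc (q w ^ d)).pow_left (k' * n)).eq]
  · intro a b c d hz
    have hzΦ : u ^ a * s ^ b * ⁅u, s⁆ ^ c * w ^ d ∈ frattini T := hFratΦ hz
    have h1 : u ^ a * s ^ b * w ^ d ∈ frattini T := by
      rw [← hm0] at hzΦ ⊢
      rw [hmmul, hmmul, hmmul, hmpow, hmpow, hmpow, hmpow, (hm0 _).mpr hcmΦ, smul_zero,
        add_zero] at hzΦ
      rw [hmmul, hmmul, hmpow, hmpow, hmpow]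
      exact hzΦ
    obtain ⟨ha, hb, hd⟩ := hindu a b d h1
    have h2 := (hq1 _).mpr hz
    rw [hqmul, hqmul, hqmul, hqpow, hqpow, hqpow, hqpow, hqdvd u a ha, hqdvd s b hb, hqdvd w d hd,
      one_mul, one_mul, mul_one, hk, ← pow_mul] at h2
    have h3 : l ^ (k * c) ∈ Frat E := by
      rw [← hq1, hqpow]
      exact h2
    have h4 := (h.indep (k * c) 0 0 (by simpa using h3)).1
    exact ⟨ha, hb, (hpp.dvd_mul.mp h4).resolve_left hpk, hd⟩

end Tv
end Pure
end Cfsg.Agent.Lib.S5180
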