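import Mathlib
import Cfsg.Prelude.Def_FusionSystem
import Cfsg.Agent.Lib.S5180.Defs
import Cfsg.Agent.Lib.S5180.Basic
import Cfsg.Agent.Lib.S5180.TvBasic
import Cfsg.Agent.Lib.S5180.RhoCo

set_option autoImplicit false
open scoped commutatorElement
open Cfsg

namespace Cfsg.Agent.Lib.S5180
universe u

section Pure
variable {T : Type u} [Group T] [Finite T] {p : ℕ} [hpF : Fact p.Prime]

section Tv
variable {E : Subgroup T} {l y w t : T} {ah as' : MulAut E} {lam lam' : ℕ} {hat : MulAut T}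

/-- The commutator form on `T/Φ(E)` in coordinates. -/
theorem Tv.comm_form (h : Tv p E l y w t ah as' lam lam' hat) (hp : 5 ≤ p) (hT : IsPGroup p T)
    {c : T → Fin 3 → ZMod p} (hc : RhoCo.Co p y t w c) (z₁ z₂ : T) (n : ℕ)
    (hn : (n : ZMod p) = c z₁ 0 * c z₂ 1 - c z₁ 1 * c z₂ 0) :
    ⁅z₁, z₂⁆ * (l ^ n)⁻¹ ∈ Frat E := by
  classical
  have hpp : p.Prime := hpF.out
  haveI hEn : E.Normal := TvAux.E_normal hT h.idx
  haveI hFn : (Frat E).Normal := TvAux.frat_normal hEn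
  have hFe := h.frattini_eq hp hT
  have hFratΦ : Frat E ≤ frattini T := by rw [hFe]; exact le_sup_right
  have hlΦ : l ∈ frattini T := by
    rw [hFe]; exact Subgroup.mem_sup_left (Subgroup.mem_zpowers l)
  have S := TvAux.sys_of h hp hT
  let q : T → T ⧸ Frat E := fun z => (z : T ⧸ Frat E)
  have hq1 : ∀ z, q z = 1 ↔ z ∈ Frat E := fun z => QuotientGroup.eq_one_iff z
  have hqmul : ∀ a b, q (a * b) = q a * q b := fun _ _ => rfl
  have hqinv : ∀ a, q a⁻¹ = (q a)⁻¹ := fun _ => rfl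
  have hqpow : ∀ (a : T) (n : ℕ), q (a ^ n) = q a ^ n := fun _ _ => rfl
  have hqcomm : ∀ a b, q ⁅a, b⁆ = ⁅q a, q b⁆ := fun _ _ => rfl
  -- coordinates in `T/Φ(E)`
  have hcl : c l = 0 := (hc.ker l).mpr hlΦ
  have hform : ∀ z, ∃ a b e d : ℕ, q z = q y ^ a * q t ^ b * (q l ^ e * q w ^ d) ∧
      (a : ZMod p) = c z 0 ∧ (b : ZMod p) = c z 1 := by
    intro z
    obtain ⟨a, b, e, d, hz⟩ := h.gen hp hT z
    refine ⟨a, b, e, d, ?_, ?_, ?_⟩
    · have h1 := (hq1 _).mpr hz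
      rw [hqmul, hqinv, mul_inv_eq_one] at h1
      rw [h1]
      simp only [hqmul, hqpow, mul_assoc]
    · have h1 := hc.eq_of (hFratΦ hz)
      rw [h1, hc.mul, hc.mul, hc.mul, hc.pow, hc.pow, hc.pow, hc.pow, hcl, hc.g0, hc.g1, hc.g2]
      simp
    · have h1 := hc.eq_of (hFratΦ hz)
      rw [h1, hc.mul, hc.mul, hc.mul, hc.pow, hc.pow, hc.pow, hc.pow, hcl, hc.g0, hc.g1, hc.g2]
      simp
  obtain ⟨a, b, e, d, hz₁, ha, hb⟩ := hform z₁
  obtain ⟨a', b', e', d', hz₂, ha', hb'⟩ := hform z₂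
  have hZ : ∀ (e d : ℕ) g, Commute (q l ^ e * q w ^ d) g := fun e d g =>
    Commute.mul_left ((S.hLc g).pow_left e) ((S.hWc g).pow_left d)
  set X := q t with hX
  set Y := q y with hY
  set L := q l with hL
  have hYX : ∀ c k : ℕ, Y ^ c * X ^ k = L ^ (c * k) * X ^ k * Y ^ c := fun c k => S.Y_pow_X_pow c k
  -- the key identity
  have hLc : ∀ (k : ℕ) g, Commute (L ^ k) g := fun k g => (S.hLc g).pow_left k
  have hkey : ∀ a b a' b' : ℕ, L ^ (a' * b) * (Y ^ a * X ^ b * (Y ^ a' * X ^ b')) =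
      Y ^ (a + a') * X ^ (b + b') := by
    intro a b a' b'
    have e1 := hYX a' b
    calc L ^ (a' * b) * (Y ^ a * X ^ b * (Y ^ a' * X ^ b'))
        = (L ^ (a' * b) * Y ^ a) * X ^ b * (Y ^ a' * X ^ b') := by simp only [mul_assoc]
      _ = (Y ^ a * L ^ (a' * b)) * X ^ b * (Y ^ a' * X ^ b') := by rw [(hLc _ (Y ^ a)).eq]
      _ = Y ^ a * (L ^ (a' * b) * X ^ b * Y ^ a') * X ^ b' := by simp only [mul_assoc]
      _ = Y ^ a * (Y ^ a' * X ^ b) * X ^ b' := by rw [← e1]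
      _ = Y ^ (a + a') * X ^ (b + b') := by rw [pow_add, pow_add]; simp only [mul_assoc]
  have hAB := hkey a b a' b'
  have hBA := hkey a' b' a b
  rw [add_comm a' a, add_comm b' b] at hBA
  set A := Y ^ a * X ^ b with hA
  set B := Y ^ a' * X ^ b' with hB
  have hZ1 := hZ e d
  have hZ2 := hZ e' d'
  set Z₁ := L ^ e * q w ^ d with hZ₁
  set Z₂ := L ^ e' * q w ^ d' with hZ₂
  have hC : q ⁅z₁, z₂⁆ = A * B * (B * A)⁻¹ := by
    rw [hqcomm, commutatorElement_def, hz₁, hz₂]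
    have e1 : A * Z₁ * (B * Z₂) = A * B * (Z₁ * Z₂) := by
      calc A * Z₁ * (B * Z₂) = A * (Z₁ * B) * Z₂ := by simp only [mul_assoc]
        _ = A * (B * Z₁) * Z₂ := by rw [(hZ1 B).eq]
        _ = A * B * (Z₁ * Z₂) := by simp only [mul_assoc]
    have e2 : B * Z₂ * (A * Z₁) = B * A * (Z₁ * Z₂) := by
      calc B * Z₂ * (A * Z₁) = B * (Z₂ * A) * Z₁ := by simp only [mul_assoc]
        _ = B * (A * Z₂) * Z₁ := by rw [(hZ2 A).eq]
        _ = B * A * (Z₂ * Z₁) := by simp only [mul_assoc]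
        _ = B * A * (Z₁ * Z₂) := by rw [(hZ2 Z₁).eq]
    have e3 : (A * Z₁) * (B * Z₂) * (A * Z₁)⁻¹ * (B * Z₂)⁻¹ =
        ((A * Z₁) * (B * Z₂)) * ((B * Z₂) * (A * Z₁))⁻¹ := by group
    rw [e3, e1, e2]
    group
  have hcast : ((n + a' * b : ℕ) : ZMod p) = ((a * b' : ℕ) : ZMod p) := by
    push_cast
    rw [hn, ha, hb, ha', hb']
    ring
  have hmodeq := (ZMod.natCast_eq_natCast_iff _ _ _).mp hcast
  have hLp : L ^ p = 1 := S.hLp
  have hLL : L ^ (n + a' * b) = L ^ (a * b') := by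
    rw [pow_eq_pow_mod _ hLp, hmodeq, ← pow_eq_pow_mod _ hLp]
  have hfin : q ⁅z₁, z₂⁆ = L ^ n := by
    rw [hC]
    have e1 : L ^ (a' * b) * (A * B) = L ^ (a * b') * (B * A) := by rw [hAB, hBA]
    have e2 : A * B * (B * A)⁻¹ = (L ^ (a' * b))⁻¹ * L ^ (a * b') := by
      rw [eq_inv_mul_iff_mul_eq, ← mul_assoc, e1, mul_assoc, mul_inv_cancel, mul_one]
    rw [e2, ← hLL, pow_add, (hLc n _).eq, inv_mul_cancel_left]
  rw [← hq1, hqmul, hqinv, hqpow, hfin, mul_inv_cancel]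

/-- A unipotent action on `⟨l, w⟩` modulo `Φ(E)` is killed by the `p`-th power. -/
theorem Tv.pow_fix_w (h : Tv p E l y w t ah as' lam lam' hat) (hp : 5 ≤ p) (hT : IsPGroup p T)
    (ρ : MulAut T) (hρF : ∀ x ∈ Frat E, ρ x ∈ Frat E) (hρw : ρ w * w⁻¹ ∈ frattini T)
    (hρl : ρ l * l⁻¹ ∈ Frat E) : (ρ ^ p) w * w⁻¹ ∈ Frat E := by
  classical
  have hpp : p.Prime := hpF.out
  haveI hEn : E.Normal := TvAux.E_normal hT h.idx
  haveI hFn : (Frat E).Normal := TvAux.frat_normal hEn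
  have hFe := h.frattini_eq hp hT
  have S := TvAux.sys_of h hp hT
  let q : T → T ⧸ Frat E := fun z => (z : T ⧸ Frat E)
  have hq1 : ∀ z, q z = 1 ↔ z ∈ Frat E := fun z => QuotientGroup.eq_one_iff z
  have hqmul : ∀ a b, q (a * b) = q a * q b := fun _ _ => rfl
  have hqinv : ∀ a, q a⁻¹ = (q a)⁻¹ := fun _ => rfl
  have hqpow : ∀ (a : T) (n : ℕ), q (a ^ n) = q a ^ n := fun _ _ => rfl
  have hle : Frat E ≤ (Frat E).comap ρ.toMonoidHom := fun x hx => hρF x hx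
  let φ : (T ⧸ Frat E) →* (T ⧸ Frat E) := QuotientGroup.map (Frat E) (Frat E) ρ.toMonoidHom hle
  have hφ : ∀ x, q (ρ x) = φ (q x) := fun _ => rfl
  have hφl : φ (q l) = q l := by
    rw [← hφ]
    have := (hq1 _).mpr hρl
    rw [hqmul, hqinv, mul_inv_eq_one] at this
    exact this
  have hw := hρw
  rw [hFe, Subgroup.mem_sup_of_normal_right] at hw
  obtain ⟨x, hx, f, hf, hxf⟩ := hw
  obtain ⟨k, rfl⟩ : ∃ n : ℕ, l ^ n = x := (mem_powers_iff_mem_zpowers (x := l) (y := x)).mpr hx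
  have hφw : φ (q w) = q l ^ k * q w := by
    rw [← hφ]
    have e1 := congrArg q hxf
    rw [hqmul, hqmul, hqinv, (hq1 f).mpr hf, mul_one, hqpow, eq_mul_inv_iff_mul_eq] at e1
    exact e1.symm
  have hit : ∀ n : ℕ, q ((ρ ^ n) w) = q l ^ (n * k) * q w := by
    intro n
    induction n with
    | zero => simp
    | succ n ih =>
      rw [pow_succ']
      show q (ρ ((ρ ^ n) w)) = _
      rw [hφ, ih, map_mul, map_pow, hφl, hφw, ← mul_assoc, ← pow_add]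
      congr 2
      ring
  have hLp : q l ^ p = 1 := S.hLp
  rw [← hq1, hqmul, hqinv, hit, mul_inv_eq_one, pow_mul, hLp, one_pow, one_mul]

end Tv
end Pure
end Cfsg.Agent.Lib.S5180
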