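import Mathlib

set_option autoImplicit false

namespace Cfsg.Agent.Lib.S5180.RH3Word

variable {p : ℕ} [Fact p.Prime]

/-- matrices fixing `e₂` (third basis vector). -/
def Lo (M : Matrix (Fin 3) (Fin 3) (ZMod p)) : Prop := M 0 2 = 0 ∧ M 1 2 = 0 ∧ M 2 2 = 1

/-- top-left block -/
def blk (M : Matrix (Fin 3) (Fin 3) (ZMod p)) : Matrix (Fin 2) (Fin 2) (ZMod p) :=
  !![M 0 0, M 0 1; M 1 0, M 1 1]

theorem Lo.mul {M N : Matrix (Fin 3) (Fin 3) (ZMod p)} (hM : Lo M) (hN : Lo N) : Lo (M * N) := by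
  obtain ⟨a1, a2, a3⟩ := hM
  obtain ⟨b1, b2, b3⟩ := hN
  refine ⟨?_, ?_, ?_⟩ <;> simp [Matrix.mul_apply, Fin.sum_univ_three, a1, a2, a3, b1, b2, b3]

theorem blk_mul {M N : Matrix (Fin 3) (Fin 3) (ZMod p)} (hM : Lo M) :
    blk (M * N) = blk M * blk N := by
  obtain ⟨a1, a2, a3⟩ := hM
  ext i j
  fin_cases i <;> fin_cases j <;>
    simp [blk, Matrix.mul_apply, Fin.sum_univ_three, Fin.sum_univ_two, a1, a2]

theorem Lo.one : Lo (1 : Matrix (Fin 3) (Fin 3) (ZMod p)) := by
  refine ⟨?_, ?_, ?_⟩ <;> simp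

theorem blk_one : blk (1 : Matrix (Fin 3) (Fin 3) (ZMod p)) = 1 := by
  ext i j
  fin_cases i <;> fin_cases j <;> simp [blk]

theorem Lo.pow {M : Matrix (Fin 3) (Fin 3) (ZMod p)} (hM : Lo M) (n : ℕ) : Lo (M ^ n) := by
  induction n with
  | zero => simpa using Lo.one
  | succ n ih => rw [pow_succ]; exact ih.mul hM

theorem blk_pow {M : Matrix (Fin 3) (Fin 3) (ZMod p)} (hM : Lo M) (n : ℕ) :
    blk (M ^ n) = blk M ^ n := by
  induction n with
  | zero => simp [blk_one]
  | succ n ih => rw [pow_succ, blk_mul (hM.pow n), ih, pow_succ]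

/-- lower elementary -/
theorem lower_pow (n : ℕ) : (!![1, 0; 1, 1] : Matrix (Fin 2) (Fin 2) (ZMod p)) ^ n = !![1, 0; (n : ZMod p), 1] := by
  induction n with
  | zero => ext i j; fin_cases i <;> fin_cases j <;> simp
  | succ n ih =>
    rw [pow_succ, ih]
    ext i j
    fin_cases i <;> fin_cases j <;> simp [Matrix.mul_apply, Fin.sum_univ_two]

theorem upper_pow (e : ZMod p) (n : ℕ) :
    (!![1, e; 0, 1] : Matrix (Fin 2) (Fin 2) (ZMod p)) ^ n = !![1, (n : ZMod p) * e; 0, 1] := by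
  induction n with
  | zero => ext i j; fin_cases i <;> fin_cases j <;> simp
  | succ n ih =>
    rw [pow_succ, ih]
    ext i j
    fin_cases i <;> fin_cases j <;> simp [Matrix.mul_apply, Fin.sum_univ_two]; ring

/-- the word identity in `SL₂`. -/
theorem word_two (m m' : ZMod p) (hm : m * m' = 1) :
    (!![1, m; 0, 1] * !![1, 0; -m', 1] * !![1, m; 0, 1] * !![1, -1; 0, 1] * !![1, 0; 1, 1] * !![1, -1; 0, 1]
      : Matrix (Fin 2) (Fin 2) (ZMod p)) = !![m, 0; 0, m'] := by
  ext i j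
  fin_cases i <;> fin_cases j <;>
    simp [Matrix.mul_apply, Fin.sum_univ_two] <;>
    first
      | ring1
      | linear_combination (-m) * hm
      | linear_combination (m) * hm
      | linear_combination (-m') * hm
      | linear_combination (m') * hm
      | linear_combination hm
      | linear_combination (-1 : ZMod p) * hm
      | linear_combination (m * m') * hm
      | linear_combination (-(m * m')) * hm
      | linear_combination (m ^ 2) * hm
      | linear_combination (-m ^ 2) * hm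
      | (ring_nf; linear_combination (-m) * hm)

/-- the word: natural exponents `A, B, A2` (with `A e = m`, `B = -m'`, `A2 e = -1`). -/
theorem word_blk {S S' : Matrix (Fin 3) (Fin 3) (ZMod p)} (hS : Lo S) (hS' : Lo S') {e m m' : ZMod p}
    (hbS : blk S = !![1, 0; 1, 1]) (hbS' : blk S' = !![1, e; 0, 1]) (hm : m * m' = 1) {A B A2 : ℕ}
    (hA : (A : ZMod p) * e = m) (hB : (B : ZMod p) = -m') (hA2 : (A2 : ZMod p) * e = -1) :
    Lo (S' ^ A * S ^ B * S' ^ A * (S' ^ A2 * S * S' ^ A2)) ∧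
    blk (S' ^ A * S ^ B * S' ^ A * (S' ^ A2 * S * S' ^ A2)) = !![m, 0; 0, m'] := by
  have hL1 := hS'.pow A
  have hL2 := hS.pow B
  have hL3 := hS'.pow A2
  refine ⟨((hL1.mul hL2).mul hL1).mul ((hL3.mul hS).mul hL3), ?_⟩
  rw [blk_mul ((hL1.mul hL2).mul hL1), blk_mul (hL1.mul hL2), blk_mul hL1, blk_mul (hL3.mul hS), blk_mul hL3,
    blk_pow hS', blk_pow hS, blk_pow hS', hbS, hbS', lower_pow, upper_pow, upper_pow, hA, hB, hA2]
  rw [← word_two m m' hm]
  simp only [mul_assoc]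

end Cfsg.Agent.Lib.S5180.RH3Word
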