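/- S5180 piece RH: `Tv.exists_rho`, dispatch of RH1, RH2, RH3. -/
import Mathlib
import Cfsg.Agent.Lib.S5180.RH1
import Cfsg.Agent.Lib.S5180.RH2
import Cfsg.Agent.Lib.S5180.FratInv
import Cfsg.Agent.Lib.S5180.LemmaD

set_option autoImplicit false
open scoped commutatorElement
open Cfsg

namespace Cfsg.Agent.Lib.S5180
universe u

variable {T : Type u} [Group T] [Finite T] {p : ℕ} [Fact p.Prime]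
variable {E : Subgroup T} {l y w t : T} {ah as' : MulAut E} {lam lam' : ℕ} {hat : MulAut T}

theorem Tv.exists_rho_of_case (h : Tv p E l y w t ah as' lam lam' hat) (hp : 5 ≤ p) (hT : IsPGroup p T)
    (hsr : SectionalPRankLE p 3 T) (AA PP : Subgroup (MulAut T)) (hhat : hat ∈ AA) (hPP : PP ≤ AA)
    (hsyl : ∃ R : Sylow p AA, (R : Subgroup AA) = PP.subgroupOf AA) (hinn : ∀ τ : T, MulAut.conj τ ∈ PP)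
    (hfix : ∀ π ∈ PP, E.map (π : MulAut T).toMonoidHom = E → ∃ τ : T, π = MulAut.conj τ)
    (σ : MulAut T) (hσPP : σ ∈ PP) (hσ : E.map σ.toMonoidHom ≠ E)
    {ν : ℕ} {τ' : T} (hhat' : hat * σ * hat⁻¹ = σ ^ ν * MulAut.conj τ') :
    ∃ (ρ₀ : MulAut T) (τ' τ₀ : T) (u s : T) (ν el : ℕ), ρ₀ ∈ AA ∧
      ρ₀ * σ * ρ₀⁻¹ = σ ^ ν * MulAut.conj τ' ∧ σ ^ p = MulAut.conj τ₀ ∧
      (∀ π ∈ PP, ∃ (k : ℕ) (τ : T), π = σ ^ k * MulAut.conj τ) ∧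
      (Frat E).map σ.toMonoidHom = Frat E ∧ (Frat E).map ρ₀.toMonoidHom = Frat E ∧
      (∀ z : T, ⁅⁅u, s⁆, z⁆ ∈ Frat E) ∧
      σ u * (u * s)⁻¹ ∈ Frat E ⊔ (Subgroup.zpowers ⁅u, s⁆ ⊔ Subgroup.zpowers w) ∧
      σ s * s⁻¹ ∈ Frat E ⊔ Subgroup.zpowers ⁅u, s⁆ ∧ σ w * w⁻¹ ∈ Frat E ⊔ Subgroup.zpowers ⁅u, s⁆ ∧
      (∀ z : T, ∃ a b c d : ℕ, z * (u ^ a * s ^ b * ⁅u, s⁆ ^ c * w ^ d)⁻¹ ∈ Frat E) ∧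
      (∀ a b c d : ℕ, u ^ a * s ^ b * ⁅u, s⁆ ^ c * w ^ d ∈ Frat E → p ∣ a ∧ p ∣ b ∧ p ∣ c ∧ p ∣ d) ∧
      ρ₀ ⁅u, s⁆ * (⁅u, s⁆ ^ el)⁻¹ ∈ Frat E ∧ ρ₀ w * w⁻¹ ∈ Frat E ∧
      ¬ ν ≡ el [MOD p] ∧ ¬ ν ≡ 1 [MOD p] := by
  have hPPp := isPGroup_of_sylow hPP hsyl
  obtain ⟨hinnP, hwP, hkP⟩ := h.rh1_core hp hT (h.gen hp hT) (h.frattini_eq hp hT)
    (fun σ hσ => h.lemmaD hp hT hsr σ hσ) PP hPPp hfix σ hσPP hσ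
  obtain ⟨τ₀, hτ₀⟩ := hinnP σ hσPP
  have hσw := hwP σ hσPP
  obtain ⟨u, s, h1, h2, h3, h4, h5, h6, h7, h8, h9, h10, h11⟩ :=
    h.rho_case_i hp hT σ τ₀ τ' ν hσ hτ₀ hσw hhat'
  exact ⟨hat, τ', τ₀, u, s, ν, lam, hhat, hhat', hτ₀, hkP, h.frat_map_eq hp hT σ hσw, h1, h2, h3, h4, h5,
    h6, h7, h8, h9, h10, h11⟩

end Cfsg.Agent.Lib.S5180
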