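import Mathlib

/-! Linear algebra for piece F4 of S5180: two opposite transvections on a 3-space. -/

set_option autoImplicit false

namespace Cfsg.Agent.Lib.S5180.TvLinear

variable {p : ℕ} [hp : Fact p.Prime] {V : Type*} [AddCommGroup V] [Module (ZMod p) V]

/-- If `N M = 0` the group generated by `1 + N`, `1 + M` has exponent `p`. -/
theorem pow_eq_one_of_comp_zero (hp3 : 3 ≤ p) (A B : V ≃ₗ[ZMod p] V) (N M : V →ₗ[ZMod p] V)
    (hA : ∀ v, A v = v + N v) (hB : ∀ v, B v = v + M v) (hNN : ∀ v, N (N v) = 0)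
    (hMM : ∀ v, M (M v) = 0) (hNM : ∀ v, N (M v) = 0) :
    ∀ g ∈ Subgroup.closure ({A, B} : Set (V ≃ₗ[ZMod p] V)), g ^ p = 1 := by
  have hform : ∀ g ∈ Subgroup.closure ({A, B} : Set (V ≃ₗ[ZMod p] V)),
      ∃ x y z : ZMod p, ∀ v, g v = v + x • N v + y • M v + z • M (N v) := by
    intro g hg
    induction hg using Subgroup.closure_induction with
    | mem g hg =>
      rcases hg with rfl | rfl
      · exact ⟨1, 0, 0, fun v => by simp [hA]⟩
      · exact ⟨0, 1, 0, fun v => by simp [hB]⟩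
    | one => exact ⟨0, 0, 0, fun v => by simp⟩
    | mul g g' _ _ h h' =>
      obtain ⟨x, y, z, h⟩ := h
      obtain ⟨x', y', z', h'⟩ := h'
      refine ⟨x + x', y + y', z + z' + y * x', fun v => ?_⟩
      show g (g' v) = _
      rw [h', h]
      simp only [map_add, map_smul, hNN, hMM, hNM, smul_zero, add_zero, smul_add, smul_smul,
        map_zero]
      module
    | inv g _ h =>
      obtain ⟨x, y, z, h⟩ := h
      refine ⟨-x, -y, x * y - z, fun v => ?_⟩
      have h1 : g (v + (-x) • N v + (-y) • M v + (x * y - z) • M (N v)) = v := by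
        rw [h]
        simp only [map_add, map_smul, hNN, hMM, hNM, smul_zero, add_zero, smul_add, smul_smul,
          map_zero]
        module
      have h2 : g⁻¹ v = v + (-x) • N v + (-y) • M v + (x * y - z) • M (N v) := by
        conv_lhs => rw [← h1]
        exact g.symm_apply_apply _
      exact h2
  intro g hg
  obtain ⟨x, y, z, h⟩ := hform g hg
  have hpow : ∀ n : ℕ, ∀ v, (g ^ n) v = v + ((n : ZMod p) * x) • N v + ((n : ZMod p) * y) • M v
      + ((n : ZMod p) * z + ((n.choose 2 : ℕ) : ZMod p) * (x * y)) • M (N v) := by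
    intro n
    induction n with
    | zero => intro v; simp
    | succ n ih =>
      intro v
      rw [pow_succ]
      show (g ^ n) (g v) = _
      rw [h, ih]
      have hc : ((n + 1).choose 2 : ℕ) = n + n.choose 2 := by
        rw [Nat.choose_succ_succ' n 1, Nat.choose_one_right]
      simp only [map_add, map_smul, hNN, hMM, hNM, smul_zero, add_zero, smul_add, smul_smul,
        map_zero, hc]
      push_cast
      module
  have h2 : ((p.choose 2 : ℕ) : ZMod p) = 0 := by
    rw [ZMod.natCast_eq_zero_iff]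
    exact hp.out.dvd_choose_self (by norm_num) (by omega)
  apply LinearEquiv.ext
  intro v
  rw [hpow, h2]
  simp

variable (p) in
/-- Opposite transvections in dimension three. -/
structure Opp (A B : V ≃ₗ[ZMod p] V) (l y w : V) (c : ZMod p) : Prop where
  c_ne : c ≠ 0
  Ay : A y = y - l
  Al : A l = l
  Aw : A w = w
  Bl : B l = l + c • y
  By : B y = y
  Bw : B w = w
  ind : ∀ a b d : ZMod p, a • l + b • y + d • w = 0 → a = 0 ∧ b = 0 ∧ d = 0

theorem exists_opp [Finite V] (hp3 : 3 ≤ p) (h3 : Module.finrank (ZMod p) V = 3)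
    (A B : V ≃ₗ[ZMod p] V) (N M : V →ₗ[ZMod p] V)
    (hA : ∀ v, A v = v + N v) (hB : ∀ v, B v = v + M v) (hNN : ∀ v, N (N v) = 0)
    (hMM : ∀ v, M (M v) = 0) (hN0 : N ≠ 0) (hM0 : M ≠ 0)
    (hnp : ¬ ∀ g ∈ Subgroup.closure ({A, B} : Set (V ≃ₗ[ZMod p] V)), g ^ p = 1) :
    ∃ (l y w : V) (c : ZMod p), Opp p A B l y w c := by
  classical
  haveI : Module.Finite (ZMod p) V := Module.Finite.of_finite
  -- ranks
  have rank_one : ∀ K : V →ₗ[ZMod p] V, (∀ v, K (K v) = 0) → K ≠ 0 →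
      ∃ u : V, u ≠ 0 ∧ (∀ v, ∃ c : ZMod p, K v = c • u) ∧ Module.finrank (ZMod p) (LinearMap.ker K) = 2 := by
    intro K hK hK0
    have h1 := LinearMap.finrank_range_add_finrank_ker K
    have h2 : LinearMap.range K ≤ LinearMap.ker K := by
      rintro _ ⟨v, rfl⟩
      exact hK v
    have h3' := Submodule.finrank_mono h2
    have h4 : Module.finrank (ZMod p) (LinearMap.range K) ≠ 0 := by
      intro h0
      have := Submodule.finrank_eq_zero.1 h0
      exact hK0 (LinearMap.range_eq_bot.1 this)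
    have h5 : Module.finrank (ZMod p) (LinearMap.range K) = 1 := by omega
    have h6 : Module.finrank (ZMod p) (LinearMap.ker K) = 2 := by omega
    obtain ⟨⟨u, hu⟩, hu0, hu1⟩ := finrank_eq_one_iff'.1 h5
    refine ⟨u, fun h => hu0 (Subtype.ext h), fun v => ?_, h6⟩
    obtain ⟨c, hc⟩ := hu1 ⟨K v, ⟨v, rfl⟩⟩
    exact ⟨c, (congrArg Subtype.val hc).symm⟩
  obtain ⟨l0, hl0, hNl0, hkN⟩ := rank_one N hNN hN0
  obtain ⟨y0, hy0, hMy0, hkM⟩ := rank_one M hMM hM0
  -- `M` has `y0` in its image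
  have hy0im : ∃ v1, M v1 ≠ 0 := by
    by_contra hcon
    push Not at hcon
    exact hM0 (LinearMap.ext hcon)
  obtain ⟨v1, hv1⟩ := hy0im
  have hv1n : ∃ v2, N v2 ≠ 0 := by
    by_contra hcon
    push Not at hcon
    exact hN0 (LinearMap.ext hcon)
  obtain ⟨v2, hv2⟩ := hv1n
  -- `N M ≠ 0`
  have hNM : ¬ ∀ v, N (M v) = 0 := fun h =>
    hnp (pow_eq_one_of_comp_zero hp3 A B N M hA hB hNN hMM h)
  have hMN : ¬ ∀ v, M (N v) = 0 := fun h => by
    apply hnp
    intro g hg
    refine pow_eq_one_of_comp_zero hp3 B A M N hB hA hMM hNN h g ?_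
    rwa [Set.pair_comm]
  push Not at hNM hMN
  obtain ⟨v3, hv3⟩ := hNM
  obtain ⟨v4, hv4⟩ := hMN
  let y : V := M v3
  let l : V := - N y
  have hl : l ≠ 0 := fun h => hv3 (neg_eq_zero.1 h)
  have hNy : N y = - l := by simp [l]
  have hNl : N l = 0 := by simp [l, hNN]
  have hMy : M y = 0 := hMM v3
  -- `M l = c y`
  obtain ⟨c1, hc1⟩ := hNl0 y
  have hc10 : c1 ≠ 0 := by
    rintro rfl
    apply hl
    simp [l, hc1]
  have hMl0 : M l0 ≠ 0 := by
    intro h0
    obtain ⟨c, hc⟩ := hNl0 v4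
    apply hv4
    rw [hc, map_smul, h0, smul_zero]
  have hy1 : y ≠ 0 := by
    intro h0
    apply hv3
    show N (M v3) = 0
    have : M v3 = 0 := h0
    rw [this, map_zero]
  -- `M v` is a multiple of `y`
  have hMv : ∀ v, ∃ c : ZMod p, M v = c • y := by
    obtain ⟨c2, hc2⟩ := hMy0 v3
    have hc20 : c2 ≠ 0 := by
      rintro rfl
      apply hy1
      show M v3 = 0
      rw [hc2, zero_smul]
    intro v
    obtain ⟨c, hc⟩ := hMy0 v
    refine ⟨c * c2⁻¹, ?_⟩
    show M v = (c * c2⁻¹) • M v3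
    rw [hc, hc2, smul_smul, mul_assoc, inv_mul_cancel₀ hc20, mul_one]
  have hMl : M l ≠ 0 := by
    have hll0 : l = (-c1) • l0 := by simp [l, hc1]
    rw [hll0, map_smul]
    exact smul_ne_zero (neg_ne_zero.2 hc10) hMl0
  obtain ⟨c, hc⟩ := hMv l
  have hc0 : c ≠ 0 := by
    rintro rfl
    apply hMl
    rw [hc, zero_smul]
  -- the common kernel
  have hinf : (LinearMap.ker N ⊓ LinearMap.ker M) ≠ ⊥ := by
    intro hb
    have h1 := Submodule.finrank_sup_add_finrank_inf_eq (LinearMap.ker N) (LinearMap.ker M)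
    have h2 : Module.finrank (ZMod p) ↥(LinearMap.ker N ⊔ LinearMap.ker M) ≤ 3 := by
      rw [← h3]
      exact Submodule.finrank_le _
    rw [hb, finrank_bot, hkN, hkM] at h1
    omega
  obtain ⟨w, hw, hw0⟩ := Submodule.exists_mem_ne_zero_of_ne_bot hinf
  have hNw : N w = 0 := hw.1
  have hMw : M w = 0 := hw.2
  refine ⟨l, y, w, c, hc0, ?_, ?_, ?_, ?_, ?_, ?_, ?_⟩
  · rw [hA, hNy]; abel
  · rw [hA, hNl, add_zero]
  · rw [hA, hNw, add_zero]
  · rw [hB, hc]
  · rw [hB, hMy, add_zero]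
  · rw [hB, hMw, add_zero]
  · intro a b d h
    have h1 : N (a • l + b • y + d • w) = 0 := by rw [h, map_zero]
    simp only [map_add, map_smul, hNl, hNy, hNw, smul_zero, add_zero, zero_add, smul_neg] at h1
    have hb : b = 0 := by
      by_contra hb
      exact hl (by simpa [hb] using h1)
    have h2 : M (a • l + b • y + d • w) = 0 := by rw [h, map_zero]
    simp only [map_add, map_smul, hc, hMy, hMw, smul_zero, add_zero, smul_smul] at h2
    have ha : a = 0 := by
      by_contra ha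
      exact hy1 ((smul_eq_zero.1 h2).resolve_left (mul_ne_zero ha hc0))
    refine ⟨ha, hb, ?_⟩
    rw [ha, hb, zero_smul, zero_smul, zero_add, zero_add] at h
    exact (smul_eq_zero.1 h).resolve_right hw0

section Words

variable {A B : V ≃ₗ[ZMod p] V} {l y w : V} {c : ZMod p}

theorem Opp.A_pow_y (h : Opp p A B l y w c) (n : ℕ) : (A ^ n) y = y - (n : ZMod p) • l := by
  induction n with
  | zero => simp
  | succ n ih =>
    rw [pow_succ]
    show (A ^ n) (A y) = _
    have hl : (A ^ n) l = l := by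
      clear ih
      induction n with
      | zero => rfl
      | succ n ih =>
        rw [pow_succ]
        show (A ^ n) (A l) = _
        rw [h.Al, ih]
    rw [h.Ay, map_sub, ih, hl]
    push_cast
    module

theorem Opp.A_pow_l (h : Opp p A B l y w c) (n : ℕ) : (A ^ n) l = l := by
  induction n with
  | zero => rfl
  | succ n ih =>
    rw [pow_succ]
    show (A ^ n) (A l) = _
    rw [h.Al, ih]

theorem Opp.A_pow_w (h : Opp p A B l y w c) (n : ℕ) : (A ^ n) w = w := by
  induction n with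
  | zero => rfl
  | succ n ih =>
    rw [pow_succ]
    show (A ^ n) (A w) = _
    rw [h.Aw, ih]

theorem Opp.B_pow_y (h : Opp p A B l y w c) (n : ℕ) : (B ^ n) y = y := by
  induction n with
  | zero => rfl
  | succ n ih =>
    rw [pow_succ]
    show (B ^ n) (B y) = _
    rw [h.By, ih]

theorem Opp.B_pow_w (h : Opp p A B l y w c) (n : ℕ) : (B ^ n) w = w := by
  induction n with
  | zero => rfl
  | succ n ih =>
    rw [pow_succ]
    show (B ^ n) (B w) = _
    rw [h.Bw, ih]

theorem Opp.B_pow_l (h : Opp p A B l y w c) (n : ℕ) : (B ^ n) l = l + ((n : ZMod p) * c) • y := by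
  induction n with
  | zero => simp
  | succ n ih =>
    rw [pow_succ]
    show (B ^ n) (B l) = _
    rw [h.Bl, map_add, map_smul, ih, h.B_pow_y]
    push_cast
    module

/-- The Weyl word `W(τ)`. -/
noncomputable def W (A B : V ≃ₗ[ZMod p] V) (c τ : ZMod p) : V ≃ₗ[ZMod p] V :=
  A ^ (-τ).val * B ^ (-(τ * c)⁻¹).val * A ^ (-τ).val

theorem Opp.W_y (h : Opp p A B l y w c) {τ : ZMod p} (hτ : τ ≠ 0) : W A B c τ y = τ • l := by
  have hc := h.c_ne
  show (A ^ (-τ).val) ((B ^ (-(τ * c)⁻¹).val) ((A ^ (-τ).val) y)) = _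
  have e1 : (((-τ).val : ℕ) : ZMod p) = -τ := ZMod.natCast_zmod_val _
  have e2 : (((-(τ * c)⁻¹).val : ℕ) : ZMod p) = -(τ * c)⁻¹ := ZMod.natCast_zmod_val _
  rw [h.A_pow_y, e1, map_sub, map_smul, h.B_pow_y, h.B_pow_l, e2, map_sub, map_smul, map_add,
    map_smul, h.A_pow_l, h.A_pow_y, e1]
  have e5 : (-(τ * c)⁻¹ * c) = - τ⁻¹ := by field_simp
  rw [e5]
  have e6 : τ * τ⁻¹ = 1 := mul_inv_cancel₀ hτ
  generalize τ⁻¹ = r at e6
  rw [← sub_eq_zero]
  have e7 : y - -τ • l - -τ • (l + -r • (y - -τ • l)) - τ • l = (1 - τ * r) • (y + τ • l) := by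
    module
  rw [e7, e6, sub_self, zero_smul]

theorem Opp.W_l (h : Opp p A B l y w c) {τ : ZMod p} (hτ : τ ≠ 0) : W A B c τ l = (-τ⁻¹) • y := by
  have hc := h.c_ne
  show (A ^ (-τ).val) ((B ^ (-(τ * c)⁻¹).val) ((A ^ (-τ).val) l)) = _
  have e1 : (((-τ).val : ℕ) : ZMod p) = -τ := ZMod.natCast_zmod_val _
  have e2 : (((-(τ * c)⁻¹).val : ℕ) : ZMod p) = -(τ * c)⁻¹ := ZMod.natCast_zmod_val _
  rw [h.A_pow_l, h.B_pow_l, e2, map_add, map_smul, h.A_pow_l, h.A_pow_y, e1]
  have e5 : (-(τ * c)⁻¹ * c) = - τ⁻¹ := by field_simp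
  rw [e5]
  have e6 : τ * τ⁻¹ = 1 := mul_inv_cancel₀ hτ
  generalize τ⁻¹ = r at e6
  rw [← sub_eq_zero]
  have e7 : l + -r • (y - -τ • l) - -r • y = (1 - τ * r) • l := by
    module
  rw [e7, e6, sub_self, zero_smul]

theorem Opp.W_w (h : Opp p A B l y w c) (τ : ZMod p) : W A B c τ w = w := by
  show (A ^ (-τ).val) ((B ^ (-(τ * c)⁻¹).val) ((A ^ (-τ).val) w)) = _
  rw [h.A_pow_w, h.B_pow_w, h.A_pow_w]

/-- Two automorphisms agreeing on the basis agree. -/
theorem Opp.ext [Finite V] (h : Opp p A B l y w c) (h3 : Module.finrank (ZMod p) V = 3)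
    (f g : V ≃ₗ[ZMod p] V) (hl : f l = g l) (hy : f y = g y) (hw : f w = g w) : f = g := by
  classical
  haveI : Module.Finite (ZMod p) V := Module.Finite.of_finite
  have hli : LinearIndependent (ZMod p) ![l, y, w] := by
    rw [Fintype.linearIndependent_iff]
    intro g hg i
    simp only [Fin.sum_univ_three, Matrix.cons_val_zero, Matrix.cons_val_one,
      Matrix.cons_val] at hg
    obtain ⟨a, b, d⟩ := h.ind _ _ _ hg
    fin_cases i
    · exact a
    · exact b
    · exact d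
  have htop := hli.span_eq_top_of_card_eq_finrank' (by simp [h3])
  have hlin : (f : V →ₗ[ZMod p] V) = (g : V →ₗ[ZMod p] V) := by
    apply LinearMap.ext_on_range htop
    intro i
    fin_cases i
    · exact hl
    · exact hy
    · exact hw
  apply LinearEquiv.ext
  intro v
  exact congrArg (fun k : V →ₗ[ZMod p] V => k v) hlin

/-- The torus word. -/
noncomputable def T₀ (A B : V ≃ₗ[ZMod p] V) (c lam : ZMod p) : V ≃ₗ[ZMod p] V :=
  W A B c lam * (W A B c 1)⁻¹

theorem Opp.S_y (h : Opp p A B l y w c) : W A B c 1 y = l := by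
  rw [h.W_y one_ne_zero, one_smul]

theorem Opp.S_l (h : Opp p A B l y w c) : W A B c 1 l = - y := by
  rw [h.W_l one_ne_zero]
  simp

theorem Opp.S_w (h : Opp p A B l y w c) : W A B c 1 w = w := h.W_w 1

theorem Opp.Si_l (h : Opp p A B l y w c) : (W A B c 1)⁻¹ l = y := by
  have : (W A B c 1)⁻¹ (W A B c 1 y) = y := (W A B c 1).symm_apply_apply y
  rwa [h.S_y] at this

theorem Opp.Si_y (h : Opp p A B l y w c) : (W A B c 1)⁻¹ y = - l := by
  have : (W A B c 1)⁻¹ (W A B c 1 l) = l := (W A B c 1).symm_apply_apply l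
  rw [h.S_l, map_neg] at this
  rw [← this, neg_neg]

theorem Opp.Si_w (h : Opp p A B l y w c) : (W A B c 1)⁻¹ w = w := by
  have : (W A B c 1)⁻¹ (W A B c 1 w) = w := (W A B c 1).symm_apply_apply w
  rwa [h.S_w] at this

theorem Opp.T_l (h : Opp p A B l y w c) {lam : ZMod p} (hl : lam ≠ 0) : T₀ A B c lam l = lam • l := by
  show W A B c lam ((W A B c 1)⁻¹ l) = _
  rw [h.Si_l, h.W_y hl]

theorem Opp.T_y (h : Opp p A B l y w c) {lam : ZMod p} (hl : lam ≠ 0) : T₀ A B c lam y = lam⁻¹ • y := by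
  show W A B c lam ((W A B c 1)⁻¹ y) = _
  rw [h.Si_y, map_neg, h.W_l hl]
  simp

theorem Opp.T_w (h : Opp p A B l y w c) (lam : ZMod p) : T₀ A B c lam w = w := by
  show W A B c lam ((W A B c 1)⁻¹ w) = _
  rw [h.Si_w, h.W_w]

/-- The torus word normalizes `⟨A⟩`. -/
theorem Opp.T_comm [Finite V] (h : Opp p A B l y w c) (h3 : Module.finrank (ZMod p) V = 3)
    {lam : ZMod p} (hl : lam ≠ 0) {m : ℕ} (hm : (m : ZMod p) = lam ^ 2) :
    T₀ A B c lam * A = A ^ m * T₀ A B c lam := by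
  apply h.ext h3
  · show T₀ A B c lam (A l) = (A ^ m) (T₀ A B c lam l)
    rw [h.Al, h.T_l hl, map_smul, h.A_pow_l]
  · show T₀ A B c lam (A y) = (A ^ m) (T₀ A B c lam y)
    rw [h.Ay, map_sub, h.T_y hl, h.T_l hl, map_smul, h.A_pow_y, hm]
    have e6 : lam * lam⁻¹ = 1 := mul_inv_cancel₀ hl
    generalize lam⁻¹ = r at e6
    rw [← sub_eq_zero]
    have e7 : r • y - lam • l - r • (y - lam ^ 2 • l) = (lam * r - 1) • (lam • l) := by
      module
    rw [e7, e6, sub_self, zero_smul]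
  · show T₀ A B c lam (A w) = (A ^ m) (T₀ A B c lam w)
    rw [h.Aw, h.T_w, h.A_pow_w]

end Words

end Cfsg.Agent.Lib.S5180.TvLinear
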