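import Mathlib
import Cfsg.Agent.Lib.S5180.Defs
import Cfsg.Agent.Lib.S5180.TvLinear
import Cfsg.Agent.Lib.S5180.ExtendHat
import Cfsg.Agent.Lib.Fusion.Resist.GL
import Cfsg.Agent.Lib.Fusion.AbelianEssential
import Cfsg.Agent.Lib.Fusion.EssentialPair
import Cfsg.Agent.Lib.PGroup.FrattiniBasis

/-! Piece F4 of S5180, core form: the configuration `Tv` on `N_S(E)` when `t` acts as a transvection,
given that `E` has index `p` in `N_S(E)`. -/

set_option autoImplicit false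
set_option maxHeartbeats 2000000

open scoped commutatorElement
open Cfsg Cfsg.FusionSystem Cfsg.Agent.Lib.Fusion.Basic Cfsg.Agent.Lib.Fusion.Resist.GL
  Cfsg.Agent.Lib.PGroup

namespace Cfsg.Agent.Lib.S5180

universe u

namespace TvDataAux

theorem frattini_map_mem {G H : Type*} [Group G] [Group H] (φ : G ≃* H) {x : G}
    (hx : x ∈ frattini G) : φ x ∈ frattini H := by
  rw [FrattiniBasis.mem_frattini_iff] at hx ⊢
  intro M hM
  have h1 : IsCoatom (M.comap φ.toMonoidHom) := by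
    have := (OrderIso.isCoatom_iff (φ.symm.mapSubgroup) M).2 hM
    convert this using 1
    ext y
    simp only [Subgroup.mem_comap, MulEquiv.mapSubgroup_apply, Subgroup.mem_map]
    exact ⟨fun h => ⟨φ y, h, by simp⟩, by rintro ⟨x, hx, rfl⟩; simpa using hx⟩
  exact hx _ h1

theorem mem_Frat_subgroupOf {Ω : Type*} [Group Ω] {E T : Subgroup Ω} (hET : E ≤ T) (z : T) :
    z ∈ Frat (E.subgroupOf T) ↔ ∃ x ∈ frattini E, (x : Ω) = z := by
  let ψ := Subgroup.subgroupOfEquivOfLe hET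
  constructor
  · rintro ⟨w, hw, rfl⟩
    exact ⟨ψ w, frattini_map_mem ψ hw, rfl⟩
  · rintro ⟨x, hx, e⟩
    refine ⟨ψ.symm x, frattini_map_mem ψ.symm hx, ?_⟩
    apply Subtype.ext
    exact e

theorem relIndex_Frat {Ω : Type*} [Group Ω] {E T : Subgroup Ω} (hET : E ≤ T) :
    (Frat (E.subgroupOf T)).relIndex (E.subgroupOf T) = (frattini E).index := by
  let ψ := Subgroup.subgroupOfEquivOfLe hET
  have h1 : (Frat (E.subgroupOf T)).relIndex (E.subgroupOf T) = (frattini (E.subgroupOf T)).index := by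
    unfold Subgroup.relIndex Frat
    have : ((frattini (E.subgroupOf T)).map (E.subgroupOf T).subtype).subgroupOf (E.subgroupOf T)
        = frattini (E.subgroupOf T) := by
      ext x
      simp [Subgroup.mem_subgroupOf]
    rw [this]
  rw [h1]
  have h2 : frattini E = (frattini (E.subgroupOf T)).map ψ.toMonoidHom := by
    ext x
    constructor
    · intro hx
      exact ⟨ψ.symm x, frattini_map_mem ψ.symm hx, by simp⟩
    · rintro ⟨w, hw, rfl⟩
      exact frattini_map_mem ψ hw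
  rw [h2]
  exact (Subgroup.index_map_equiv _ ψ).symm

/-- A generator of the units with the three conditions. -/
theorem exists_lam {p : ℕ} [hp : Fact p.Prime] (hp5 : 5 ≤ p) :
    ∃ z : ZMod p, z ≠ 0 ∧ z ^ 2 ≠ 1 ∧ z ^ 3 ≠ 1 ∧ z ^ 5 ≠ 1 := by
  obtain ⟨g, hg⟩ := IsCyclic.exists_generator (α := (ZMod p)ˣ)
  have hord : orderOf g = p - 1 := by
    rw [orderOf_eq_card_of_forall_mem_zpowers hg, Nat.card_eq_fintype_card, ZMod.card_units]
  have hne : ∀ k, 1 ≤ k → k < p - 1 → (g : ZMod p) ^ k ≠ 1 := by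
    intro k hk hk2 h
    have h1 : g ^ k = 1 := Units.ext (by simpa using h)
    have h2 := orderOf_dvd_of_pow_eq_one h1
    rw [hord] at h2
    exact absurd (Nat.le_of_dvd (by omega) h2) (by omega)
  refine ⟨(g : ZMod p), g.ne_zero, hne 2 (by norm_num) (by omega), hne 3 (by norm_num) (by omega), ?_⟩
  by_cases h6 : p = 5
  · subst h6
    intro h
    have h1 : g ^ 5 = 1 := Units.ext (by simpa using h)
    have h2 := orderOf_dvd_of_pow_eq_one h1
    rw [hord] at h2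
    omega
  · have h7 : p ≠ 6 := by
      rintro rfl
      exact absurd hp.out (by norm_num)
    exact hne 5 (by norm_num) (by omega)

end TvDataAux

open TvDataAux

variable {Ω : Type u} [Group Ω] {S : Subgroup Ω} [Finite S] {p : ℕ} [hp : Fact p.Prime]
  {F : FusionSystem S}

theorem exists_Tv_core (hp5 : 5 ≤ p) (hS : IsPGroup p S) (hF : F.IsSaturated p) {E : Subgroup Ω}
    (hE : F.IsEssential p E) (hrk : (frattini E).index = p ^ 3) {t : Ω}
    (ht : t ∈ S ⊓ Subgroup.normalizer (E : Set Ω)) (htE : t ∉ E)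
    (hJ : ∀ x ∈ E, ⁅⁅x, t⁆, t⁆ ∈ (frattini E).map E.subtype)
    (hidx : (E.subgroupOf (S ⊓ Subgroup.normalizer (E : Set Ω))).index = p) :
    ∃ (l y w : ↥(S ⊓ Subgroup.normalizer (E : Set Ω)))
      (ah as' : MulAut ↥(E.subgroupOf (S ⊓ Subgroup.normalizer (E : Set Ω)))) (lam lam' : ℕ)
      (hat : MulAut ↥(S ⊓ Subgroup.normalizer (E : Set Ω))),
      Tv p (E.subgroupOf (S ⊓ Subgroup.normalizer (E : Set Ω))) l y w ⟨t, ht⟩ ah as' lam lam' hat ∧
      (S ⊓ Subgroup.normalizer (E : Set Ω)).subtype.comp hat.toMonoidHom ∈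
        F.Hom (S ⊓ Subgroup.normalizer (E : Set Ω)) := by
  classical
  have hES : E ≤ S := hE.1.1
  haveI : Finite E := finite_of_le hES
  have hEp : IsPGroup p E := isPGroup_of_le hS hES
  have hET : E ≤ S ⊓ Subgroup.normalizer (E : Set Ω) := fun x hx => ⟨hES hx, Subgroup.le_normalizer hx⟩
  obtain ⟨V, _, _, π, hπ, hker⟩ := FrattiniBasis.exists_vector_space hEp
  haveI : Finite V := FrattiniBasis.finite_of_surj hπ
  have h3 : Module.finrank (ZMod p) V = 3 := FrattiniBasis.finrank_eq hπ hker hrk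
  let Φ := frattGL (p := p) π hπ hker
  let pr : E → V := fun x => Multiplicative.toAdd (π x)
  have pr_mul : ∀ x y, pr (x * y) = pr x + pr y := fun x y => by simp [pr]
  have pr_inv : ∀ x, pr x⁻¹ = - pr x := fun x => by simp [pr]
  have pr_pow : ∀ x (n : ℕ), pr (x ^ n) = (n : ZMod p) • pr x := fun x n => by
    have : pr (x ^ n) = n • pr x := by simp [pr]
    rw [this, Nat.cast_smul_eq_nsmul]
  have pr_zero : ∀ x, pr x = 0 ↔ x ∈ frattini E := fun x => by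
    rw [← hker, MonoidHom.mem_ker]
    exact Multiplicative.toAdd.injective.eq_iff' rfl
  have hsurj : ∀ v, ∃ x, pr x = v := fun v => by
    obtain ⟨x, hx⟩ := hπ (Multiplicative.ofAdd v)
    exact ⟨x, by simp [pr, hx]⟩
  have hΦ : ∀ (α : MulAut E) x, Φ α (pr x) = pr (α x) := fun α x => frattGL_apply π hπ hker α x
  -- automorphisms trivial on `V` are inner
  have hinn : ∀ u ∈ F.autGroup E, Φ u = 1 → ∃ e : E, u = MulAut.conj e := by
    intro u hu hu1
    have hst : ∀ x, x⁻¹ * u x ∈ frattini E := by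
      intro x
      rw [← pr_zero, pr_mul, pr_inv, ← hΦ, hu1]
      simp
    have hI : u ∈ Inn E := by
      refine Cfsg.Agent.Lib.Fusion.AbelianEssential.mem_inn_of_stab (F := F) (p := p)
        (D := fun i => if i = 0 then frattini E else ⊤) (m := 1) hS hE (by simp) (by simp) ?_ hu ?_
      · intro i _ α _ x hx
        by_cases hi : i = 0
        · subst hi
          simp only [if_true] at hx ⊢
          exact (ActionFrattini.char_mem (frattini E) α).2 hx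
        · simp [hi]
      · intro i hi x _
        have : i = 0 := by omega
        subst this
        simpa using hst x
    obtain ⟨e, he⟩ := hI
    exact ⟨e, he.symm⟩
  -- conjugation by `t`
  let a : MulAut E := normConj t ht.2
  have ha : a ∈ autInducedBy S E := normConj_mem_autInducedBy ht.1 ht.2
  have haF : a ∈ F.autGroup E := autInducedBy_le_autGroup hES ha
  have hC : centralizerIn S E ≤ E := hE.1.2 E (Cfsg.Agent.Lib.Fusion.Basic.IsConj.refl hES)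
  have hainn : a ∉ Inn E := by
    rintro ⟨e, he⟩
    have hc : (e : Ω)⁻¹ * t ∈ centralizerIn S E := by
      refine ⟨S.mul_mem (S.inv_mem (hES e.2)) ht.1, Subgroup.mem_centralizer_iff.2 fun x hx => ?_⟩
      have h1 : (e : Ω) * x * (e : Ω)⁻¹ = t * x * t⁻¹ := by
        have := congrArg (fun f : MulAut E => ((f ⟨x, hx⟩ : E) : Ω)) he
        exact this
      have h2 : x = (e : Ω)⁻¹ * (t * x * t⁻¹) * e := by rw [← h1]; group
      calc x * ((e : Ω)⁻¹ * t) = (e : Ω)⁻¹ * (t * x * t⁻¹) * e * ((e : Ω)⁻¹ * t) := by rw [← h2]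
        _ = (e : Ω)⁻¹ * t * x := by group
    have h3 := hC hc
    apply htE
    have h4 : t = (e : Ω) * ((e : Ω)⁻¹ * t) := by group
    rw [h4]
    exact E.mul_mem e.2 h3
  obtain ⟨α, hαF, hα⟩ := Cfsg.Agent.Lib.Fusion.EssentialPair.exists_pair hS hF hE
  let β : MulAut E := α * a * α⁻¹
  have hβF : β ∈ F.autGroup E := (F.autGroup E).mul_mem ((F.autGroup E).mul_mem hαF haF)
    ((F.autGroup E).inv_mem hαF)
  have hnotP := hα a ha a ha hainn hainn
  let A : V ≃ₗ[ZMod p] V := Φ a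
  let B : V ≃ₗ[ZMod p] V := Φ β
  let N : V →ₗ[ZMod p] V := (A : V →ₗ[ZMod p] V) - LinearMap.id
  let M : V →ₗ[ZMod p] V := (B : V →ₗ[ZMod p] V) - LinearMap.id
  have hA : ∀ v, A v = v + N v := fun v => by simp [N]
  have hB : ∀ v, B v = v + M v := fun v => by simp [M]
  have hNv : ∀ x, N (pr x) = pr (a x) - pr x := fun x => by
    show A (pr x) - pr x = _
    rw [show A (pr x) = pr (a x) from hΦ a x]
  have hNN : ∀ v, N (N v) = 0 := by
    intro v
    obtain ⟨x, rfl⟩ := hsurj v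
    have h1 := hJ x.1 x.2
    obtain ⟨f, hf, hfe⟩ := h1
    have hu : ⁅x.1, t⁆ = ((x * (a x)⁻¹ : E) : Ω) := by
      simp [a, commutatorElement_def, mul_assoc]
    have hu2 : ∀ z : E, ⁅z.1, t⁆ = ((z * (a z)⁻¹ : E) : Ω) := by
      intro z
      simp [a, commutatorElement_def, mul_assoc]
    have h2 : f = (x * (a x)⁻¹) * (a (x * (a x)⁻¹))⁻¹ := by
      apply Subtype.ext
      have : (f : Ω) = ⁅⁅x.1, t⁆, t⁆ := hfe
      rw [this, hu, hu2]
    have h3 : pr f = 0 := (pr_zero f).2 hf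
    rw [h2, pr_mul, pr_inv, pr_mul, pr_inv, map_mul, map_inv, pr_mul, pr_inv] at h3
    rw [hNv, map_sub, hNv, hNv]
    rw [← h3]
    abel
  have hBconj : ∀ v, B v = Φ α (A ((Φ α)⁻¹ v)) := fun v => by
    show Φ (α * a * α⁻¹) v = _
    rw [map_mul, map_mul, map_inv]
    rfl
  have hMMv : ∀ v, M v = Φ α (N ((Φ α)⁻¹ v)) := by
    intro v
    show B v - v = _
    rw [hBconj]
    show Φ α (A ((Φ α)⁻¹ v)) - v = Φ α (A ((Φ α)⁻¹ v) - (Φ α)⁻¹ v)
    rw [map_sub]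
    congr 1
    exact ((Φ α).apply_symm_apply v).symm
  have hMM : ∀ v, M (M v) = 0 := by
    intro v
    rw [hMMv, hMMv]
    have : (Φ α)⁻¹ (Φ α (N ((Φ α)⁻¹ v))) = N ((Φ α)⁻¹ v) := (Φ α).symm_apply_apply _
    rw [this, hNN, map_zero]
  have hN0 : N ≠ 0 := by
    intro h0
    have h1 : Φ a = 1 := by
      apply LinearEquiv.ext
      intro v
      show A v = v
      rw [hA, h0]
      simp
    obtain ⟨e, he⟩ := hinn a haF h1
    exact hainn ⟨e, he.symm⟩
  have hM0 : M ≠ 0 := by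
    intro h0
    apply hN0
    apply LinearMap.ext
    intro v
    have h1 := hMMv (Φ α v)
    rw [h0] at h1
    have h2 : (Φ α)⁻¹ (Φ α v) = v := (Φ α).symm_apply_apply v
    rw [h2] at h1
    have h3 : Φ α (N v) = 0 := h1.symm.trans rfl
    exact (map_eq_zero_iff _ (Φ α).injective).1 h3
  have hnp : ¬ ∀ g ∈ Subgroup.closure ({A, B} : Set (V ≃ₗ[ZMod p] V)), g ^ p = 1 := by
    intro hall
    apply hnotP
    rintro ⟨γ, hγ⟩
    have h1 : Φ γ ∈ Subgroup.closure ({A, B} : Set (V ≃ₗ[ZMod p] V)) := by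
      have : Φ γ ∈ (Subgroup.closure ({a, α * a * α⁻¹} : Set (MulAut E))).map Φ := ⟨γ, hγ, rfl⟩
      rw [MonoidHom.map_closure] at this
      convert this using 2
      simp [Set.image_pair, A, B, β]
    have h2 := hall _ h1
    have h3 : γ ^ p ∈ Φ.ker := by
      rw [MonoidHom.mem_ker, map_pow, h2]
    obtain ⟨k, hk⟩ := isPGroup_ker_frattGL hEp π hπ hker ⟨γ ^ p, h3⟩
    refine ⟨k + 1, Subtype.ext ?_⟩
    have h4 := congrArg Subtype.val hk
    simp only [SubmonoidClass.coe_pow, OneMemClass.coe_one] at h4 ⊢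
    rw [pow_succ', pow_mul]
    exact h4
  obtain ⟨l₀, y₀, w₀, c, hO⟩ := TvLinear.exists_opp (by omega) h3 A B N M hA hB hNN hMM hN0 hM0 hnp
  obtain ⟨xl, hxl⟩ := hsurj l₀
  obtain ⟨xy, hxy⟩ := hsurj y₀
  obtain ⟨xw, hxw⟩ := hsurj w₀
  obtain ⟨lamz, hz0, hz2, hz3, hz5⟩ := TvDataAux.exists_lam (p := p) hp5
  let W' : ZMod p → MulAut E := fun τ => a ^ (-τ).val * β ^ (-(τ * c)⁻¹).val * a ^ (-τ).val
  have hW'F : ∀ τ, W' τ ∈ F.autGroup E := fun τ =>
    (F.autGroup E).mul_mem ((F.autGroup E).mul_mem ((F.autGroup E).pow_mem haF _)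
      ((F.autGroup E).pow_mem hβF _)) ((F.autGroup E).pow_mem haF _)
  have hW'Φ : ∀ τ, Φ (W' τ) = TvLinear.W A B c τ := fun τ => by
    simp only [W', map_mul, map_pow, TvLinear.W]
    rfl
  let as₀ : MulAut E := W' 1
  let ah₀ : MulAut E := W' lamz * (W' 1)⁻¹
  have hahF : ah₀ ∈ F.autGroup E :=
    (F.autGroup E).mul_mem (hW'F _) ((F.autGroup E).inv_mem (hW'F _))
  have hahΦ : Φ ah₀ = TvLinear.T₀ A B c lamz := by
    simp only [ah₀, map_mul, map_inv, hW'Φ, TvLinear.T₀]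
  have hasΦ : Φ as₀ = TvLinear.W A B c 1 := hW'Φ 1
  let lam : ℕ := lamz.val
  let lam' : ℕ := (lamz⁻¹).val
  have hlamc : (lam : ZMod p) = lamz := ZMod.natCast_zmod_val lamz
  have hlamc' : (lam' : ZMod p) = lamz⁻¹ := ZMod.natCast_zmod_val _
  have hm : ((lam ^ 2 : ℕ) : ZMod p) = lamz ^ 2 := by
    push_cast
    rw [hlamc]
  have hcomm := hO.T_comm h3 hz0 hm
  let u : MulAut E := ah₀ * a * ah₀⁻¹ * (a ^ (lam ^ 2))⁻¹
  have huF : u ∈ F.autGroup E :=
    (F.autGroup E).mul_mem ((F.autGroup E).mul_mem ((F.autGroup E).mul_mem hahF haF)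
      ((F.autGroup E).inv_mem hahF)) ((F.autGroup E).inv_mem ((F.autGroup E).pow_mem haF _))
  have hu1 : Φ u = 1 := by
    simp only [u, map_mul, map_inv, map_pow, hahΦ]
    show TvLinear.T₀ A B c lamz * A * (TvLinear.T₀ A B c lamz)⁻¹ * (A ^ (lam ^ 2))⁻¹ = 1
    rw [hcomm]
    group
  obtain ⟨e, he⟩ := hinn u huF hu1
  have hrel : ∀ z : E, ah₀ (a z) = (MulAut.conj e) ((a ^ (lam ^ 2)) (ah₀ z)) := by
    intro z
    have h1 : ah₀ * a = MulAut.conj e * a ^ (lam ^ 2) * ah₀ := by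
      rw [← he]
      simp only [u]
      group
    exact congrArg (fun f : MulAut E => f z) h1
  have ha_coe : ∀ z : E, ((a z : E) : Ω) = t * z * t⁻¹ := fun z => rfl
  have ha_pow : ∀ (n : ℕ) (z : E), (((a ^ n) z : E) : Ω) = t ^ n * z * (t ^ n)⁻¹ := by
    intro n
    induction n with
    | zero => intro z; simp
    | succ n ih =>
      intro z
      rw [pow_succ]
      show (((a ^ n) (a z) : E) : Ω) = _
      rw [ih, ha_coe, pow_succ]
      group
  have htn : ∀ n : ℕ, t ^ n ∈ S ⊓ Subgroup.normalizer (E : Set Ω) := fun n => Subgroup.pow_mem _ ht n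
  have hrelc : ∀ z : E, ((ah₀ (a z) : E) : Ω) = (e * t ^ (lam ^ 2)) * (ah₀ z : Ω) * (e * t ^ (lam ^ 2))⁻¹ := by
    intro z
    rw [hrel]
    show (e : Ω) * (((a ^ (lam ^ 2)) (ah₀ z) : E) : Ω) * (e : Ω)⁻¹ = _
    rw [ha_pow]
    group
  have hg₀ : (e : Ω) * t ^ (lam ^ 2) ∈ S ⊓ Subgroup.normalizer (E : Set Ω) :=
    Subgroup.mul_mem _ (hET e.2) (htn _)
  -- the normalizer condition
  have hEnT : (E.subgroupOf (S ⊓ Subgroup.normalizer (E : Set Ω))).Normal :=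
    Subgroup.normal_subgroupOf_of_le_normalizer (fun x hx => hx.2)
  have hdecomp : ∀ g ∈ S ⊓ Subgroup.normalizer (E : Set Ω), ∃ (j : ℕ) (e₀ : E), g = t ^ j * e₀ := by
    intro g hg
    haveI := hEnT
    have hcard : Nat.card (↥(S ⊓ Subgroup.normalizer (E : Set Ω)) ⧸
        E.subgroupOf (S ⊓ Subgroup.normalizer (E : Set Ω))) = p := hidx
    have hne : ((⟨t, ht⟩ : ↥(S ⊓ Subgroup.normalizer (E : Set Ω))) :
        ↥(S ⊓ Subgroup.normalizer (E : Set Ω)) ⧸ E.subgroupOf (S ⊓ Subgroup.normalizer (E : Set Ω))) ≠ 1 := by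
      intro h
      rw [QuotientGroup.eq_one_iff] at h
      exact htE h
    obtain ⟨j, hj⟩ := mem_powers_of_prime_card hcard hne
      (g' := ((⟨g, hg⟩ : ↥(S ⊓ Subgroup.normalizer (E : Set Ω))) :
        ↥(S ⊓ Subgroup.normalizer (E : Set Ω)) ⧸ E.subgroupOf (S ⊓ Subgroup.normalizer (E : Set Ω))))
    have h1 : (((⟨t, ht⟩ : ↥(S ⊓ Subgroup.normalizer (E : Set Ω))) ^ j :
        ↥(S ⊓ Subgroup.normalizer (E : Set Ω))) :
        ↥(S ⊓ Subgroup.normalizer (E : Set Ω)) ⧸ E.subgroupOf (S ⊓ Subgroup.normalizer (E : Set Ω)))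
        = ((⟨g, hg⟩ : ↥(S ⊓ Subgroup.normalizer (E : Set Ω))) :
        ↥(S ⊓ Subgroup.normalizer (E : Set Ω)) ⧸ E.subgroupOf (S ⊓ Subgroup.normalizer (E : Set Ω))) := by
      rw [QuotientGroup.mk_pow]
      exact hj
    rw [QuotientGroup.eq] at h1
    have h2 : (t ^ j)⁻¹ * g ∈ E := by
      have := Subgroup.mem_subgroupOf.1 h1
      simpa using this
    exact ⟨j, ⟨_, h2⟩, by simp⟩
  have hnorm : ∀ g ∈ S ⊓ Subgroup.normalizer (E : Set Ω), ∃ g' ∈ S ⊓ Subgroup.normalizer (E : Set Ω),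
      ∀ z z' : E, (z' : Ω) = g * z * g⁻¹ → ((ah₀ z' : E) : Ω) = g' * (ah₀ z : Ω) * g'⁻¹ := by
    have hmul : ∀ g₁ g₂ : Ω, g₂ ∈ Subgroup.normalizer (E : Set Ω) →
        (∃ g' ∈ S ⊓ Subgroup.normalizer (E : Set Ω),
          ∀ z z' : E, (z' : Ω) = g₁ * z * g₁⁻¹ → ((ah₀ z' : E) : Ω) = g' * (ah₀ z : Ω) * g'⁻¹) →
        (∃ g' ∈ S ⊓ Subgroup.normalizer (E : Set Ω),
          ∀ z z' : E, (z' : Ω) = g₂ * z * g₂⁻¹ → ((ah₀ z' : E) : Ω) = g' * (ah₀ z : Ω) * g'⁻¹) →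
        (∃ g' ∈ S ⊓ Subgroup.normalizer (E : Set Ω),
          ∀ z z' : E, (z' : Ω) = (g₁ * g₂) * z * (g₁ * g₂)⁻¹ →
            ((ah₀ z' : E) : Ω) = g' * (ah₀ z : Ω) * g'⁻¹) := by
      rintro g₁ g₂ hg₂ ⟨g₁', hg₁', h₁⟩ ⟨g₂', hg₂', h₂⟩
      refine ⟨g₁' * g₂', Subgroup.mul_mem _ hg₁' hg₂', fun z z' hz => ?_⟩
      have hmem : g₂ * (z : Ω) * g₂⁻¹ ∈ E := (Subgroup.mem_normalizer_iff.1 hg₂ _).1 z.2
      have h3 := h₂ z ⟨_, hmem⟩ rfl
      have h4 := h₁ ⟨_, hmem⟩ z' (by rw [hz]; group)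
      rw [h4, h3]
      group
    have hE' : ∀ e₀ : E, ∃ g' ∈ S ⊓ Subgroup.normalizer (E : Set Ω),
          ∀ z z' : E, (z' : Ω) = (e₀ : Ω) * z * (e₀ : Ω)⁻¹ → ((ah₀ z' : E) : Ω) = g' * (ah₀ z : Ω) * g'⁻¹ := by
      intro e₀
      refine ⟨(ah₀ e₀ : E), hET (ah₀ e₀).2, fun z z' hz => ?_⟩
      have h1 : z' = e₀ * z * e₀⁻¹ := Subtype.ext hz
      rw [h1, map_mul, map_mul, map_inv]
      rfl
    have ht' : ∃ g' ∈ S ⊓ Subgroup.normalizer (E : Set Ω),
          ∀ z z' : E, (z' : Ω) = t * z * t⁻¹ → ((ah₀ z' : E) : Ω) = g' * (ah₀ z : Ω) * g'⁻¹ := by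
      refine ⟨_, hg₀, fun z z' hz => ?_⟩
      have h1 : z' = a z := Subtype.ext hz
      rw [h1, hrelc]
    have htj : ∀ j : ℕ, ∃ g' ∈ S ⊓ Subgroup.normalizer (E : Set Ω),
          ∀ z z' : E, (z' : Ω) = t ^ j * z * (t ^ j)⁻¹ → ((ah₀ z' : E) : Ω) = g' * (ah₀ z : Ω) * g'⁻¹ := by
      intro j
      induction j with
      | zero =>
        refine ⟨1, Subgroup.one_mem _, fun z z' hz => ?_⟩
        have h1 : z' = z := Subtype.ext (by simpa using hz)
        rw [h1]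
        simp
      | succ j ih =>
        rw [pow_succ]
        exact hmul _ _ ht.2 ih ht'
    intro g hg
    obtain ⟨j, e₀, rfl⟩ := hdecomp g hg
    exact hmul _ _ (hET e₀.2).2 (htj j) (hE' e₀)
  obtain ⟨hat, hhatF, hhatE⟩ := extend_hat hS hF hE ah₀ hahF hnorm
  let ψ := Subgroup.subgroupOfEquivOfLe hET
  have hFr : ∀ (x : E) (z : ↥(S ⊓ Subgroup.normalizer (E : Set Ω))), (z : Ω) = x → pr x = 0 →
      z ∈ Frat (E.subgroupOf (S ⊓ Subgroup.normalizer (E : Set Ω))) := fun x z h h0 =>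
    (TvDataAux.mem_Frat_subgroupOf hET z).2 ⟨x, (pr_zero x).1 h0, h.symm⟩
  have hS_y := hO.S_y
  have hS_l := hO.S_l
  have hS_w := hO.S_w
  have hT_l := hO.T_l hz0
  have hT_y := hO.T_y hz0
  have hT_w := hO.T_w lamz
  have hprah : ∀ x, pr (ah₀ x) = TvLinear.T₀ A B c lamz (pr x) := fun x => by
    rw [← hΦ, hahΦ]
  have hpras : ∀ x, pr (as₀ x) = TvLinear.W A B c 1 (pr x) := fun x => by
    rw [← hΦ, hasΦ]
  have hpra : ∀ x, pr (a x) = A (pr x) := fun x => (hΦ a x).symm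
  refine ⟨⟨xl, hET xl.2⟩, ⟨xy, hET xy.2⟩, ⟨xw, hET xw.2⟩, ψ.trans (ah₀.trans ψ.symm),
    ψ.trans (as₀.trans ψ.symm), lam, lam', hat, ?_, hhatF⟩
  refine
    { hl := Subgroup.mem_subgroupOf.2 xl.2
      hy := Subgroup.mem_subgroupOf.2 xy.2
      hw := Subgroup.mem_subgroupOf.2 xw.2
      ht := fun h => htE (Subgroup.mem_subgroupOf.1 h)
      idx := hidx
      rk := (TvDataAux.relIndex_Frat hET).trans hrk
      indep := ?_
      yt := ?_
      lt := ?_
      wt := ?_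
      lamlam := ?_
      lam2 := ?_
      lam3 := ?_
      lam5 := ?_
      ah_l := ?_
      ah_y := ?_
      ah_w := ?_
      as_y := ?_
      as_l := ?_
      as_w := ?_
      hat_E := ?_
      hat_t := ?_ }
  · intro i j k hmem
    obtain ⟨x, hx, hxe⟩ := (TvDataAux.mem_Frat_subgroupOf hET _).1 hmem
    have h1 : x = xl ^ i * xy ^ j * xw ^ k := by
      apply Subtype.ext
      simpa using hxe
    have h2 : pr x = 0 := (pr_zero x).2 hx
    rw [h1, pr_mul, pr_mul, pr_pow, pr_pow, pr_pow, hxl, hxy, hxw] at h2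
    obtain ⟨h3', h4, h5⟩ := hO.ind _ _ _ h2
    exact ⟨(ZMod.natCast_eq_zero_iff _ _).1 h3', (ZMod.natCast_eq_zero_iff _ _).1 h4,
      (ZMod.natCast_eq_zero_iff _ _).1 h5⟩
  · refine hFr (xy * (a xy)⁻¹ * xl⁻¹) _ ?_ ?_
    · simp [commutatorElement_def, ha_coe]
      group
    · rw [pr_mul, pr_mul, pr_inv, pr_inv, hpra, hxy, hxl, hO.Ay]
      abel
  · refine hFr (xl * (a xl)⁻¹) _ ?_ ?_
    · simp [commutatorElement_def, ha_coe]
      group
    · rw [pr_mul, pr_inv, hpra, hxl, hO.Al]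
      abel
  · refine hFr (xw * (a xw)⁻¹) _ ?_ ?_
    · simp [commutatorElement_def, ha_coe]
      group
    · rw [pr_mul, pr_inv, hpra, hxw, hO.Aw]
      abel
  · apply (ZMod.natCast_eq_natCast_iff _ _ _).1
    push_cast
    rw [hlamc, hlamc']
    exact mul_inv_cancel₀ hz0
  · intro h
    apply hz2
    have := (ZMod.natCast_eq_natCast_iff _ _ _).2 h
    push_cast at this
    rwa [hlamc] at this
  · intro h
    apply hz3
    have := (ZMod.natCast_eq_natCast_iff _ _ _).2 h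
    push_cast at this
    rwa [hlamc] at this
  · intro h
    apply hz5
    have := (ZMod.natCast_eq_natCast_iff _ _ _).2 h
    push_cast at this
    rwa [hlamc] at this
  · refine hFr (ah₀ xl * (xl ^ lam)⁻¹) _ ?_ ?_
    · simp
      rfl
    · rw [pr_mul, pr_inv, pr_pow, hprah, hxl, hT_l, hlamc]
      abel
  · refine hFr (ah₀ xy * (xy ^ lam')⁻¹) _ ?_ ?_
    · simp
      rfl
    · rw [pr_mul, pr_inv, pr_pow, hprah, hxy, hT_y, hlamc']
      abel
  · refine hFr (ah₀ xw * xw⁻¹) _ ?_ ?_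
    · simp
      rfl
    · rw [pr_mul, pr_inv, hprah, hxw, hT_w]
      abel
  · refine hFr (as₀ xy * xl⁻¹) _ ?_ ?_
    · simp
      rfl
    · rw [pr_mul, pr_inv, hpras, hxy, hS_y, hxl]
      abel
  · refine hFr (as₀ xl * xy) _ ?_ ?_
    · simp
      rfl
    · rw [pr_mul, hpras, hxy, hxl, hS_l]
      abel
  · refine hFr (as₀ xw * xw⁻¹) _ ?_ ?_
    · simp
      rfl
    · rw [pr_mul, pr_inv, hpras, hxw, hS_w]
      abel
  · intro z
    exact Subtype.ext (hhatE (ψ z) _)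
  · -- the value on `t`
    have hsurjah : ∀ w : E, ∃ z, ah₀ z = w := fun w => ⟨ah₀.symm w, by simp⟩
    set h₁ : Ω := ((hat ⟨t, ht⟩ : ↥(S ⊓ Subgroup.normalizer (E : Set Ω))) : Ω) with hh₁
    have hh₁mem : h₁ ∈ S ⊓ Subgroup.normalizer (E : Set Ω) := (hat ⟨t, ht⟩).2
    have h5 : ∀ z : E, ((ah₀ (a z) : E) : Ω) = h₁ * (ah₀ z : Ω) * h₁⁻¹ := by
      intro z
      have h6 : (⟨((a z : E) : Ω), hET (a z).2⟩ : ↥(S ⊓ Subgroup.normalizer (E : Set Ω)))
          = ⟨t, ht⟩ * ⟨(z : Ω), hET z.2⟩ * ⟨t, ht⟩⁻¹ := Subtype.ext rfl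
      have h7 := hhatE (a z) (hET (a z).2)
      rw [h6, map_mul, map_mul, map_inv] at h7
      rw [← h7]
      have h8 := hhatE z (hET z.2)
      simp only [Subgroup.coe_mul, InvMemClass.coe_inv]
      rw [h8]
    have h9 : ∀ w : E, ((e : Ω) * t ^ (lam ^ 2)) * (w : Ω) * ((e : Ω) * t ^ (lam ^ 2))⁻¹
        = h₁ * (w : Ω) * h₁⁻¹ := by
      intro w
      obtain ⟨z, rfl⟩ := hsurjah w
      rw [← h5, hrelc]
    have h10 : ((e : Ω) * t ^ (lam ^ 2))⁻¹ * h₁ ∈ centralizerIn S E := by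
      refine ⟨S.mul_mem (S.inv_mem hg₀.1) hh₁mem.1, Subgroup.mem_centralizer_iff.2 fun x hx => ?_⟩
      have h11 := h9 ⟨x, hx⟩
      have h12 : x = ((e : Ω) * t ^ (lam ^ 2))⁻¹ * (h₁ * x * h₁⁻¹) * ((e : Ω) * t ^ (lam ^ 2)) := by
        rw [← show ((e : Ω) * t ^ (lam ^ 2)) * x * ((e : Ω) * t ^ (lam ^ 2))⁻¹ = h₁ * x * h₁⁻¹ from h11]
        group
      calc x * (((e : Ω) * t ^ (lam ^ 2))⁻¹ * h₁)
          = ((e : Ω) * t ^ (lam ^ 2))⁻¹ * (h₁ * x * h₁⁻¹) * ((e : Ω) * t ^ (lam ^ 2)) *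
              (((e : Ω) * t ^ (lam ^ 2))⁻¹ * h₁) := by rw [← h12]
        _ = ((e : Ω) * t ^ (lam ^ 2))⁻¹ * h₁ * x := by group
    have h13 := hC h10
    have h14 : t ^ (lam ^ 2) * (((e : Ω) * t ^ (lam ^ 2))⁻¹ * h₁) * (t ^ (lam ^ 2))⁻¹ ∈ E :=
      (Subgroup.mem_normalizer_iff.1 (htn (lam ^ 2)).2 _).1 h13
    have h15 : h₁ * (t ^ (lam ^ 2))⁻¹ ∈ E := by
      have h16 : h₁ * (t ^ (lam ^ 2))⁻¹ =
          (e : Ω) * (t ^ (lam ^ 2) * (((e : Ω) * t ^ (lam ^ 2))⁻¹ * h₁) * (t ^ (lam ^ 2))⁻¹) := by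
        group
      rw [h16]
      exact E.mul_mem e.2 h14
    apply Subgroup.mem_subgroupOf.2
    simpa using h15

end Cfsg.Agent.Lib.S5180
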