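import Mathlib
import Cfsg.Agent.Lib.S5180.TvData
import Cfsg.Agent.Lib.S5180.IndexP

/-! Piece F4 of S5180: the configuration `Tv` on `N_S(E)` when `t` acts as a transvection. -/

set_option autoImplicit false

open scoped commutatorElement
open Cfsg Cfsg.FusionSystem

namespace Cfsg.Agent.Lib.S5180

universe u

variable {Ω : Type u} [Group Ω] {S : Subgroup Ω} [Finite S] {p : ℕ} [hp : Fact p.Prime]
  {F : FusionSystem S}

/-- F4 : exact stub form. -/
theorem exists_Tv (hp5 : 5 ≤ p) (hS : IsPGroup p S) (hF : F.IsSaturated p) {E : Subgroup Ω}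
    (hE : F.IsEssential p E) (hrk : (frattini E).index = p ^ 3) {t : Ω}
    (ht : t ∈ S ⊓ Subgroup.normalizer (E : Set Ω)) (htE : t ∉ E)
    (hJ : ∀ x ∈ E, ⁅⁅x, t⁆, t⁆ ∈ (frattini E).map E.subtype) :
    ∃ (l y w : ↥(S ⊓ Subgroup.normalizer (E : Set Ω)))
      (ah as' : MulAut ↥(E.subgroupOf (S ⊓ Subgroup.normalizer (E : Set Ω)))) (lam lam' : ℕ)
      (hat : MulAut ↥(S ⊓ Subgroup.normalizer (E : Set Ω))),
      Tv p (E.subgroupOf (S ⊓ Subgroup.normalizer (E : Set Ω))) l y w ⟨t, ht⟩ ah as' lam lam' hat ∧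
      (S ⊓ Subgroup.normalizer (E : Set Ω)).subtype.comp hat.toMonoidHom ∈
        F.Hom (S ⊓ Subgroup.normalizer (E : Set Ω)) :=
  exists_Tv_core hp5 hS hF hE hrk ht htE hJ (index_eq_p hp5 hS hF hE hrk)

end Cfsg.Agent.Lib.S5180
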