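import Cfsg.Agent.Lib.S5180.Defs
import Cfsg.Prelude.Def_FusionSystem
import Cfsg.Agent.Lib.Fusion.Saturated
import Cfsg.Agent.Lib.Basic.StrongP

/-! S5180 piece F1: passing to a conjugate of `E` with `N_S(E)` fully automized and receptive. -/

set_option autoImplicit false
set_option linter.unusedSectionVars false
set_option linter.unusedVariables false

open Cfsg

namespace Cfsg.Agent.Lib.S5180

universe u

namespace WlogAux

open Cfsg.FusionSystem Cfsg.Agent.Lib.Fusion.Basic Cfsg.Agent.Lib.Fusion.Saturated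

theorem strong_map {X X' : Type*} [Group X] [Group X'] [Finite X] [Finite X'] {p : ℕ} [Fact p.Prime]
    (e : X ≃* X') {M : Subgroup X} (h : IsStronglyPEmbedded p M) :
    IsStronglyPEmbedded p (M.map e.toMonoidHom) := by
  rw [Cfsg.Agent.Lib.Basic.StrongP.isStronglyPEmbedded_iff] at h ⊢
  obtain ⟨h1, h2, P, hP⟩ := h
  have hsurj : Function.Surjective e.toMonoidHom := e.surjective
  refine ⟨by rwa [← Nat.card_congr e.toEquiv], ?_, Sylow.mapSurjective hsurj P, ?_⟩
  · intro htop
    apply h2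
    rw [Subgroup.eq_top_iff']
    intro x
    have hx : e x ∈ M.map e.toMonoidHom := by rw [htop]; trivial
    obtain ⟨y, hy, hxy⟩ := hx
    have : y = x := e.injective hxy
    rwa [← this]
  · intro Q' hQ' hne g' hg'
    rw [Sylow.coe_mapSurjective] at hQ'
    have hmem : ∀ x : X, e x ∈ Q' → x ∈ (P : Subgroup X) := by
      intro x hx
      obtain ⟨y, hy, hxy⟩ := hQ' hx
      have : y = x := e.injective hxy
      rwa [← this]
    have hQle : Q'.comap e.toMonoidHom ≤ (P : Subgroup X) := fun x hx => hmem x hx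
    have hQne : Q'.comap e.toMonoidHom ≠ ⊥ := by
      intro hb
      apply hne
      rw [eq_bot_iff]
      intro y hy
      have h3 : e.symm y ∈ Q'.comap e.toMonoidHom := by
        show e (e.symm y) ∈ Q'
        simpa using hy
      rw [hb, Subgroup.mem_bot] at h3
      simpa using congrArg e h3
    have hn := hP _ hQle hQne
    have hg : e.symm g' ∈ Subgroup.normalizer ((Q'.comap e.toMonoidHom : Subgroup X) : Set X) := by
      rw [Subgroup.mem_normalizer_iff] at hg' ⊢
      intro h
      have := hg' (e h)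
      show e h ∈ Q' ↔ e (e.symm g' * h * (e.symm g')⁻¹) ∈ Q'
      simpa using this
    exact ⟨e.symm g', hn hg, by simp⟩

variable {Ω : Type u} [Group Ω] {S : Subgroup Ω} [Finite S] {p : ℕ} [Fact p.Prime] {F : FusionSystem S}

/-- The quotient part of essentiality transports along a map of the system. -/
theorem out_transport {P Q : Subgroup Ω} {φ : P →* Ω} (hφ : φ ∈ F.Hom P) (hQS : Q ≤ S) (e : P ≃* Q)
    (he : ∀ x : P, ((e x : Q) : Ω) = φ x)
    (h : ∃ _ : ((Inn P).subgroupOf (F.autGroup P)).Normal,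
      ∃ E : Subgroup (F.autGroup P ⧸ (Inn P).subgroupOf (F.autGroup P)), IsStronglyPEmbedded p E) :
    ∃ _ : ((Inn Q).subgroupOf (F.autGroup Q)).Normal,
      ∃ E : Subgroup (F.autGroup Q ⧸ (Inn Q).subgroupOf (F.autGroup Q)), IsStronglyPEmbedded p E := by
  obtain ⟨hN, M, hM⟩ := h
  have hPS : P ≤ S := source_le hφ
  have : Finite (F.autGroup P) := finite_autGroup hPS
  have : Finite (F.autGroup Q) := finite_autGroup hQS
  have hmap := map_congr_autGroup hφ e he
  let a : F.autGroup P ≃* F.autGroup Q :=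
    ((MulAut.congr e).subgroupMap (F.autGroup P)).trans (MulEquiv.subgroupCongr hmap)
  have ha : ∀ x : F.autGroup P, ((a x : F.autGroup Q) : MulAut Q) = MulAut.congr e (x : MulAut P) :=
    fun x => rfl
  have hN' : ((Inn Q).subgroupOf (F.autGroup Q)).Normal := inferInstance
  have hcongr : ((Inn P).subgroupOf (F.autGroup P)).map a.toMonoidHom = (Inn Q).subgroupOf (F.autGroup Q) := by
    ext y
    constructor
    · rintro ⟨x, hx, rfl⟩
      obtain ⟨g, hg⟩ := (Subgroup.mem_subgroupOf.1 hx)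
      refine Subgroup.mem_subgroupOf.2 ⟨e g, ?_⟩
      show MulAut.conj (e g) = ((a x : F.autGroup Q) : MulAut Q)
      rw [ha, ← hg]
      ext z
      simp [MulAut.congr_apply]
    · intro hy
      obtain ⟨g, hg⟩ := (Subgroup.mem_subgroupOf.1 hy)
      refine ⟨a.symm y, Subgroup.mem_subgroupOf.2 ⟨e.symm g, ?_⟩, by simp⟩
      have h1 : ((a (a.symm y) : F.autGroup Q) : MulAut Q) = MulAut.congr e ((a.symm y : F.autGroup P) : MulAut P) :=
        ha _
      rw [MulEquiv.apply_symm_apply] at h1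
      show MulAut.conj (e.symm g) = ((a.symm y : F.autGroup P) : MulAut P)
      apply (MulAut.congr e).injective
      rw [← h1, ← hg]
      ext z
      simp [MulAut.congr_apply]
  have : Finite (F.autGroup P ⧸ (Inn P).subgroupOf (F.autGroup P)) := inferInstance
  have : Finite (F.autGroup Q ⧸ (Inn Q).subgroupOf (F.autGroup Q)) := inferInstance
  exact ⟨hN', _, strong_map (QuotientGroup.congr _ _ a hcongr) hM⟩

/-- Frattini index under an isomorphism. -/
theorem frattini_index_congr {A B : Type*} [Group A] [Group B] (e : A ≃* B) :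
    (frattini B).index = (frattini A).index := by
  have h1 : frattini A ≤ (frattini B).comap e.toMonoidHom :=
    frattini_le_comap_frattini_of_surjective e.surjective
  have h2 : frattini B ≤ (frattini A).comap e.symm.toMonoidHom :=
    frattini_le_comap_frattini_of_surjective e.symm.surjective
  have h3 : (frattini A).map e.toMonoidHom = frattini B := by
    apply le_antisymm
    · rintro _ ⟨x, hx, rfl⟩
      exact h1 hx
    · intro y hy
      exact ⟨e.symm y, h2 hy, by simp⟩
  rw [← h3]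
  exact Subgroup.index_map_equiv _ e

end WlogAux

open Cfsg.FusionSystem Cfsg.Agent.Lib.Fusion.Basic Cfsg.Agent.Lib.Fusion.Saturated WlogAux in
/-- F1 : Lib/S5180/Wlog.lean. PLAN §F. -/
theorem exists_good_conj {Ω : Type u} [Group Ω] {S : Subgroup Ω} [Finite S] {p : ℕ} [Fact p.Prime]
    {F : FusionSystem S} (hS : IsPGroup p S) (hF : F.IsSaturated p) {E : Subgroup Ω}
    (hE : F.IsEssential p E) (hrk : (frattini E).index = p ^ 3)
    (hn : ¬ S ≤ Subgroup.normalizer (E : Set Ω)) :
    ∃ E' : Subgroup Ω, F.IsEssential p E' ∧ (frattini E').index = p ^ 3 ∧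
      ¬ S ≤ Subgroup.normalizer (E' : Set Ω) ∧ F.IsFullyAutomized p (S ⊓ Subgroup.normalizer (E' : Set Ω)) ∧
      F.IsReceptive (S ⊓ Subgroup.normalizer (E' : Set Ω)) := by
  classical
  obtain ⟨hC, hFN, hOut⟩ := hE
  have hES : E ≤ S := hC.1
  set T : Subgroup Ω := S ⊓ Subgroup.normalizer (E : Set Ω) with hT
  have hTS : T ≤ S := inf_le_left
  have hET : E ≤ T := le_inf hES Subgroup.le_normalizer
  obtain ⟨Q, ⟨φ, hφ, hφr⟩, hQa, hQr⟩ := hF T hTS
  have hQS : Q ≤ S := hQa.1
  have hinj : Function.Injective φ := F.injective_of_mem hφ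
  -- the conjugate
  set φE : E →* Ω := φ.comp (Subgroup.inclusion hET) with hφE
  have hφEm : φE ∈ F.Hom E := res_mem hφ hET
  set E' : Subgroup Ω := φE.range with hE'
  have hE'S : E' ≤ S := range_le hφEm
  have hinjE : Function.Injective φE := F.injective_of_mem hφEm
  let e : E ≃* E' := isoOfRange hinjE rfl
  have he : ∀ x : E, ((e x : E') : Ω) = φE x := fun x => rfl
  have hcE : F.IsConj E E' := ⟨φE, hφEm, rfl⟩
  -- `Q` normalizes `E'`
  have hQN : Q ≤ S ⊓ Subgroup.normalizer (E' : Set Ω) := by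
    intro q hq
    refine ⟨hQS hq, ?_⟩
    rw [← hφr] at hq
    obtain ⟨t, rfl⟩ := hq
    have htN : (t : Ω) ∈ Subgroup.normalizer (E : Set Ω) := (t.2 : (t : Ω) ∈ T).2
    have hfin : Finite E' := Finite.of_injective (fun x : E' => (⟨x, hE'S x.2⟩ : S))
      (fun a b h => Subtype.ext (congrArg (fun z : S => (z : Ω)) h))
    show φ t ∈ Subgroup.normalizer ((E' : Subgroup Ω) : Set Ω)
    rw [Subgroup.mem_normalizer_iff]
    intro y
    have key : ∀ x : E, φ t * φE x * (φ t)⁻¹ ∈ E' := by
      intro x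
      have hx : (t : Ω) * x * (t : Ω)⁻¹ ∈ E := (Subgroup.mem_normalizer_iff.1 htN x).1 x.2
      refine ⟨⟨_, hx⟩, ?_⟩
      show φ (Subgroup.inclusion hET ⟨_, hx⟩) = _
      have h2 : Subgroup.inclusion hET (⟨(t : Ω) * x * (t : Ω)⁻¹, hx⟩ : E) =
          t * Subgroup.inclusion hET x * t⁻¹ := rfl
      rw [h2, map_mul, map_mul, map_inv]
      rfl
    have key' : ∀ x : E, (φ t)⁻¹ * φE x * φ t ∈ E' := by
      intro x
      have hx : (t : Ω)⁻¹ * x * (t : Ω) ∈ E := by
        have := (Subgroup.mem_normalizer_iff.1 (Subgroup.inv_mem _ htN) x).1 x.2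
        simpa using this
      refine ⟨⟨_, hx⟩, ?_⟩
      show φ (Subgroup.inclusion hET ⟨_, hx⟩) = _
      have h2 : Subgroup.inclusion hET (⟨(t : Ω)⁻¹ * x * (t : Ω), hx⟩ : E) =
          t⁻¹ * Subgroup.inclusion hET x * t := rfl
      rw [h2, map_mul, map_mul, map_inv]
      rfl
    constructor
    · rintro ⟨x, rfl⟩
      exact key x
    · intro hy
      obtain ⟨x, hx⟩ := hy
      have h4 : y = (φ t)⁻¹ * φE x * φ t := by
        rw [hx]; group
      rw [h4]
      exact key' x
  -- sizes
  have hfinN : ∀ A : Subgroup Ω, A ≤ S → Finite A := fun A hA =>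
    Finite.of_injective (fun x : A => (⟨x, hA x.2⟩ : S))
      (fun a b h => Subtype.ext (congrArg (fun z : S => (z : Ω)) h))
  have hcardTQ : Nat.card T = Nat.card Q := card_eq_of_range hφ hφr
  have hle := hFN.2 E' hcE
  have hNeq : S ⊓ Subgroup.normalizer (E' : Set Ω) = Q := by
    have := hfinN _ (inf_le_left : S ⊓ Subgroup.normalizer (E' : Set Ω) ≤ S)
    refine (Subgroup.eq_of_le_of_card_ge hQN ?_).symm
    have : Nat.card (S ⊓ Subgroup.normalizer (E' : Set Ω) : Subgroup Ω) ≤ Nat.card T := hle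
    rw [hcardTQ] at this
    exact this
  refine ⟨E', ⟨⟨hE'S, ?_⟩, ⟨hE'S, ?_⟩, out_transport hφEm hE'S e he hOut⟩, ?_, ?_, by rwa [hNeq], by rwa [hNeq]⟩
  · intro R hR
    exact hC.2 R (Cfsg.Agent.Lib.Fusion.Basic.IsConj.trans hcE hR)
  · intro R hR
    have h1 := hFN.2 R (Cfsg.Agent.Lib.Fusion.Basic.IsConj.trans hcE hR)
    have h2 : normalizerIn S E' = Q := hNeq
    rw [h2, ← hcardTQ]
    exact h1
  · rw [frattini_index_congr e]
    exact hrk
  · intro hSN
    apply hn
    have h1 : S ⊓ Subgroup.normalizer (E' : Set Ω) = S := inf_eq_left.2 hSN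
    have h2 : Q = S := by rw [← hNeq]; exact h1
    have h3 : Nat.card T = Nat.card S := by rw [hcardTQ, h2]
    have := hfinN S le_rfl
    have h4 : T = S := Subgroup.eq_of_le_of_card_ge hTS (le_of_eq h3.symm)
    intro s hs
    rw [← h4] at hs
    exact hs.2

end Cfsg.Agent.Lib.S5180
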